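import Groth.Agent.PerfD40.PCTri
import Groth.Agent.KFlatLib.Scheme.QCohDerived
import Groth.Agent.KFlatLib.Perfect.Basic

/-!
# Derived tensor products preserve approximations
-/

set_option linter.style.haveILetI false

universe v u

open CategoryTheory CategoryTheory.Limits Pretriangulated AlgebraicGeometry

attribute [local instance] HasDerivedCategory.standard

namespace Groth.Agent.PerfD40

open Groth.Agent.KFlatLib

section Abelian

variable {C : Type*} [Category C] [Abelian C]

/-- Approximations of complexes in terms of their homology maps. -/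
lemma isPcMap_Q_iff (m : ℤ) {F G : CochainComplex C ℤ} (φ : F ⟶ G) :
    IsPcMap m (DerivedCategory.Q.map φ) ↔
      (∀ i, m < i → IsIso (HomologicalComplex.homologyMap φ i)) ∧
        Epi (HomologicalComplex.homologyMap φ m) := by
  let η := DerivedCategory.homologyFunctorFactors C
  refine and_congr (forall₂_congr fun i _ => NatIso.isIso_map_iff (η i) φ) ?_
  exact (MorphismProperty.epimorphisms C).arrow_mk_iso_iff
    (Arrow.isoMk (f := Arrow.mk ((DerivedCategory.Q ⋙ DerivedCategory.homologyFunctor C m).map φ))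
      (g := Arrow.mk ((HomologicalComplex.homologyFunctor C (ComplexShape.up ℤ) m).map φ))
      ((η m).app F) ((η m).app G) ((η m).hom.naturality φ).symm)

/-- In a short exact sequence of complexes, the first map is an approximation exactly when the cokernel
has no high cohomology. -/
lemma isPcMap_f_iff {S : ShortComplex (CochainComplex C ℤ)} (hS : S.ShortExact) (m : ℤ) :
    IsPcMap m (DerivedCategory.Q.map S.f) ↔ ∀ i, m ≤ i → IsZero (S.X₃.homology i) := by
  rw [isPcMap_Q_iff]
  constructor
  · rintro ⟨hiso, hepi⟩ i hi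
    haveI : Epi (HomologicalComplex.homologyMap S.f i) := by
      rcases eq_or_lt_of_le hi with h | h
      · exact h ▸ hepi
      · haveI := hiso i h; infer_instance
    haveI := hiso (i + 1) (by omega)
    exact (hS.homology_exact₃ i (i + 1) rfl).isZero_X₂
      ((cancel_epi (HomologicalComplex.homologyMap S.f i)).1 (by
        rw [comp_zero, ← HomologicalComplex.homologyMap_comp, S.zero,
          HomologicalComplex.homologyMap_zero]))
      ((cancel_mono (HomologicalComplex.homologyMap S.f (i + 1))).1 (by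
        rw [zero_comp]; exact hS.δ_comp i (i + 1) rfl))
  · intro hz
    have he : ∀ i, m ≤ i → Epi (HomologicalComplex.homologyMap S.f i) := fun i hi =>
      (hS.homology_exact₂ i).epi_f ((hz i hi).eq_of_tgt _ _)
    refine ⟨fun i hi => ?_, he m le_rfl⟩
    haveI := he i hi.le
    haveI : Mono (HomologicalComplex.homologyMap S.f i) :=
      (hS.homology_exact₁ (i - 1) i (by simp)).mono_g ((hz (i - 1) (by omega)).eq_of_src _ _)
    exact isIso_of_mono_of_epi _

end Abelian

variable {X : Scheme.{u}}

/-- Homology of a tensor product with a K-flat complex bounded above. -/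
lemma isZero_homology_tensor_of_isLE {C K : CochainComplex X.Modules ℤ} (hC : DCoh.IsKFlat C)
    {a b : ℤ} [C.IsLE a] [K.IsLE b] (i : ℤ) (hi : a + b < i) :
    IsZero (((DCoh.tensorCx.flip.obj K).obj C).homology i) := by
  obtain ⟨R, ρ, hρ, hRle, hR⟩ := exists_flat_rep C a
  obtain ⟨R', ρ', hρ', hR'le, -⟩ := exists_flat_rep K b
  haveI := hρ
  haveI := hρ'
  haveI := hRle
  haveI := hR'le
  haveI : QuasiIso ((DCoh.tensorCx.flip.obj K).map ρ) := quasiIso_tensorCx_flip_of_isKFlat ρ hR hC K
  haveI : QuasiIso ((DCoh.tensorCx.obj R).map ρ') := KFlat.quasiIso_map' (tensorBiFlipIso X) hR ρ'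
  exact ((ShortComplex.isZero_homology_of_isZero_X₂ _ (isZero_tensorCx_X R R' a b i hi)).of_iso
    (isoOfQuasiIsoAt ((DCoh.tensorCx.obj R).map ρ') i).symm).of_iso
    (isoOfQuasiIsoAt ((DCoh.tensorCx.flip.obj K).map ρ) i).symm

/-- Tensoring with an object bounded above respects approximations. -/
theorem isPcMap_tensor_flat {F G : CochainComplex X.Modules ℤ} (φ : F ⟶ G) (hF : DCoh.IsKFlat F)
    (hG : DCoh.IsKFlat G) {m : ℤ} (h : IsPcMap m (DerivedCategory.Q.map φ))
    (K : CochainComplex X.Modules ℤ) {b : ℤ} [K.IsLE b] :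
    IsPcMap (m + b) (DerivedCategory.Q.map ((DCoh.tensorCx.flip.obj K).map φ)) := by
  let Φ := DCoh.tensorCx.flip.obj K
  let e := homotopyEquivFst (G := G) (CochainComplex.mappingCone.homotopyToZeroOfId F)
  have hφ : φ = embedCone φ ≫ e.hom := by simp [e, homotopyEquivFst, embedCone]
  haveI : IsIso (DerivedCategory.Q.map e.hom) := isIso_Q_map _ e.quasiIso_hom
  let e' : HomotopyEquiv (Φ.obj (G ⊞ CochainComplex.mappingCone (𝟙 F))) (Φ.obj G) :=
    { hom := Φ.map e.hom
      inv := Φ.map e.inv
      homotopyHomInvId := (Homotopy.ofEq (by rw [Functor.map_comp])).trans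
        ((nonempty_homotopy₁ DCoh.tensorBi K e.homotopyHomInvId).some.trans
          (Homotopy.ofEq (Φ.map_id _)))
      homotopyInvHomId := (Homotopy.ofEq (by rw [Functor.map_comp])).trans
        ((nonempty_homotopy₁ DCoh.tensorBi K e.homotopyInvHomId).some.trans
          (Homotopy.ofEq (Φ.map_id _))) }
  haveI : IsIso (DerivedCategory.Q.map (Φ.map e.hom)) := isIso_Q_map _ e'.quasiIso_hom
  have hS : ((embedConeSeq φ).map Φ).ShortExact :=
    shortExact₁_of_splitting (T := DCoh.tensorBi) K _ fun n => ⟨embedConeSplitting φ n⟩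
  have h' : IsPcMap m (DerivedCategory.Q.map (embedConeSeq φ).f) := by
    have := h.comp_iso (𝟙 _) (inv (DerivedCategory.Q.map e.hom))
    rw [congrArg DerivedCategory.Q.map hφ, Functor.map_comp] at this
    simpa using this
  haveI : (cokernel (embedCone φ)).IsLE (m - 1) := by
    rw [CochainComplex.isLE_iff]
    exact fun i hi => (HomologicalComplex.exactAt_iff_isZero_homology _ _).2
      ((isPcMap_f_iff (embedConeSeq_shortExact φ) m).1 h' i (by omega))
  have h'' : IsPcMap (m + b) (DerivedCategory.Q.map (Φ.map (embedCone φ))) :=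
    (isPcMap_f_iff hS (m + b)).2 fun i hi => isZero_homology_tensor_of_isLE (a := m - 1) (b := b)
      (kFlat_cokernel_embedCone (T := DCoh.tensorBi) φ hF hG) i (by omega)
  rw [congrArg Φ.map hφ, Functor.map_comp, Functor.map_comp]
  exact h''.comp (isPcMap_of_isIso _ _)

/-- The derived tensor product with an object bounded above respects approximations. -/
theorem isPcMap_ltensor (K : CochainComplex X.Modules ℤ) [DCoh.HasLTensorCx K] {b : ℤ} [K.IsLE b]
    {m : ℤ} {P E : DCoh.D X} (α : P ⟶ E) (h : IsPcMap m α) :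
    IsPcMap (m + b) ((DCoh.LTensorCx K).map α) := by
  let η := (DCoh.tensorCxQ K).totalLeftDerivedCounit DerivedCategory.Q (qisX X)
  let eP := DerivedCategory.Q.objObjPreimageIso P
  let eE := DerivedCategory.Q.objObjPreimageIso E
  obtain ⟨F, s, hs, φ, hfac⟩ := DerivedCategory.right_fac (eP.hom ≫ α ≫ eE.inv)
  haveI := hs
  let φ' := (kRes X).map φ
  have hnat : DerivedCategory.Q.map φ' ≫ (resQIso X).hom.app _ =
      (resQIso X).hom.app F ≫ DerivedCategory.Q.map φ := (resQIso X).hom.naturality φ
  have hα : α = (eP.inv ≫ inv (DerivedCategory.Q.map s) ≫ (resQIso X).inv.app F) ≫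
      DerivedCategory.Q.map φ' ≫ ((resQIso X).hom.app _ ≫ eE.hom) := by
    simp only [Category.assoc]
    rw [reassoc_of% hnat, Iso.inv_hom_id_app_assoc, ← reassoc_of% hfac]
    simp
  have h' : IsPcMap m (DerivedCategory.Q.map φ') := by
    rw [hα] at h
    exact (isPcMap_comp_iso_iff _ _ _).1 h
  haveI := isIso_LTensorCx_counit K (isKFlat_kRes F)
  haveI := isIso_LTensorCx_counit K (isKFlat_kRes (DerivedCategory.Q.objPreimage E))
  have hL : (DCoh.LTensorCx K).map (DerivedCategory.Q.map φ') = η.app ((kRes X).obj F) ≫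
      DerivedCategory.Q.map ((DCoh.tensorCx.flip.obj K).map φ') ≫
        inv (η.app ((kRes X).obj (DerivedCategory.Q.objPreimage E))) := by
    rw [← Category.assoc, IsIso.eq_comp_inv]
    exact η.naturality φ'
  rw [hα, Functor.map_comp (DCoh.LTensorCx K) (eP.inv ≫ _), Functor.map_comp (DCoh.LTensorCx K) (DerivedCategory.Q.map φ'), hL]
  exact (((isPcMap_tensor_flat φ' (isKFlat_kRes _) (isKFlat_kRes _) h' K).comp_iso _ _).comp_iso _ _)

end Groth.Agent.PerfD40
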