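import Groth.Agent.KFlatLib.Scheme.QCohD
import Mathlib.CategoryTheory.Triangulated.TStructure.TruncLEGT

/-!
# Canonical truncations of objects with quasi-coherent cohomology
-/

set_option linter.style.haveILetI false

universe u

open CategoryTheory CategoryTheory.Limits AlgebraicGeometry Pretriangulated

attribute [local instance] HasDerivedCategory.standard

namespace Groth.Agent.PerfD40

open Groth.Agent.KFlatLib

variable {X : Scheme.{u}}

/-- The t-structure of `D(X)`. -/
noncomputable abbrev tS (X : Scheme.{u}) : Triangulated.TStructure (DCoh.D X) :=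
  DerivedCategory.TStructure.t

lemma isLE_truncLT (E : DCoh.D X) (n : ℤ) : ((tS X).truncLT n).obj E |>.IsLE (n - 1) :=
  inferInstanceAs ((tS X).IsLE (((tS X).triangleLTGE n).obj E).obj₁ (n - 1))

lemma isGE_truncGE (E : DCoh.D X) (n : ℤ) : ((tS X).truncGE n).obj E |>.IsGE n :=
  (tS X).isGE_truncGE_obj ..

lemma isZero_hd_truncLT (E : DCoh.D X) (n i : ℤ) (h : n ≤ i) :
    IsZero (DCoh.HD (((tS X).truncLT n).obj E) i) :=
  haveI := isLE_truncLT E n
  DerivedCategory.isZero_of_isLE _ (n - 1) i (by omega)

lemma isZero_hd_truncGE (E : DCoh.D X) (n i : ℤ) (h : i < n) :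
    IsZero (DCoh.HD (((tS X).truncGE n).obj E) i) :=
  haveI := isGE_truncGE E n
  DerivedCategory.isZero_of_isGE _ n i h

lemma isQCohD_truncLT {E : DCoh.D X} (hE : DCoh.IsQCohD E) (n : ℤ) :
    DCoh.IsQCohD (((tS X).truncLT n).obj E) := fun i => by
  by_cases hi : n ≤ i
  · exact isQCoh_of_isZero (isZero_hd_truncLT E n i hi)
  have hT := (tS X).triangleLTGE_distinguished n E
  haveI : Mono ((DerivedCategory.homologyFunctor X.Modules i).map
      (((tS X).triangleLTGE n).obj E).mor₁) :=
    (DerivedCategory.HomologySequence.exact₁ _ hT (i - 1) i (by omega)).mono_g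
      ((isZero_hd_truncGE E n (i - 1) (by omega)).eq_of_src _ _)
  haveI : Epi ((DerivedCategory.homologyFunctor X.Modules i).map
      (((tS X).triangleLTGE n).obj E).mor₁) :=
    (DerivedCategory.HomologySequence.exact₂ _ hT i).epi_f
      ((isZero_hd_truncGE E n i (by omega)).eq_of_tgt _ _)
  haveI := isIso_of_mono_of_epi ((DerivedCategory.homologyFunctor X.Modules i).map
      (((tS X).triangleLTGE n).obj E).mor₁)
  exact isQCoh_of_iso (asIso ((DerivedCategory.homologyFunctor X.Modules i).map
      (((tS X).triangleLTGE n).obj E).mor₁)).symm (hE i)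

lemma isQCohD_truncGE {E : DCoh.D X} (hE : DCoh.IsQCohD E) (n : ℤ) :
    DCoh.IsQCohD (((tS X).truncGE n).obj E) := fun i => by
  by_cases hi : i < n
  · exact isQCoh_of_isZero (isZero_hd_truncGE E n i hi)
  have hT := (tS X).triangleLTGE_distinguished n E
  have hm : Mono ((DerivedCategory.homologyFunctor X.Modules i).map
      (((tS X).triangleLTGE n).obj E).mor₂) :=
    (DerivedCategory.HomologySequence.exact₂ _ hT i).mono_g
      ((isZero_hd_truncLT E n i (by omega)).eq_of_src _ _)
  have he : Epi ((DerivedCategory.homologyFunctor X.Modules i).map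
      (((tS X).triangleLTGE n).obj E).mor₂) :=
    (DerivedCategory.HomologySequence.exact₃ _ hT i (i + 1) rfl).epi_f
      ((isZero_hd_truncLT E n (i + 1) (by omega)).eq_of_tgt _ _)
  exact isQCoh_of_iso (@asIso _ _ _ _ ((DerivedCategory.homologyFunctor X.Modules i).map
      (((tS X).triangleLTGE n).obj E).mor₂) (@isIso_of_mono_of_epi _ _ _ _ _ _ hm he)) (hE i)

lemma isIso_hd_truncLTι (E : DCoh.D X) (n i : ℤ) (hi : i < n) :
    IsIso ((DerivedCategory.homologyFunctor X.Modules i).map (((tS X).truncLTι n).app E)) := by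
  have hT := (tS X).triangleLTGE_distinguished n E
  have hm : Mono ((DerivedCategory.homologyFunctor X.Modules i).map (((tS X).truncLTι n).app E)) :=
    (DerivedCategory.HomologySequence.exact₁ _ hT (i - 1) i (by omega)).mono_g
      ((isZero_hd_truncGE E n (i - 1) (by omega)).eq_of_src _ _)
  have he : Epi ((DerivedCategory.homologyFunctor X.Modules i).map (((tS X).truncLTι n).app E)) :=
    (DerivedCategory.HomologySequence.exact₂ _ hT i).epi_f
      ((isZero_hd_truncGE E n i hi).eq_of_tgt _ _)
  exact isIso_of_mono_of_epi _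

lemma isIso_hd_truncGEπ (E : DCoh.D X) (n i : ℤ) (hi : n ≤ i) :
    IsIso ((DerivedCategory.homologyFunctor X.Modules i).map (((tS X).truncGEπ n).app E)) := by
  have hT := (tS X).triangleLTGE_distinguished n E
  have hm : Mono ((DerivedCategory.homologyFunctor X.Modules i).map (((tS X).truncGEπ n).app E)) :=
    (DerivedCategory.HomologySequence.exact₂ _ hT i).mono_g
      ((isZero_hd_truncLT E n i hi).eq_of_src _ _)
  have he : Epi ((DerivedCategory.homologyFunctor X.Modules i).map (((tS X).truncGEπ n).app E)) :=
    (DerivedCategory.HomologySequence.exact₃ _ hT i (i + 1) rfl).epi_f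
      ((isZero_hd_truncLT E n (i + 1) (by omega)).eq_of_tgt _ _)
  exact isIso_of_mono_of_epi _

/-- `τ_{<n} u` is invertible iff `u` is in degrees `< n`. -/
lemma isIso_truncLT_map_iff {E F : DCoh.D X} (u : E ⟶ F) (n : ℤ) :
    IsIso (((tS X).truncLT n).map u) ↔
      ∀ i < n, IsIso ((DerivedCategory.homologyFunctor X.Modules i).map u) := by
  rw [DerivedCategory.isIso_iff]
  have hn : ((tS X).truncLT n).map u ≫ ((tS X).truncLTι n).app F = ((tS X).truncLTι n).app E ≫ u :=
    ((tS X).truncLTι n).naturality u
  constructor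
  · intro h i hi
    haveI := h i
    haveI := isIso_hd_truncLTι E n i hi
    haveI := isIso_hd_truncLTι F n i hi
    have hc := congrArg (DerivedCategory.homologyFunctor X.Modules i).map hn
    rw [Functor.map_comp, Functor.map_comp] at hc
    exact IsIso.of_isIso_fac_left hc.symm
  · intro h i
    by_cases hi : i < n
    · haveI := h i hi
      haveI := isIso_hd_truncLTι E n i hi
      haveI := isIso_hd_truncLTι F n i hi
      have hc := congrArg (DerivedCategory.homologyFunctor X.Modules i).map hn
      rw [Functor.map_comp, Functor.map_comp] at hc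
      exact IsIso.of_isIso_fac_right hc
    · exact ⟨0, (isZero_hd_truncLT E n i (by omega)).eq_of_src _ _,
        (isZero_hd_truncLT F n i (by omega)).eq_of_src _ _⟩

/-- `τ_{≥ n} u` is invertible iff `u` is in degrees `≥ n`. -/
lemma isIso_truncGE_map_iff {E F : DCoh.D X} (u : E ⟶ F) (n : ℤ) :
    IsIso (((tS X).truncGE n).map u) ↔
      ∀ i, n ≤ i → IsIso ((DerivedCategory.homologyFunctor X.Modules i).map u) := by
  rw [DerivedCategory.isIso_iff]
  have hn : u ≫ ((tS X).truncGEπ n).app F = ((tS X).truncGEπ n).app E ≫ ((tS X).truncGE n).map u :=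
    ((tS X).truncGEπ n).naturality u
  constructor
  · intro h i hi
    haveI := h i
    haveI := isIso_hd_truncGEπ E n i hi
    haveI := isIso_hd_truncGEπ F n i hi
    have hc := congrArg (DerivedCategory.homologyFunctor X.Modules i).map hn
    rw [Functor.map_comp, Functor.map_comp] at hc
    exact IsIso.of_isIso_fac_right hc
  · intro h i
    by_cases hi : n ≤ i
    · haveI := h i hi
      haveI := isIso_hd_truncGEπ E n i hi
      haveI := isIso_hd_truncGEπ F n i hi
      have hc := congrArg (DerivedCategory.homologyFunctor X.Modules i).map hn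
      rw [Functor.map_comp, Functor.map_comp] at hc
      exact IsIso.of_isIso_fac_left hc.symm
    · exact ⟨0, (isZero_hd_truncGE E n i (by omega)).eq_of_src _ _,
        (isZero_hd_truncGE F n i (by omega)).eq_of_src _ _⟩

section Fibre

variable {C E F : DCoh.D X} {ι : C ⟶ E} {u : E ⟶ F} {δ : F ⟶ C⟦(1 : ℤ)⟧}
  (hT : Triangle.mk ι u δ ∈ distTriang _)

include hT

/-- The map is invertible in a degree around which the fibre is acyclic. -/
lemma isIso_hd_of_isZero_fibre (i : ℤ) (h₀ : IsZero (DCoh.HD C i)) (h₁ : IsZero (DCoh.HD C (i + 1))) :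
    IsIso ((DerivedCategory.homologyFunctor X.Modules i).map u) := by
  have hm : Mono ((DerivedCategory.homologyFunctor X.Modules i).map u) :=
    (DerivedCategory.HomologySequence.exact₂ _ hT i).mono_g (h₀.eq_of_src _ _)
  have he : Epi ((DerivedCategory.homologyFunctor X.Modules i).map u) :=
    (DerivedCategory.HomologySequence.exact₃ _ hT i (i + 1) rfl).epi_f (h₁.eq_of_tgt _ _)
  exact isIso_of_mono_of_epi _

/-- A monomorphism on `H^i` kills what comes from the fibre. -/
lemma map_fibre_eq_zero_of_mono (i : ℤ) [Mono ((DerivedCategory.homologyFunctor X.Modules i).map u)] :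
    (DerivedCategory.homologyFunctor X.Modules i).map ι = 0 := by
  apply (cancel_mono ((DerivedCategory.homologyFunctor X.Modules i).map u)).1
  rw [zero_comp, ← Functor.map_comp,
    show ι ≫ u = 0 from comp_distTriang_mor_zero₁₂ _ hT, Functor.map_zero]

/-- The fibre is acyclic in degrees where the map is injective and surjective one below. -/
lemma isZero_fibre (i : ℤ) [Mono ((DerivedCategory.homologyFunctor X.Modules i).map u)]
    [Epi ((DerivedCategory.homologyFunctor X.Modules (i - 1)).map u)] : IsZero (DCoh.HD C i) := by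
  refine (DerivedCategory.HomologySequence.exact₁ _ hT (i - 1) i (by omega)).isZero_X₂ ?_
    (map_fibre_eq_zero_of_mono hT i)
  exact (cancel_epi ((DerivedCategory.homologyFunctor X.Modules (i - 1)).map u)).1
    ((DerivedCategory.HomologySequence.comp_δ _ hT (i - 1) i (by omega)).trans comp_zero.symm)

end Fibre

end Groth.Agent.PerfD40
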