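import Groth.Agent.PerfD40.HomBound
import Groth.Agent.PerfD40.Trunc
import Groth.Agent.KFlatLib.Scheme.CompactGlobal
import Groth.Prelude.Def_PerfAux

/-!
# Perfect objects are compact in `D_QCoh`
-/

set_option linter.style.haveILetI false
set_option backward.isDefEq.respectTransparency false

universe u

open CategoryTheory CategoryTheory.Limits CategoryTheory.Pretriangulated AlgebraicGeometry

attribute [local instance] HasDerivedCategory.standard

namespace Groth.Agent.PerfD40

open Groth.Agent.KFlatLib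

variable {X : Scheme.{u}}

/-- Finite supports give the bijection defining compactness. -/
lemma bijective_homSum_of_fixAt {K : DCoh.D X} {J : Type u} (N : J → DCoh.D X) [HasCoproduct N]
    (h : FixAt N K) : Function.Bijective (PerfAux.homSumToHomCoprod K N) := by
  classical
  let p : ∀ j, ∐ N ⟶ N j := fun j =>
    Sigma.desc fun i => if h : i = j then eqToHom (congrArg N h) else 0
  have hp : ∀ j, Sigma.ι N j ≫ p j = 𝟙 _ := fun j => by simp [p]
  have hp' : ∀ i j, i ≠ j → Sigma.ι N i ≫ p j = 0 := fun i j hij => by simp [p, hij]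
  have hof : ∀ i (g : K ⟶ N i),
      PerfAux.homSumToHomCoprod K N (DirectSum.of _ i g) = g ≫ Sigma.ι N i := fun i g => by
    simp [PerfAux.homSumToHomCoprod, Preadditive.rightComp]
  refine ⟨(injective_iff_map_eq_zero _).2 fun x hx => ?_, fun φ => ?_⟩
  · ext j
    have key : ∀ y, PerfAux.homSumToHomCoprod K N y ≫ p j = y j := fun y => by
      induction y using DirectSum.induction_on with
      | zero => simp
      | of i g =>
        rw [hof, Category.assoc]
        by_cases hij : i = j
        · subst hij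
          simp [hp]
        · rw [hp' i j hij, comp_zero, DirectSum.of_eq_of_ne _ _ _ (Ne.symm hij)]
      | add a b ha hb => rw [map_add, Preadditive.add_comp, ha, hb]; rfl
    rw [← key x, hx, zero_comp]
    rfl
  · obtain ⟨F, hF⟩ := h φ
    refine ⟨∑ i ∈ F, DirectSum.of _ i (φ ≫ p i), ?_⟩
    rw [map_sum]
    simp only [hof, Category.assoc]
    rw [← Preadditive.comp_sum]
    refine (congrArg (φ ≫ ·) ?_).trans hF
    refine Sigma.hom_ext _ _ fun i => ?_
    rw [Preadditive.comp_sum]
    by_cases hi : i ∈ F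
    · rw [ι_partProj_mem N hi, Finset.sum_eq_single i (fun b _ hb => by
        rw [← Category.assoc, hp' i b (Ne.symm hb), zero_comp]) (fun h => absurd hi h),
        ← Category.assoc, hp, Category.id_comp]
    · rw [ι_partProj_not_mem N hi]
      exact Finset.sum_eq_zero fun b hb => by
        rw [← Category.assoc, hp' i b (fun h => hi (h ▸ hb)), zero_comp]

/-- Perfect objects see finitely many summands of any family with quasi-coherent cohomology. -/
theorem fixAt_of_isQCohD [CompactSpace X] [QuasiSeparatedSpace X] {K : DCoh.D X}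
    (hK : DCoh.IsPerfect K) {J : Type u} (M : J → DCoh.D X) [HasCoproduct M]
    (hM : ∀ j, DCoh.IsQCohD (M j)) : FixAt M K := by
  obtain ⟨a, b, hab, hb⟩ := exists_homBddAt_of_isPerfect hK
  haveI : HasColimitsOfShape (Discrete J) (DCoh.D X) := TriCat.hasColimitsOfShape_derivedCategory
  let A : J → DCoh.D X := fun j => ((tS X).truncLT a).obj (M j)
  let B : J → DCoh.D X := fun j => ((tS X).truncGE a).obj (M j)
  haveI : ∀ j, (B j).IsGE a := fun j => isGE_truncGE (M j) a
  haveI : ∀ j, (A j).IsLE (a - 1) := fun j => isLE_truncLT (M j) a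
  choose K' hK' eK using fun j => (A j).exists_iso_Q_obj_of_isLE (a - 1)
  haveI : ∀ j, (K' j).IsStrictlyLE (a - 1) := hK'
  haveI := preservesColimit_Q K'
  haveI : (∐ A).IsLE (a - 1) := by
    haveI : (∐ K').IsStrictlyLE (a - 1) := (CochainComplex.isStrictlyLE_iff _ _).2 fun k hk => by
      refine IsZero.of_iso ?_ (PreservesCoproduct.iso
        (HomologicalComplex.eval X.Modules (ComplexShape.up ℤ) k) K')
      rw [IsZero.iff_id_eq_zero]
      exact Sigma.hom_ext _ _ fun j => ((K' j).isZero_of_isStrictlyLE (a - 1) k hk).eq_of_src _ _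
    exact ⟨⟨∐ K', Limits.Sigma.mapIso (fun j => (eK j).some) ≪≫
      (PreservesCoproduct.iso DerivedCategory.Q K').symm, inferInstance⟩⟩
  let f : ∀ j, A j ⟶ M j := fun j => ((tS X).truncLTι a).app (M j)
  let g : ∀ j, M j ⟶ B j := fun j => ((tS X).truncGEπ a).app (M j)
  let h : ∀ j, B j ⟶ (A j)⟦(1 : ℤ)⟧ := fun j => ((tS X).truncGEδLT a).app (M j)
  let S : Triangle (DCoh.D X) := Triangle.mk (Limits.Sigma.map f) (Limits.Sigma.map g)
    (Sigma.desc fun j => h j ≫ (Sigma.ι A j)⟦(1 : ℤ)⟧')
  have hS : S ∈ distTriang (DCoh.D X) := TriCat.distinguished_of_isSum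
    (fun j => Triangle.mk (f j) (g j) (h j)) (fun j => (tS X).triangleLTGE_distinguished a (M j)) S
    (fun j =>
      { hom₁ := Sigma.ι A j
        hom₂ := Sigma.ι M j
        hom₃ := Sigma.ι B j
        comm₁ := (Limits.Sigma.ι_map f j).symm
        comm₂ := (Limits.Sigma.ι_map g j).symm
        comm₃ := (Sigma.ι_desc (fun j => h j ≫ (Sigma.ι A j)⟦(1 : ℤ)⟧') j).symm })
    (TriCat.isSum_sigma A) (TriCat.isSum_sigma M) (TriCat.isSum_sigma B)
  intro φ
  obtain ⟨F, hF⟩ := (fix_of_isPerfect hK B a).at_zero (φ ≫ S.mor₂)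
  obtain ⟨ψ, hψ⟩ := Triangle.coyoneda_exact₂ _ hS (φ - φ ≫ partProj M F) (by
    rw [Preadditive.sub_comp, Category.assoc, sub_eq_zero]
    exact (((congrArg (φ ≫ ·) (sigmaMap_partProj M g F)).trans (Category.assoc _ _ _).symm).trans hF).symm)
  refine ⟨F, (sub_eq_zero.1 (hψ.trans ?_)).symm⟩
  have hψ0 : ψ = 0 := hb _ (isQCohD_sigma A fun j => isQCohD_truncLT (hM j) a)
    (fun i hi _ => DerivedCategory.isZero_of_isLE (∐ A) (a - 1) i (by omega)) ψ
  rw [hψ0, zero_comp]

/-- Perfect objects are compact in `D_QCoh`. -/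
theorem isCompactObjRel_of_isPerfect [CompactSpace X] [QuasiSeparatedSpace X] {K : DCoh.D X}
    (hK : DCoh.IsPerfect K) :
    PerfAux.IsCompactObjRel.{u} (fun L : DCoh.D X => DCoh.IsQCohD L) K := fun _ N _ hN =>
  bijective_homSum_of_fixAt N (fixAt_of_isQCohD hK N hN)

end Groth.Agent.PerfD40
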