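import Groth.Agent.KFlatLib.Scheme.TildePerf
import Groth.Agent.KFlatLib.Scheme.TildeD
import Groth.Agent.KFlatLib.Scheme.PCQCoh
import Mathlib.Algebra.Homology.DerivedCategory.KProjective
import Mathlib.CategoryTheory.Triangulated.TStructure.TruncLEGT

/-!
# Morphisms out of perfect objects on an affine scheme
-/

set_option linter.style.haveILetI false

universe u

open CategoryTheory CategoryTheory.Limits AlgebraicGeometry Pretriangulated

attribute [local instance] HasDerivedCategory.standard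

namespace Groth.Agent.PerfD40

open Groth.Agent.KFlatLib

/-- Morphisms out of a complex of projectives see only the cohomology in its range. -/
lemma hom_eq_zero_of_projective_range {C : Type*} [Category C] [Abelian C] [HasDerivedCategory C]
    (E : CochainComplex C ℤ) (a b : ℤ) (hz : ∀ i, i < a ∨ b < i → IsZero (E.X i))
    (hp : ∀ i, Projective (E.X i)) (N : DerivedCategory C)
    (hN : ∀ i, a ≤ i → i ≤ b → IsZero ((DerivedCategory.homologyFunctor C i).obj N))
    (φ : DerivedCategory.Q.obj E ⟶ N) : φ = 0 := by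
  haveI : E.IsStrictlyLE b := (CochainComplex.isStrictlyLE_iff _ _).2 fun i hi => hz i (Or.inr hi)
  haveI : E.IsKProjective := CochainComplex.isKProjective_of_projective E b
  let t : Triangulated.TStructure (DerivedCategory C) := DerivedCategory.TStructure.t
  let T := (t.triangleLTGE a).obj N
  have hT : T ∈ distTriang _ := t.triangleLTGE_distinguished a N
  by_cases hab : b < a
  · have hE : IsZero E := (IsZero.iff_id_eq_zero _).2 (HomologicalComplex.hom_ext _ _ fun i =>
      (hz i (by omega)).eq_of_src _ _)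
    exact (DerivedCategory.Q.map_isZero hE).eq_of_src _ _
  haveI hGE : DerivedCategory.IsGE T.obj₃ a := t.isGE_truncGE_obj ..
  haveI : DerivedCategory.IsLE T.obj₁ (a - 1) :=
    inferInstanceAs (t.IsLE ((t.triangleLTGE a).obj N).obj₁ (a - 1))
  have h3 : DerivedCategory.IsGE T.obj₃ (b + 1) := by
    rw [DerivedCategory.isGE_iff]
    intro i hi
    by_cases hia : i < a
    · exact DerivedCategory.isZero_of_isGE T.obj₃ a i hia
    let H := DerivedCategory.homologyFunctor C 0
    have ex := (DerivedCategory.HomologySequence.exact₃ T hT i (i + 1) rfl)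
    refine ex.isZero_X₂ ((hN i (by omega) (by omega)).eq_of_src _ _)
      ((DerivedCategory.isZero_of_isLE T.obj₁ (a - 1) (i + 1) (by omega)).eq_of_tgt _ _)
  have hφ : φ ≫ T.mor₂ = 0 := by
    haveI := h3
    haveI : DerivedCategory.IsLE (DerivedCategory.Q.obj E) b := inferInstance
    exact t.zero _ b (b + 1)
  obtain ⟨ψ, hψ⟩ := Triangle.coyoneda_exact₂ T hT φ hφ
  obtain ⟨K, hK, ⟨e⟩⟩ := T.obj₁.exists_iso_Q_obj_of_isLE (a - 1)
  obtain ⟨g, hg⟩ := (CochainComplex.IsKProjective.Qh_map_bijective E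
    ((HomotopyCategory.quotient C _).obj K)).2 (ψ ≫ e.hom)
  obtain ⟨g', hg'⟩ := (HomotopyCategory.quotient C _).map_surjective g
  have hg0 : g' = 0 := HomologicalComplex.hom_ext _ _ fun i => by
    by_cases hi : i < a
    · exact (hz i (Or.inl hi)).eq_of_src _ _
    · exact (K.isZero_of_isStrictlyLE (a - 1) i (by omega)).eq_of_tgt _ _
  have hz' : ψ ≫ e.hom = 0 := by
    refine hg.symm.trans ?_
    rw [← hg', hg0]
    exact (congrArg _ (Functor.map_zero _ _ _)).trans (DerivedCategory.Qh.map_zero _ _)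
  have : ψ = 0 := by simpa using congrArg (· ≫ e.inv) hz'
  rw [hψ, this]
  exact zero_comp

/-- Cohomology in `[a, b]` controls all morphisms out of `K`. -/
def HomBddAt {X : Scheme.{u}} (a b : ℤ) (K : DCoh.D X) : Prop :=
  ∀ L : DCoh.D X, DCoh.IsQCohD L → (∀ i, a ≤ i → i ≤ b → IsZero (DCoh.HD L i)) →
    ∀ φ : K ⟶ L, φ = 0

variable {R : CommRingCat.{u}} [PreservesFiniteLimits (tilde.functor R)]

omit [PreservesFiniteLimits (tilde.functor R)] in
lemma isZero_of_tilde {M : ModuleCat.{u} R} (h : IsZero ((tilde.functor R).obj M)) : IsZero M := by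
  rw [IsZero.iff_id_eq_zero]
  apply (tilde.functor R).map_injective
  exact h.eq_of_src _ _

lemma isQCohD_of_isPerfect {X : Scheme.{u}} {K : DCoh.D X} (hK : DCoh.IsPerfect K) :
    DCoh.IsQCohD K := fun i =>
  isQCoh_HD_of_pseudoCoherent ((isPseudoCoherentD_iff _ _).2 (((isPerfect_iff K).1 hK).locPC (i - 1)))
    i (by omega)

/-- A complex of projectives in `[a, b]` gives an object controlled by `[a, b]`. -/
lemma homBddAt_tildeD (E : CochainComplex (ModuleCat.{u} R) ℤ) (a b : ℤ)
    (hz : ∀ i, i < a ∨ b < i → IsZero (E.X i)) (hp : ∀ i, Projective (E.X i))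
    (K : DCoh.D (Spec R)) (eK : (DCoh.tildeD R).obj (DerivedCategory.Q.obj E) ≅ K) :
    HomBddAt a b K := fun L hL hv φ => by
  obtain ⟨N, ⟨eN⟩⟩ := exists_tildeD_iso hL
  obtain ⟨g, hg⟩ := (tildeD_map_bijective _ N).2 (eK.hom ≫ φ ≫ eN.inv)
  have hzero : g = 0 := hom_eq_zero_of_projective_range E a b hz hp N (fun i h1 h2 =>
    isZero_of_tilde (((hv i h1 h2).of_iso ((DerivedCategory.homologyFunctor _ i).mapIso eN)).of_iso
      ((mapDCHomologyIso (tilde.functor R) i).app N).symm)) g
  have h2 : eK.hom ≫ φ ≫ eN.inv = 0 := by rw [← hg, hzero, Functor.map_zero]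
  simpa using congrArg (fun t => eK.inv ≫ t ≫ eN.hom) h2

/-- On an affine scheme a perfect object only sees cohomology sheaves in a finite range. -/
lemma exists_hom_bound_spec (K : DCoh.D (Spec R)) (hK : DCoh.IsPerfect K) :
    ∃ a b : ℤ, HomBddAt a b K := by
  obtain ⟨M, ⟨eM⟩⟩ := exists_tildeD_iso (isQCohD_of_isPerfect hK)
  obtain ⟨E, a, b, hz, hf, ⟨eE⟩⟩ := (perfect_tildeD_iff M).1 ((isPerfect_iff _).2
    (((isPerfect_iff _).1 hK).of_iso eM.symm))
  exact ⟨a, b, homBddAt_tildeD E a b hz (fun i => haveI := (hf i).2; inferInstance) K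
    ((DCoh.tildeD R).mapIso eE ≪≫ eM)⟩

end Groth.Agent.PerfD40
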