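import Groth.Agent.PerfD40.FactorSupport
import Groth.Agent.KFlatLib.Scheme.RHomLocal
import Groth.Agent.KFlatLib.Scheme.RHomBounded

/-!
# Internal homs into supported objects, and killing maps by perfect objects over the structure sheaf
-/

set_option linter.style.haveILetI false

universe u

open CategoryTheory CategoryTheory.Limits Pretriangulated AlgebraicGeometry TopologicalSpace

attribute [local instance] HasDerivedCategory.standard

namespace Groth.Agent.PerfD40

open Groth.Agent.KFlatLib

variable {X : Scheme.{u}}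

/-- Internal homs into an acyclic K-injective complex vanish. -/
lemma isZero_Q_iHom_of_acyclic (C J : CochainComplex X.Modules ℤ) [J.IsKInjective]
    [∀ n, Injective (J.X n)] (hJ : J.Acyclic) : IsZero (DerivedCategory.Q.obj ((iHom C).obj J)) := by
  let A := (iHom C).obj J
  have hz : Nonempty (Homotopy (((Inner.innerAdj (DCoh.tensorBi (X := X)) C).homEquiv A J).symm (𝟙 A)) 0) :=
    ⟨(Homotopy.ofEq (Category.comp_id _).symm).trans
      (((CochainComplex.IsKInjective.homotopyZero (𝟙 J) hJ).compLeft _).trans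
        (Homotopy.ofEq comp_zero))⟩
  obtain ⟨h⟩ := Inner.nonempty_homotopy_of_homEquiv (DCoh.tensorBi (X := X)) (𝟙 A) hz.some
  rw [IsZero.iff_id_eq_zero, ← DerivedCategory.Q.map_id]
  exact (DerivedCategory.Q_map_eq_of_homotopy (C := X.Modules) h).trans (Functor.map_zero _ _ _)

/-- Internal homs into an object vanishing on an open vanish there. -/
theorem isZero_restrictD_RSheafHom (K : CochainComplex X.Modules ℤ) [DCoh.HasLTensorCx K]
    [DCoh.HasRSheafHom K] {E : DCoh.D X} (U : X.Opens)
    (hE : IsZero ((DCoh.restrictD U.ι).obj E)) :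
    IsZero ((DCoh.restrictD U.ι).obj ((DCoh.RSheafHom K).obj E)) := by
  obtain ⟨I, _, _, ⟨eL⟩⟩ := exists_kInjective_rep E
  obtain ⟨e⟩ := nonempty_RSheafHom_iso K I
  obtain ⟨e₁⟩ := nonempty_rho_iHom U.ι K I
  haveI : ((rCx U.ι).obj I).IsKInjective := isKInjective_rCx U.ι I
  haveI : ∀ n, Injective (((rCx U.ι).obj I).X n) := injective_rCx U.ι I
  refine (isZero_Q_iHom_of_acyclic _ _ fun i => ?_).of_iso
    ((rho U.ι).mapIso ((DCoh.RSheafHom K).mapIso eL ≪≫ e) ≪≫ e₁)
  rw [HomologicalComplex.exactAt_iff_isZero_homology]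
  exact (Functor.map_isZero (DerivedCategory.homologyFunctor _ i)
    (hE.of_iso ((rho U.ι).mapIso eL ≪≫ (rhoQ U.ι).app I).symm)).of_iso
    ((DerivedCategory.homologyFunctorFactors _ i).app _).symm

attribute [local instance] preservesBinaryBiproducts_of_preservesBinaryCoproducts in
/-- A derived tensor product with a right adjoint is additive. -/
lemma additive_LTensorCx (K : CochainComplex X.Modules ℤ) [DCoh.HasLTensorCx K]
    [DCoh.HasRSheafHom K] : (DCoh.LTensorCx K).Additive := by
  haveI := HasBinaryBiproducts.of_hasBinaryProducts (C := DCoh.D X)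
  haveI := (DCoh.RSheafHomAdj K).leftAdjoint_preservesColimits
  exact Functor.additive_of_preservesBinaryBiproducts _

/-- A map out of `K` into a supported object is killed by a perfect object over the structure sheaf. -/
theorem exists_kill_tensor [CompactSpace X] [QuasiSeparatedSpace X] (U : X.Opens)
    (hU : IsCompact (U : Set X)) (K : CochainComplex X.Modules ℤ) [DCoh.HasLTensorCx K]
    [DCoh.HasRSheafHom K] (E : DCoh.D X) (hE : IsZero ((DCoh.restrictD U.ι).obj E))
    (hq : DCoh.IsQCohD ((DCoh.RSheafHom K).obj E))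
    (γ : (DCoh.LTensorCx K).obj (DCoh.inD X (Coh.structureModule X)) ⟶ E) :
    ∃ (I : DCoh.D X) (i : I ⟶ DCoh.inD X (Coh.structureModule X)), DCoh.IsPerfect I ∧
      (DCoh.LTensorCx K).map i ≫ γ = 0 ∧ IsIso ((DCoh.restrictD U.ι).map i) := by
  let O := DCoh.inD X (Coh.structureModule X)
  have hO : DCoh.IsPerfect O := (isPerfect_iff _).2 (locSP_structure.of_iso
    ((DerivedCategory.singleFunctorIsoCompQ X.Modules 0).app _).symm)
  let adj := DCoh.RSheafHomAdj K
  obtain ⟨R', a, α, hR', hR'U, ha⟩ := factorHolds X U hU O ((DCoh.RSheafHom K).obj E)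
    (adj.homEquiv _ _ γ) hO hq (isZero_restrictD_RSheafHom K U hE)
  obtain ⟨I, i, δ, hT⟩ := distinguished_cocone_triangle₁ a
  refine ⟨I, i, (isPerfect_iff _).2 ((locSP_two_of_three _ hT).2.2 ((isPerfect_iff _).1 hO)
    ((isPerfect_iff _).1 hR')), (adj.homEquiv _ _).injective ?_,
    (Triangle.isZero₃_iff_isIso₁ _ ((DCoh.restrictD U.ι).map_distinguished _ hT)).1 hR'U⟩
  rw [adj.homEquiv_naturality_left, ← ha, ← Category.assoc,
    show i ≫ a = 0 from comp_distTriang_mor_zero₁₂ _ hT, zero_comp]
  rw [Adjunction.homEquiv_unit]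
  haveI := additive_LTensorCx K
  haveI := adj.right_adjoint_additive
  rw [Functor.map_zero, comp_zero]

end Groth.Agent.PerfD40
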