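import Groth.Agent.PerfD40.Generator

/-!
# Lifting maps from perfect objects on opens, with supports

Gluing the object first and then killing the obstruction, which lives outside of the open, by passing
to a fibre.
-/

set_option linter.style.haveILetI false

universe u

open CategoryTheory CategoryTheory.Limits AlgebraicGeometry Pretriangulated TopologicalSpace

attribute [local instance] HasDerivedCategory.standard

namespace Groth.Agent.PerfD40

open Groth.Agent.KFlatLib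

lemma isZero_restrictD_preimage {Z Y : Scheme.{u}} (e : Z ≅ Y) (V : Y.Opens) {K : DCoh.D Y}
    (h : IsZero ((DCoh.restrictD V.ι).obj K)) :
    IsZero ((DCoh.restrictD (e.hom ⁻¹ᵁ V).ι).obj ((DCoh.restrictD e.hom).obj K)) :=
  (isZero_restrictD_of_factor ((e.hom ⁻¹ᵁ V).ι ≫ e.hom) V (fun z => z.2) K h).of_iso
    ((restrictDComp _ e.hom _ rfl).app K)

lemma isZero_restrictD_of_preimage {Z Y : Scheme.{u}} (e : Z ≅ Y) (V : Y.Opens) {K : DCoh.D Y}
    (h : IsZero ((DCoh.restrictD (e.hom ⁻¹ᵁ V).ι).obj ((DCoh.restrictD e.hom).obj K))) :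
    IsZero ((DCoh.restrictD V.ι).obj K) := by
  refine (isZero_restrictD_of_factor (V.ι ≫ e.inv) (e.hom ⁻¹ᵁ V) (fun y => ?_) _ h).of_iso
    ((restrictDComp (V.ι ≫ e.inv) e.hom V.ι (by simp)).symm.app K)
  change e.hom.base (e.inv.base (V.ι.base y)) ∈ V
  rw [← Scheme.Hom.comp_apply, Iso.inv_hom_id]
  exact y.2

/-- A map from a perfect object into an object vanishing on an open factors through a perfect object
vanishing there, and wherever the source does. -/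
theorem exists_factor_affine (Y : Scheme.{u}) [IsAffine Y] (W V : Y.Opens)
    (hW : IsCompact (W : Set Y)) (hV : IsCompact (V : Set Y)) (R N : DCoh.D Y)
    (hR : DCoh.IsPerfect R) (hN : DCoh.IsQCohD N) (hNW : IsZero ((DCoh.restrictD W.ι).obj N))
    (φ : R ⟶ N) :
    ∃ (R' : DCoh.D Y) (i : R ⟶ R') (φ' : R' ⟶ N), DCoh.IsPerfect R' ∧ i ≫ φ' = φ ∧
      IsZero ((DCoh.restrictD W.ι).obj R') ∧
      (IsZero ((DCoh.restrictD V.ι).obj R) → IsZero ((DCoh.restrictD V.ι).obj R')) := by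
  let A : CommRingCat.{u} := Γ(Y, ⊤)
  haveI : PreservesFiniteLimits (tilde.functor A) := QCoh.tilde_preservesFiniteLimits (R := A)
  let eS : Spec A ≅ Y := Y.isoSpec.symm
  let Φ := restrictDEquiv eS
  haveI : (DCoh.restrictD eS.hom).Full := inferInstanceAs Φ.functor.Full
  haveI : (DCoh.restrictD eS.hom).Faithful := inferInstanceAs Φ.functor.Faithful
  obtain ⟨l, hl⟩ := exists_eq_outOpen (eS.hom ⁻¹ᵁ W) (eS.hom.homeomorph.isCompact_preimage.2 hW)
  obtain ⟨m, hm⟩ := exists_eq_outOpen (eS.hom ⁻¹ᵁ V) (eS.hom.homeomorph.isCompact_preimage.2 hV)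
  obtain ⟨M, ⟨eM⟩⟩ := exists_tildeD_iso (isQCohD_of_isPerfect (isPerfect_restrictD eS.hom hR))
  obtain ⟨N', ⟨eN⟩⟩ := exists_tildeD_iso (isQCohD_restrictD eS.hom hN)
  have hM : RPerf M := (perfect_tildeD_iff M).1 (isPerfect_of_iso' eM.symm (isPerfect_restrictD eS.hom hR))
  have tors : ∀ {L : DCoh.D Y} {M : DerivedCategory (ModuleCat.{u} A)} {O : Y.Opens} {k : List A},
      eS.hom ⁻¹ᵁ O = outOpen k → ((DCoh.tildeD A).obj M ≅ (DCoh.restrictD eS.hom).obj L) →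
      (IsZero ((DCoh.restrictD O.ι).obj L) ↔ ∀ f ∈ k, IsTorsD f M) := by
    intro L M O k hk e
    rw [isTorsD_iff_support]
    constructor
    · intro h i
      rw [← hk]
      exact support_subset_of_isZero_restrictD _ _
        ((isZero_restrictD_preimage eS O h).of_iso ((DCoh.restrictD _).mapIso e)) i
    · intro h
      refine isZero_restrictD_of_preimage eS O
        ((isZero_restrictD_of_support (eS.hom ⁻¹ᵁ O) _ _ h fun x hx hx' => ?_).of_iso
          ((DCoh.restrictD _).mapIso e).symm)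
      rw [hk] at hx
      exact hx' hx
  obtain ⟨θ, hθ⟩ := (tildeD_map_bijective M N').2 (eM.hom ≫ (DCoh.restrictD eS.hom).map φ ≫ eN.inv)
  obtain ⟨M', i, φ', hM', hi, htl, htM⟩ := exists_supported_factor l M N' hM ((tors hl eN).1 hNW) θ
  let R' := Φ.inverse.obj ((DCoh.tildeD A).obj M')
  let ε : (DCoh.restrictD eS.hom).obj R' ≅ (DCoh.tildeD A).obj M' := Φ.counitIso.app _
  obtain ⟨iY, hiY⟩ := (DCoh.restrictD eS.hom).map_surjective (eM.inv ≫ (DCoh.tildeD A).map i ≫ ε.inv)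
  obtain ⟨φY, hφY⟩ := (DCoh.restrictD eS.hom).map_surjective (ε.hom ≫ (DCoh.tildeD A).map φ' ≫ eN.hom)
  refine ⟨R', iY, φY, isPerfect_restrictD eS.inv ((perfect_tildeD_iff M').2 hM'), ?_,
    (tors hl ε.symm).2 htl, fun h => (tors hm ε.symm).2 fun f hf => htM f ((tors hm eM).1 h f hf)⟩
  apply (DCoh.restrictD eS.hom).map_injective
  rw [Functor.map_comp, hiY, hφY]
  simp only [Category.assoc, Iso.inv_hom_id_assoc]
  rw [← Functor.map_comp_assoc, hi, hθ]
  simp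

section Step

variable (Y : Scheme.{u}) [CompactSpace Y] [QuasiSeparatedSpace Y]

omit [CompactSpace Y] [QuasiSeparatedSpace Y] in
/-- A map defined on an open from a global perfect object extends after changing the object away from the
open. -/
theorem exists_lift_iso (U O V : Y.Opens) (hUO : U ⊔ O = ⊤) (hO : IsAffineOpen O) [QuasiCompact U.ι]
    (hOU : IsCompact ((O.ι ⁻¹ᵁ U : (O : Scheme.{u}).Opens) : Set (O : Scheme.{u})))
    (hOV : IsCompact ((O.ι ⁻¹ᵁ V : (O : Scheme.{u}).Opens) : Set (O : Scheme.{u})))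
    (E : DCoh.D Y) (hE : DCoh.IsQCohD E) (R₀ : DCoh.D Y) (hR₀ : DCoh.IsPerfect R₀)
    (hR₀V : IsZero ((DCoh.restrictD V.ι).obj R₀))
    (α₀ : (DCoh.restrictD U.ι).obj R₀ ⟶ (DCoh.restrictD U.ι).obj E) :
    ∃ (R : DCoh.D Y) (b : R ⟶ R₀) (γ : R ⟶ E), DCoh.IsPerfect R ∧
      IsZero ((DCoh.restrictD V.ι).obj R) ∧ IsIso ((DCoh.restrictD U.ι).map b) ∧
      (DCoh.restrictD U.ι).map γ = (DCoh.restrictD U.ι).map b ≫ α₀ := by
  haveI : IsAffine (O : Scheme.{u}) := hO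
  haveI : HasInjectiveResolutions (U : Scheme.{u}).Modules := hasInjectiveResolutions_modules
  haveI := hasRpush_scheme U.ι
  haveI := hasRpush_scheme O.ι
  let adj := restrictRpushAdj U.ι
  obtain ⟨C, ι₀, δ₀, hT⟩ := distinguished_cocone_triangle₁ (adj.unit.app E)
  have hu : IsIso ((DCoh.restrictD U.ι).map (adj.unit.app E)) := by
    obtain ⟨cc⟩ := nonempty_rpush_restrictD_self U.ι
    haveI : (DCoh.Rpush U.ι).Full := (adj.fullyFaithfulROfCompIsoId cc).full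
    haveI : (DCoh.Rpush U.ι).Faithful := (adj.fullyFaithfulROfCompIsoId cc).faithful
    infer_instance
  have hCq : DCoh.IsQCohD C := isQCohD_obj₁ hT hE (isQCohD_rpush _ (isQCohD_restrictD _ hE))
  have hC₁U : IsZero ((DCoh.restrictD U.ι).obj (C⟦(1 : ℤ)⟧)) :=
    (Functor.map_isZero (shiftFunctor _ (1 : ℤ))
      ((Triangle.isZero₁_iff_isIso₂ _ ((DCoh.restrictD U.ι).map_distinguished _ hT)).2 hu)).of_iso
        (((DCoh.restrictD U.ι).commShiftIso (1 : ℤ)).app C)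
  have hcover : ∀ y : Y, y ∈ U ∨ y ∈ O := fun y => Opens.mem_sup.1 (hUO ▸ (trivial : y ∈ (⊤ : Y.Opens)))
  have hUc : ((U : Set Y))ᶜ ⊆ (O : Set Y) := fun y hy => (hcover y).resolve_left hy
  obtain ⟨θ⟩ := nonempty_iso_rpush_restrict O (U : Set Y)ᶜ U.isOpen.isClosed_compl hUc (C⟦(1 : ℤ)⟧)
    fun i => support_subset_of_isZero_restrictD U _ hC₁U i
  let ψ := adj.homEquiv _ _ α₀
  let adjO := restrictRpushAdj O.ι
  obtain ⟨R₂, i₂, φ₂, hR₂, hi₂, hR₂U, hR₂V⟩ := exists_factor_affine (O : Scheme.{u}) (O.ι ⁻¹ᵁ U)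
    (O.ι ⁻¹ᵁ V) hOU hOV
    ((DCoh.restrictD O.ι).obj R₀) ((DCoh.restrictD O.ι).obj (C⟦(1 : ℤ)⟧))
    (isPerfect_restrictD O.ι hR₀) (isQCohD_restrictD O.ι (isQCohD_shift hCq 1))
    ((isZero_restrictD_of_factor ((O.ι ⁻¹ᵁ U).ι ≫ O.ι) U (fun z => z.2) _ hC₁U).of_iso
      ((restrictDComp _ O.ι _ rfl).app _))
    ((adjO.homEquiv _ _).symm (ψ ≫ δ₀ ≫ θ.hom))
  let Q := (DCoh.Rpush O.ι).obj R₂
  have himg : (fun x : (O : Scheme.{u}) => O.ι.base x) ''
      ((O.ι ⁻¹ᵁ U : (O : Scheme.{u}).Opens) : Set (O : Scheme.{u}))ᶜ = (U : Set Y)ᶜ := by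
    ext y
    constructor
    · rintro ⟨x, hx, rfl⟩; exact hx
    · exact fun hy => ⟨⟨y, hUc hy⟩, hy, rfl⟩
  have hQ : DCoh.IsPerfect Q := isPerfect_rpush_of_support O R₂ hR₂ _
    (by rw [himg]; exact U.isOpen.isClosed_compl) (support_subset_of_isZero_restrictD _ R₂ hR₂U)
  have hQz : ∀ W : Y.Opens, IsZero ((DCoh.restrictD (O.ι ⁻¹ᵁ W).ι).obj R₂) →
      IsZero ((DCoh.restrictD W.ι).obj Q) := fun W hW => by
    haveI := hasRpush_scheme (O.ι ∣_ W)
    haveI : (DCoh.Rpush (O.ι ∣_ W)).Additive :=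
      (exists_rightDerived_triangle (Scheme.Modules.pushforward (O.ι ∣_ W)) _
        (contractible_distinguished ((DCoh.restrictD (O.ι ⁻¹ᵁ W).ι).obj R₂))).1
    exact (Functor.map_isZero (DCoh.Rpush (O.ι ∣_ W)) hW).of_iso
      ((nonempty_rpush_restrictD_iso O.ι W).some.app R₂)
  let iQ : R₀ ⟶ Q := adjO.homEquiv _ _ i₂
  have hiQ : iQ ≫ (DCoh.Rpush O.ι).map φ₂ = ψ ≫ δ₀ ≫ θ.hom := by
    rw [← adjO.homEquiv_naturality_right, hi₂, Equiv.apply_symm_apply]
  obtain ⟨R, b, d, hb⟩ := distinguished_cocone_triangle₁ iQ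
  have h0 : (b ≫ ψ) ≫ δ₀ = 0 := by
    have hbi : b ≫ iQ = 0 := comp_distTriang_mor_zero₁₂ _ hb
    refine (cancel_mono θ.hom).1 ?_
    rw [zero_comp, Category.assoc, Category.assoc]
    exact (congrArg (b ≫ ·) hiQ.symm).trans (by rw [reassoc_of% hbi, zero_comp])
  obtain ⟨γ, hγ⟩ : ∃ γ : R ⟶ E, b ≫ ψ = γ ≫ adj.unit.app E :=
    Triangle.coyoneda_exact₂ _ (rot_of_distTriang _ hT) (b ≫ ψ) h0
  have hγU : (DCoh.restrictD U.ι).map γ = (DCoh.restrictD U.ι).map b ≫ α₀ := by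
    apply (adj.homEquiv _ _).injective
    rw [adj.homEquiv_naturality_left, adj.homEquiv_unit (f := (DCoh.restrictD _).map γ)]
    exact ((adj.unit.naturality γ).symm).trans hγ.symm
  haveI : IsIso ((DCoh.restrictD U.ι).map b) :=
    (Triangle.isZero₃_iff_isIso₁ _ ((DCoh.restrictD U.ι).map_distinguished _ hb)).1 (hQz U hR₂U)
  have hR₀V' : IsZero ((DCoh.restrictD (O.ι ⁻¹ᵁ V).ι).obj ((DCoh.restrictD O.ι).obj R₀)) :=
    (isZero_restrictD_of_factor ((O.ι ⁻¹ᵁ V).ι ≫ O.ι) V (fun z => z.2) _ hR₀V).of_iso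
      ((restrictDComp _ O.ι _ rfl).app R₀)
  exact ⟨R, b, γ,
    (isPerfect_iff _).2 ((locSP_two_of_three _ hb).2.2 ((isPerfect_iff _).1 hR₀) ((isPerfect_iff _).1 hQ)),
    Triangle.isZero₁_of_isZero₂₃ _ ((DCoh.restrictD V.ι).map_distinguished _ hb) hR₀V
      (hQz V (hR₂V hR₀V')), ‹_›, hγU⟩

/-- Lifting over one affine open. -/
theorem exists_lift_step (U O V : Y.Opens) (hUO : U ⊔ O = ⊤) (hU : IsCompact (U : Set Y))
    (hO : IsAffineOpen O) (hV : IsCompact (V : Set Y)) (E : DCoh.D Y) (hE : DCoh.IsQCohD E)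
    (P : DCoh.D (U : Scheme.{u})) (hP : DCoh.IsPerfect P)
    (hPV : IsZero ((DCoh.restrictD (U.ι ⁻¹ᵁ V).ι).obj P)) (α : P ⟶ (DCoh.restrictD U.ι).obj E) :
    ∃ (R : DCoh.D Y) (β : R ⟶ E) (ρ : Retract P ((DCoh.restrictD U.ι).obj R)), DCoh.IsPerfect R ∧
      IsZero ((DCoh.restrictD V.ι).obj R) ∧ ρ.i ≫ (DCoh.restrictD U.ι).map β = α := by
  haveI : CompactSpace (U : Scheme.{u}) := isCompact_iff_compactSpace.1 hU
  haveI : CompactSpace (O : Scheme.{u}) := isCompact_iff_compactSpace.1 hO.isCompact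
  haveI : QuasiCompact U.ι := quasiCompact_of_compactSpace _
  haveI : QuasiCompact O.ι := quasiCompact_of_compactSpace _
  haveI := HasBinaryBiproducts.of_hasBinaryProducts (C := DCoh.D (U : Scheme.{u}))
  obtain ⟨R₀, hR₀, hR₀V, ⟨e₁⟩⟩ := exists_extension_step Y U O V hUO hO (O.ι.isCompact_preimage hU)
    (O.ι.isCompact_preimage hV) P hP hPV
  obtain ⟨R, b, γ, hR, hRV, hb, hγ⟩ := exists_lift_iso Y U O V hUO hO (O.ι.isCompact_preimage hU)
    (O.ι.isCompact_preimage hV) E hE R₀ hR₀ hR₀V (e₁.hom ≫ (biprod.fst : P ⊞ P⟦(1 : ℤ)⟧ ⟶ P) ≫ α)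
  haveI := hb
  refine ⟨R, γ, ⟨biprod.inl ≫ e₁.inv ≫ inv ((DCoh.restrictD U.ι).map b),
      (DCoh.restrictD U.ι).map b ≫ e₁.hom ≫ biprod.fst, ?_⟩, hR, hRV, ?_⟩
  · simp
  · simp [hγ]

end Step

section Induction

variable {X : Scheme.{u}}

/-- Lifting from a smaller open to a bigger one covered by it and one affine open. -/
theorem exists_lift_le [QuasiSeparatedSpace X] {U W O V : X.Opens} (hUW : U ≤ W) (hOW : O ≤ W)
    (hW : W ≤ U ⊔ O) (hU : IsCompact (U : Set X)) (hO : IsAffineOpen O) (hV : IsCompact (V : Set X))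
    (E : DCoh.D X) (hE : DCoh.IsQCohD E) (P : DCoh.D (U : Scheme.{u})) (hP : DCoh.IsPerfect P)
    (hPV : IsZero ((DCoh.restrictD (U.ι ⁻¹ᵁ V).ι).obj P)) (α : P ⟶ (DCoh.restrictD U.ι).obj E) :
    ∃ (R : DCoh.D (W : Scheme.{u})) (β : R ⟶ (DCoh.restrictD W.ι).obj E)
      (ρ : Retract P ((DCoh.restrictD (X.homOfLE hUW)).obj R)), DCoh.IsPerfect R ∧
      IsZero ((DCoh.restrictD (W.ι ⁻¹ᵁ V).ι).obj R) ∧
      ρ.i ≫ (DCoh.restrictD (X.homOfLE hUW)).map β =
        α ≫ ((restrictDComp (X.homOfLE hUW) W.ι U.ι (X.homOfLE_ι hUW)).app E).inv := by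
  have hWc : IsCompact (W : Set X) := by
    rw [show (W : Set X) = (U : Set X) ∪ O from subset_antisymm hW
      (Set.union_subset hUW hOW)]
    exact hU.union hO.isCompact
  haveI : CompactSpace (W : Scheme.{u}) := isCompact_iff_compactSpace.1 hWc
  haveI : QuasiSeparatedSpace (W : Scheme.{u}) := .of_isOpenEmbedding W.ι.isOpenEmbedding
  haveI : QuasiCompact W.ι := quasiCompact_of_compactSpace _
  let UW : (W : Scheme.{u}).Opens := W.ι ⁻¹ᵁ U
  let k : (U : Scheme.{u}) ⟶ (W : Scheme.{u}) := X.homOfLE hUW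
  have hk : k ≫ W.ι = U.ι := X.homOfLE_ι hUW
  let e : (UW : Scheme.{u}) ≅ (U : Scheme.{u}) :=
    IsOpenImmersion.isoOfRangeEq UW.ι k (by
      ext x
      simp only [Scheme.Opens.range_ι]
      constructor
      · intro hx
        exact ⟨⟨W.ι.base x, hx⟩, W.ι.isOpenEmbedding.injective
          ((Scheme.Hom.comp_apply k W.ι _).symm.trans (by rw [hk]; rfl))⟩
      · rintro ⟨y, rfl⟩
        change W.ι.base (k.base y) ∈ U
        rw [← Scheme.Hom.comp_apply, hk]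
        exact y.2)
  have he : e.hom ≫ k = UW.ι := IsOpenImmersion.isoOfRangeEq_hom_fac _ _ _
  have he' : e.inv ≫ UW.ι = k := IsOpenImmersion.isoOfRangeEq_inv_fac _ _ _
  let P' := (DCoh.restrictD e.hom).obj P
  let EW := (DCoh.restrictD W.ι).obj E
  let cU : (DCoh.restrictD k).obj EW ≅ (DCoh.restrictD U.ι).obj E :=
    (restrictDComp k W.ι U.ι hk).app E
  let cE : (DCoh.restrictD e.hom).obj ((DCoh.restrictD k).obj EW) ≅ (DCoh.restrictD UW.ι).obj EW :=
    (restrictDComp e.hom k UW.ι he).app EW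
  have hP'V : IsZero ((DCoh.restrictD (UW.ι ⁻¹ᵁ (W.ι ⁻¹ᵁ V)).ι).obj P') := by
    refine (isZero_restrictD_of_factor ((UW.ι ⁻¹ᵁ (W.ι ⁻¹ᵁ V)).ι ≫ e.hom) (U.ι ⁻¹ᵁ V) (fun z => ?_) P
      hPV).of_iso ((restrictDComp _ e.hom _ rfl).app P)
    change U.ι.base (e.hom.base ((UW.ι ⁻¹ᵁ (W.ι ⁻¹ᵁ V)).ι.base z)) ∈ V
    rw [← Scheme.Hom.comp_apply, ← hk, ← Category.assoc, he]
    exact z.2
  obtain ⟨R, β, ρ, hR, hRV, hρ⟩ := exists_lift_step (W : Scheme.{u}) UW (W.ι ⁻¹ᵁ O) (W.ι ⁻¹ᵁ V)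
    (top_le_iff.1 fun w _ => hW w.2) (W.ι.isCompact_preimage hU)
    ((Scheme.Hom.isAffineOpen_iff_of_isOpenImmersion W.ι).1 (by
      rwa [show W.ι ''ᵁ (W.ι ⁻¹ᵁ O) = O from Opens.ext (Set.image_preimage_eq_of_subset
        (by rw [Scheme.Opens.range_ι]; exact hOW))]))
    (W.ι.isCompact_preimage hV) EW (isQCohD_restrictD _ hE) P' (isPerfect_restrictD e.hom hP) hP'V
    ((DCoh.restrictD e.hom).map (α ≫ cU.inv) ≫ cE.hom)
  haveI : (DCoh.restrictD e.hom).Full := inferInstanceAs (restrictDEquiv e).functor.Full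
  haveI : (DCoh.restrictD e.hom).Faithful := inferInstanceAs (restrictDEquiv e).functor.Faithful
  let cR : (DCoh.restrictD e.hom).obj ((DCoh.restrictD k).obj R) ≅ (DCoh.restrictD UW.ι).obj R :=
    (restrictDComp e.hom k UW.ι he).app R
  obtain ⟨i, hi⟩ := (DCoh.restrictD e.hom).map_surjective (ρ.i ≫ cR.inv)
  obtain ⟨p, hp⟩ := (DCoh.restrictD e.hom).map_surjective (cR.hom ≫ ρ.r)
  refine ⟨R, β, ⟨i, p, ?_⟩, hR, hRV, ?_⟩
  · apply (DCoh.restrictD e.hom).map_injective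
    rw [Functor.map_comp, hi, hp, CategoryTheory.Functor.map_id]
    simp
  · apply (DCoh.restrictD e.hom).map_injective
    rw [Functor.map_comp, hi]
    refine (cancel_mono cE.hom).1 ?_
    rw [← hρ]
    simp only [Category.assoc]
    congr 1
    rw [show (DCoh.restrictD e.hom).map ((DCoh.restrictD (X.homOfLE hUW)).map β) ≫ cE.hom =
      cR.hom ≫ (DCoh.restrictD UW.ι).map β from
      (restrictDComp e.hom k UW.ι he).hom.naturality β, Iso.inv_hom_id_assoc]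

/-- Lifting from a quasi-compact open to the whole scheme. -/
theorem exists_lift_support [CompactSpace X] [QuasiSeparatedSpace X] (V : X.Opens)
    (hV : IsCompact (V : Set X)) (E : DCoh.D X) (hE : DCoh.IsQCohD E) :
    ∀ (L : List X.affineOpens) (U : X.Opens), IsCompact (U : Set X) →
    (∀ x : X, x ∈ U ∨ ∃ O ∈ L, x ∈ O.1) → ∀ (P : DCoh.D (U : Scheme.{u})), DCoh.IsPerfect P →
    IsZero ((DCoh.restrictD (U.ι ⁻¹ᵁ V).ι).obj P) → ∀ α : P ⟶ (DCoh.restrictD U.ι).obj E,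
    ∃ (R : DCoh.D X) (β : R ⟶ E) (ρ : Retract P ((DCoh.restrictD U.ι).obj R)), DCoh.IsPerfect R ∧
      IsZero ((DCoh.restrictD V.ι).obj R) ∧ ρ.i ≫ (DCoh.restrictD U.ι).map β = α := by
  intro L
  induction L with
  | nil =>
    intro U hU hcov P hP hPV α
    have hUtop : U = ⊤ := top_le_iff.1 fun x _ => (hcov x).resolve_right (by simp)
    subst hUtop
    let e : ((⊤ : X.Opens) : Scheme.{u}) ≅ X := X.topIso
    haveI : (DCoh.restrictD (⊤ : X.Opens).ι).Full := inferInstanceAs (restrictDEquiv e).functor.Full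
    haveI : (DCoh.restrictD (⊤ : X.Opens).ι).Faithful :=
      inferInstanceAs (restrictDEquiv e).functor.Faithful
    let R := (restrictDEquiv e).inverse.obj P
    let ε : (DCoh.restrictD (⊤ : X.Opens).ι).obj R ≅ P := (restrictDEquiv e).counitIso.app P
    obtain ⟨β, hβ⟩ := (DCoh.restrictD (⊤ : X.Opens).ι).map_surjective (ε.hom ≫ α)
    refine ⟨R, β, ⟨ε.inv, ε.hom, ε.inv_hom_id⟩, isPerfect_restrictD e.inv hP, ?_, ?_⟩
    · exact isZero_restrictD_of_preimage e V (hPV.of_iso ((DCoh.restrictD _).mapIso ε))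
    · simp [hβ]
  | cons O L ih =>
    intro U hU hcov P hP hPV α
    let W := U ⊔ O.1
    have hW : IsCompact (W : Set X) := by
      simp only [W, Opens.coe_sup]
      exact hU.union O.2.isCompact
    obtain ⟨R', β', ρ', hR', hR'V, hρ'⟩ := exists_lift_le (le_sup_left : U ≤ W) le_sup_right le_rfl
      hU O.2 hV E hE P hP hPV α
    obtain ⟨R, β, ρ, hR, hRV, hρ⟩ := ih W hW (fun x => (hcov x).elim
      (fun h => Or.inl (Opens.mem_sup.2 (Or.inl h)))
      fun ⟨Q, hQ, hx⟩ => (List.mem_cons.1 hQ).elim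
        (fun h => Or.inl (Opens.mem_sup.2 (Or.inr (h ▸ hx))))
        fun h => Or.inr ⟨Q, h, hx⟩) R' hR' hR'V β'
    let k := X.homOfLE (le_sup_left : U ≤ W)
    let c := restrictDComp k W.ι U.ι (X.homOfLE_ι _)
    refine ⟨R, β, ⟨ρ'.i ≫ (DCoh.restrictD k).map ρ.i ≫ c.hom.app R,
      c.inv.app R ≫ (DCoh.restrictD k).map ρ.r ≫ ρ'.r, ?_⟩, hR, hRV, ?_⟩
    · simp only [Category.assoc, Iso.hom_inv_id_app_assoc, ← Functor.map_comp_assoc, ρ.retract,
        CategoryTheory.Functor.map_id, Category.id_comp, ρ'.retract]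
    · have hn : c.hom.app R ≫ (DCoh.restrictD U.ι).map β =
          (DCoh.restrictD k).map ((DCoh.restrictD W.ι).map β) ≫ c.hom.app E := (c.hom.naturality β).symm
      calc (ρ'.i ≫ (DCoh.restrictD k).map ρ.i ≫ c.hom.app R) ≫ (DCoh.restrictD U.ι).map β
          = ρ'.i ≫ (DCoh.restrictD k).map (ρ.i ≫ (DCoh.restrictD W.ι).map β) ≫ c.hom.app E := by
            rw [Category.assoc, Category.assoc, hn, Functor.map_comp, Category.assoc]
        _ = α := by
            rw [hρ, reassoc_of% hρ']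
            exact (congrArg (α ≫ ·) (c.inv_hom_id_app E)).trans (Category.comp_id α)

end Induction

end Groth.Agent.PerfD40

namespace Groth.Agent.PerfD40

/-- Finitely many affine opens cover a quasi-compact scheme. -/
lemma exists_list_affine_cover (X : Scheme.{u}) [CompactSpace X] :
    ∃ L : List X.affineOpens, ∀ x : X, ∃ O ∈ L, x ∈ O.1 := by
  obtain ⟨t, ht⟩ := isCompact_univ.elim_finite_subcover (fun O : X.affineOpens => (O.1 : Set X))
    (fun O => O.1.2) fun x _ => by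
      obtain ⟨_, ⟨W, hW, rfl⟩, hxW, -⟩ :=
        X.isBasis_affineOpens.exists_subset_of_mem_open (Set.mem_univ x) isOpen_univ
      exact Set.mem_iUnion.2 ⟨⟨W, hW⟩, hxW⟩
  refine ⟨t.toList, fun x => ?_⟩
  obtain ⟨O, hO, hx⟩ := Set.mem_iUnion₂.1 (ht (Set.mem_univ x))
  exact ⟨O, Finset.mem_toList.2 hO, hx⟩

end Groth.Agent.PerfD40
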