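import Groth.Agent.PerfD40.PCTri
import Groth.Agent.PerfD40.LiftSupport

/-!
# Approximations, locally
-/

set_option linter.style.haveILetI false

universe u

open CategoryTheory CategoryTheory.Limits Pretriangulated AlgebraicGeometry TopologicalSpace

attribute [local instance] HasDerivedCategory.standard

namespace Groth.Agent.PerfD40

open Groth.Agent.KFlatLib

variable {W X : Scheme.{u}}

/-- The support of a restriction. -/
lemma mem_support_restrict (j : W ⟶ X) [IsOpenImmersion j] (M : X.Modules) (w : W) :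
    w ∈ CohB1.support ((Scheme.Modules.restrictFunctor j).obj M) ↔ j.base w ∈ CohB1.support M :=
  not_congr (Equiv.subsingleton_congr
    ((Scheme.Modules.restrictStalkNatIso j w).app M).addCommGroupIsoToAddEquiv.toEquiv)

/-- Isomorphic sheaves have the same support. -/
lemma mem_support_iso {M N : X.Modules} (e : M ≅ N) (x : X) :
    x ∈ CohB1.support M ↔ x ∈ CohB1.support N :=
  not_congr (Equiv.subsingleton_congr
    ((DerSch.stalkFunctor X x).mapIso e).toLinearEquiv.toEquiv)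

/-- The support of the cohomology of a restriction. -/
lemma mem_support_hd_restrictD (j : W ⟶ X) [IsOpenImmersion j] (E : DCoh.D X) (i : ℤ) (w : W) :
    w ∈ CohB1.support (DCoh.HD ((DCoh.restrictD j).obj E) i) ↔
      j.base w ∈ CohB1.support (DCoh.HD E i) :=
  (mem_support_iso (hdRestrictIso j E i) w).trans (mem_support_restrict j _ w)

/-- A sheaf is zero iff its support is empty. -/
lemma isZero_iff_support (M : X.Modules) : IsZero M ↔ ∀ x, x ∉ CohB1.support M := by
  refine ⟨fun h x hx => hx ?_, fun h => isZero_of_stalk M fun x => ?_⟩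
  · exact ModuleCat.subsingleton_of_isZero ((DerSch.stalkFunctor X x).map_isZero h)
  · haveI : Subsingleton ((DerSch.stalkFunctor X x).obj M) := not_not.1 (h x)
    exact ModuleCat.isZero_of_subsingleton _

/-- Approximations are detected on open covers. -/
theorem isPcMap_of_cover {m : ℤ} {P E : DCoh.D X} (α : P ⟶ E)
    (h : ∀ x : X, ∃ (W : Scheme.{u}) (j : W ⟶ X) (_ : IsOpenImmersion j),
      x ∈ Set.range j.base ∧ IsPcMap m ((DCoh.restrictD j).map α)) : IsPcMap m α := by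
  obtain ⟨C, g, δ, hT⟩ := distinguished_cocone_triangle α
  refine (isPcMap_iff_obj₃ m hT).2 fun i hi => (isZero_iff_support _).2 fun x hx => ?_
  obtain ⟨W, j, _, ⟨w, rfl⟩, hα⟩ := h x
  exact (isZero_iff_support _).1
    ((isPcMap_iff_obj₃ m ((DCoh.restrictD j).map_distinguished _ hT)).1 hα i hi) w
    ((mem_support_hd_restrictD j C i w).2 hx)

/-- Approximations restrict. -/
theorem isPcMap_restrictD {m : ℤ} {P E : DCoh.D X} {α : P ⟶ E} (h : IsPcMap m α) (j : W ⟶ X)
    [IsOpenImmersion j] : IsPcMap m ((DCoh.restrictD j).map α) :=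
  h.map_exact (Scheme.Modules.restrictFunctor j)

/-- A map of objects vanishing on an open in high degrees is an approximation there. -/
theorem isPcMap_restrictD_of_support {m : ℤ} {P E : DCoh.D X} (α : P ⟶ E) (j : W ⟶ X)
    [IsOpenImmersion j]
    (hP : ∀ i, m ≤ i → ∀ w : W, j.base w ∉ CohB1.support (DCoh.HD P i))
    (hE : ∀ i, m ≤ i → ∀ w : W, j.base w ∉ CohB1.support (DCoh.HD E i)) :
    IsPcMap m ((DCoh.restrictD j).map α) := by
  have hz : ∀ (F : DCoh.D X), (∀ i, m ≤ i → ∀ w : W, j.base w ∉ CohB1.support (DCoh.HD F i)) →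
      ∀ i, m ≤ i → IsZero (DCoh.HD ((DCoh.restrictD j).obj F) i) := fun F hF i hi =>
    (isZero_iff_support _).2 fun w hw => hF i hi w ((mem_support_hd_restrictD j F i w).1 hw)
  exact ⟨fun i hi => ⟨0, (hz P hP i hi.le).eq_of_src _ _, (hz E hE i hi.le).eq_of_src _ _⟩,
    ⟨fun a b _ => (hz E hE m le_rfl).eq_of_src a b⟩⟩

/-- Vanishing on an open, in terms of supports. -/
lemma isZero_restrictD_iff_support (O : X.Opens) (E : DCoh.D X) :
    IsZero ((DCoh.restrictD O.ι).obj E) ↔ ∀ i, CohB1.support (DCoh.HD E i) ⊆ (O : Set X)ᶜ :=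
  ⟨fun h i => support_subset_of_isZero_restrictD O E h i,
    fun h => isZero_restrictD_of_support O E _ h fun _ hx hx' => hx' hx⟩

/-- A map on an open extends, when the source vanishes on a second open covering the rest. -/
theorem exists_map_extend (U V : X.Opens) (hUV : U ⊔ V = ⊤) (R E : DCoh.D X)
    (hR : IsZero ((DCoh.restrictD V.ι).obj R))
    (φ : (DCoh.restrictD U.ι).obj R ⟶ (DCoh.restrictD U.ι).obj E) :
    ∃ γ : R ⟶ E, (DCoh.restrictD U.ι).map γ = φ := by
  haveI := hasRpush_scheme U.ι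
  haveI := hasRpush_scheme V.ι
  let adj := restrictRpushAdj U.ι
  obtain ⟨C, ι₀, δ₀, hT⟩ := distinguished_cocone_triangle₁ (adj.unit.app E)
  have hu : IsIso ((DCoh.restrictD U.ι).map (adj.unit.app E)) := by
    obtain ⟨cc⟩ := nonempty_rpush_restrictD_self U.ι
    haveI : (DCoh.Rpush U.ι).Full := (adj.fullyFaithfulROfCompIsoId cc).full
    haveI : (DCoh.Rpush U.ι).Faithful := (adj.fullyFaithfulROfCompIsoId cc).faithful
    infer_instance
  have hCU : IsZero ((DCoh.restrictD U.ι).obj (C⟦(1 : ℤ)⟧)) :=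
    (Functor.map_isZero (shiftFunctor _ (1 : ℤ))
      ((Triangle.isZero₁_iff_isIso₂ _ ((DCoh.restrictD U.ι).map_distinguished _ hT)).2 hu)).of_iso
        (((DCoh.restrictD U.ι).commShiftIso (1 : ℤ)).app C)
  have hsub : ((U : Set X))ᶜ ⊆ (V : Set X) := fun y hy =>
    (Opens.mem_sup.1 (hUV ▸ (trivial : y ∈ (⊤ : X.Opens)))).resolve_left hy
  obtain ⟨θ⟩ := nonempty_iso_rpush_restrict V (U : Set X)ᶜ U.isOpen.isClosed_compl hsub (C⟦(1 : ℤ)⟧)
    fun i => support_subset_of_isZero_restrictD U _ hCU i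
  let adjV := restrictRpushAdj V.ι
  have h0 : adj.homEquiv _ _ φ ≫ δ₀ = 0 := (cancel_mono θ.hom).1
    ((adjV.homEquiv _ _).symm.injective (hR.eq_of_src _ _))
  obtain ⟨γ, hγ⟩ : ∃ γ : R ⟶ E, adj.homEquiv _ _ φ = γ ≫ adj.unit.app E :=
    Triangle.coyoneda_exact₂ _ (rot_of_distTriang _ hT) _ h0
  refine ⟨γ, (adj.homEquiv _ _).injective ?_⟩
  rw [adj.homEquiv_unit (f := (DCoh.restrictD _).map γ)]
  exact (adj.unit.naturality γ).symm.trans hγ.symm

/-- An object on an open, with support closed in the whole space, has a perfect extension when it is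
perfect. -/
theorem exists_perfect_extend (U V : X.Opens) (hUV : U ⊔ V = ⊤) (P : DCoh.D (U : Scheme.{u}))
    (hP : DCoh.IsPerfect P) (hPV : IsZero ((DCoh.restrictD (U.ι ⁻¹ᵁ V).ι).obj P)) :
    ∃ R : DCoh.D X, DCoh.IsPerfect R ∧ IsZero ((DCoh.restrictD V.ι).obj R) ∧
      Nonempty ((DCoh.restrictD U.ι).obj R ≅ P) := by
  haveI := hasRpush_scheme U.ι
  haveI := hasRpush_scheme (U.ι ∣_ V)
  haveI : (DCoh.Rpush (U.ι ∣_ V)).Additive :=
    (exists_rightDerived_triangle (Scheme.Modules.pushforward (U.ι ∣_ V)) _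
      (contractible_distinguished ((DCoh.restrictD (U.ι ⁻¹ᵁ V).ι).obj P))).1
  refine ⟨(DCoh.Rpush U.ι).obj P, isPerfect_rpush_of_support U P hP _ ?_
      (support_subset_of_isZero_restrictD _ P hPV),
    (Functor.map_isZero (DCoh.Rpush (U.ι ∣_ V)) hPV).of_iso
      ((nonempty_rpush_restrictD_iso U.ι V).some.app P),
    ⟨(nonempty_rpush_restrictD_self U.ι).some.app P⟩⟩
  convert V.isOpen.isClosed_compl using 1
  ext y
  constructor
  · rintro ⟨x, hx, rfl⟩
    exact hx
  · intro hy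
    exact ⟨⟨y, (Opens.mem_sup.1 (hUV ▸ (trivial : y ∈ (⊤ : X.Opens)))).resolve_right hy⟩, hy, rfl⟩

/-- Approximations extend from an open containing the support. -/
theorem exists_approx_extend (U V : X.Opens) (hUV : U ⊔ V = ⊤) (E : DCoh.D X) {m : ℤ}
    (P : DCoh.D (U : Scheme.{u})) (α : P ⟶ (DCoh.restrictD U.ι).obj E) (hP : DCoh.IsPerfect P)
    (hPV : IsZero ((DCoh.restrictD (U.ι ⁻¹ᵁ V).ι).obj P)) (hα : IsPcMap m α)
    (hE : ∀ i, m ≤ i → CohB1.support (DCoh.HD E i) ⊆ (V : Set X)ᶜ) :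
    ∃ (R : DCoh.D X) (γ : R ⟶ E), DCoh.IsPerfect R ∧ IsZero ((DCoh.restrictD V.ι).obj R) ∧
      IsPcMap m γ := by
  obtain ⟨R, hR, hRV, ⟨e⟩⟩ := exists_perfect_extend U V hUV P hP hPV
  obtain ⟨γ, hγ⟩ := exists_map_extend U V hUV R E hRV (e.hom ≫ α)
  refine ⟨R, γ, hR, hRV, isPcMap_of_cover γ fun x => ?_⟩
  rcases Opens.mem_sup.1 (show x ∈ U ⊔ V by rw [hUV]; trivial) with hx | hx
  · refine ⟨_, U.ι, inferInstance, ⟨⟨x, hx⟩, rfl⟩, ?_⟩
    rw [hγ]
    simpa using hα.comp_iso e.hom (𝟙 _)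
  · exact ⟨_, V.ι, inferInstance, ⟨⟨x, hx⟩, rfl⟩, isPcMap_restrictD_of_support γ V.ι
      (fun i _ w h => support_subset_of_isZero_restrictD V R hRV i h w.2)
      fun i hi w h => hE i hi h w.2⟩

end Groth.Agent.PerfD40
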