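import Groth.Agent.PerfD40.AmplitudeInduction
import Groth.Agent.KFlatLib.Scheme.CohD
import Groth.Agent.KFlatLib.Scheme.RpushQCoh
import Groth.Agent.KFlatLib.Scheme.RpushBound
import Groth.Agent.QCoh.RpushClosed
import Groth.Agent.QCoh.ProperOver2
import Groth.Agent.PerfD40.PCLocal

/-!
# Derived direct images of objects with coherent cohomology of proper support
-/

set_option linter.style.haveILetI false
set_option backward.isDefEq.respectTransparency false

universe u

open CategoryTheory CategoryTheory.Limits AlgebraicGeometry CategoryTheory.Pretriangulated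

attribute [local instance] HasDerivedCategory.standard

namespace Groth.Agent.PerfD40

open Groth.Agent.KFlatLib

variable {X S : Scheme.{u}} (f : X ⟶ S) [LocallyOfFiniteType f] [DCoh.HasRpush f]

omit [DCoh.HasRpush f] in
/-- The higher direct images of a module with proper support eventually vanish. -/
lemma exists_rpush_vanish_properSupport [CompactSpace S] [HasInjectiveResolutions X.Modules]
    {F : X.Modules} (hF : Coh.IsCoh F) (hs : ClSub.IsProperOver f (CohB1.support F)) :
    ∃ N : ℕ, ∀ p : ℕ, N ≤ p → IsZero ((Coh.Rpush f p).obj F) := by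
  obtain ⟨T, i, G, hi, hr, hG, hGft, ⟨e⟩⟩ := QCoh.exists_closed_model hF.1 hF.2
  haveI := hi
  rw [← hr] at hs
  haveI : IsProper (i ≫ f) := (QCoh.isProperOver_iff i).1 hs
  haveI : HasInjectiveResolutions T.Modules := hasInjectiveResolutions_modules
  obtain ⟨N, hN⟩ := exists_Rpush_bound (i ≫ f)
  refine ⟨N, fun p hp => ?_⟩
  obtain ⟨e'⟩ := QCoh.nonempty_Rpush_affine_push i f hG p
  exact (hN G hG p hp).of_iso ((Coh.Rpush f p).mapIso e.symm ≪≫ e')

variable [IsNoetherian S]

/-- `Rf_*` of a bounded object with coherent cohomology of proper support is bounded and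
coherent. -/
theorem isCohD_rpush_bounded (E : DCoh.D X) (a b : ℤ) [E.IsGE a] [E.IsLE b] (hE : DCoh.IsCohD E)
    (hsupp : ∀ i : ℤ, ClSub.IsProperOver f (CohB1.support (DCoh.HD E i))) :
    DCoh.IsCohD ((DCoh.Rpush f).obj E) ∧ ∃ b' : ℤ, ∀ i, b' < i →
      IsZero (DCoh.HD ((DCoh.Rpush f).obj E) i) := by
  haveI : HasInjectiveResolutions X.Modules := hasInjectiveResolutions_modules
  haveI hmax : DerivedCategory.IsLE E (max a b) :=
    (DerivedCategory.TStructure.t : Triangulated.TStructure (DCoh.D X)).isLE_of_le E b (max a b)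
      (le_max_right a b)
  refine amplitude_induction (C := X.Modules) (fun K : DCoh.D X =>
      DCoh.IsCohD ((DCoh.Rpush f).obj K) ∧ ∃ b' : ℤ, ∀ i, b' < i →
        IsZero (DCoh.HD ((DCoh.Rpush f).obj K) i))
    (fun {K L} e h => ?_) (fun T hT h₁ h₃ => ?_) (max a b - a).toNat a E inferInstance
      ((DerivedCategory.TStructure.t : Triangulated.TStructure (DCoh.D X)).isLE_of_le E (max a b) _
        (by omega)) fun i _ _ => ?_
  · obtain ⟨h, b', hb⟩ := h
    exact ⟨isCohD_of_iso ((DCoh.Rpush f).mapIso e) h, b', fun i hi =>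
      (hb i hi).of_iso ((DerivedCategory.homologyFunctor S.Modules i).mapIso
        ((DCoh.Rpush f).mapIso e.symm))⟩
  · obtain ⟨c, hc⟩ := exists_rpush_triangle f T hT
    obtain ⟨r₁, b₁, v₁⟩ := h₁
    obtain ⟨r₃, b₃, v₃⟩ := h₃
    exact ⟨isCohD_obj₂ hc r₁ r₃, max b₁ b₃, fun i hi =>
      (DerivedCategory.HomologySequence.exact₂ _ hc i).isZero_X₂
        ((v₁ i (by omega)).eq_of_src _ _) ((v₃ i (by omega)).eq_of_tgt _ _)⟩
  · let M := DCoh.HD E i
    let e := ((DerivedCategory.singleFunctors X.Modules).shiftIso (-i) i 0 (by omega)).app M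
    obtain ⟨eS⟩ := nonempty_rpush_shift f (DCoh.inD X M) (-i)
    let eR : ((DCoh.Rpush f).obj ((DCoh.inD X M)))⟦(-i : ℤ)⟧ ≅
        (DCoh.Rpush f).obj ((DerivedCategory.singleFunctor X.Modules i).obj M) :=
      eS.symm ≪≫ (DCoh.Rpush f).mapIso e
    let eH : ∀ j : ℤ, DCoh.HD ((DCoh.Rpush f).obj ((DerivedCategory.singleFunctor X.Modules i).obj M)) j ≅
        DCoh.HD ((DCoh.Rpush f).obj (DCoh.inD X M)) (j - i) := fun j =>
      (DerivedCategory.homologyFunctor S.Modules j).mapIso eR.symm ≪≫
        ((DerivedCategory.homologyFunctor S.Modules 0).shiftIso (-i) j (j - i) (by omega)).app _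
    obtain ⟨N, hN⟩ := exists_rpush_vanish_properSupport f (hE i) (hsupp i)
    refine ⟨fun j => isCoh_of_iso (eH j).symm ?_, i + N, fun j hj => IsZero.of_iso ?_ (eH j)⟩
    · rcases lt_or_ge (j - i) 0 with h | h
      · exact isCoh_of_isZero (isZero_hd_rpush_of_lt f _ 0 _ h)
      · obtain ⟨n, hn⟩ := Int.eq_ofNat_of_zero_le h
        rw [hn]
        exact isCoh_of_iso (nonempty_hd_rpush_single f M n).some.symm
          (QCoh.isCoh_Rpush_of_properSupport f (hE i) (hsupp i) n)
    · obtain ⟨n, hn⟩ := Int.eq_ofNat_of_zero_le (show 0 ≤ j - i by omega)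
      rw [hn]
      exact (hN n (by omega)).of_iso (nonempty_hd_rpush_single f M n).some

/-- `Rf_*` of a bounded below object with coherent cohomology of proper support is coherent. -/
theorem isCohD_rpush_boundedBelow (E : DCoh.D X) (a : ℤ) [E.IsGE a] (hE : DCoh.IsCohD E)
    (hsupp : ∀ i : ℤ, ClSub.IsProperOver f (CohB1.support (DCoh.HD E i))) :
    DCoh.IsCohD ((DCoh.Rpush f).obj E) := fun i => by
  haveI : IsLocallyNoetherian X := LocallyOfFiniteType.isLocallyNoetherian f
  rcases lt_or_ge i a with h | h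
  · exact isCoh_of_isZero (isZero_hd_rpush_of_lt f E a i h)
  let t : Triangulated.TStructure (DCoh.D X) := DerivedCategory.TStructure.t
  let T := (t.triangleLTGE (i + 2)).obj E
  have hT : T ∈ distTriang _ := t.triangleLTGE_distinguished _ E
  haveI h₁le : T.obj₁.IsLE (i + 1) := t.isLE_truncLT_obj E _ _ (by omega)
  haveI h₃ge : T.obj₃.IsGE (i + 2) := t.isGE_truncGE_obj E _ _ le_rfl
  haveI h₁ge : T.obj₁.IsGE a := by
    rw [DerivedCategory.isGE_iff]
    intro j hj
    exact (DerivedCategory.HomologySequence.exact₁ T hT (j - 1) j (by omega)).isZero_X₂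
      ((DerivedCategory.isZero_of_isGE T.obj₃ (i + 2) (j - 1) (by omega)).eq_of_src _ _)
      ((DerivedCategory.isZero_of_isGE E a j hj).eq_of_tgt _ _)
  have key : ∀ j, Nonempty (DCoh.HD T.obj₁ j ≅ DCoh.HD E j) ∨ IsZero (DCoh.HD T.obj₁ j) := fun j => by
    by_cases hj : j ≤ i + 1
    · haveI : Epi ((DerivedCategory.homologyFunctor X.Modules j).map T.mor₁) :=
        (DerivedCategory.HomologySequence.exact₂ T hT j).epi_f
          ((DerivedCategory.isZero_of_isGE T.obj₃ (i + 2) j (by omega)).eq_of_tgt _ _)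
      haveI : Mono ((DerivedCategory.homologyFunctor X.Modules j).map T.mor₁) :=
        (DerivedCategory.HomologySequence.exact₁ T hT (j - 1) j (by omega)).mono_g
          ((DerivedCategory.isZero_of_isGE T.obj₃ (i + 2) (j - 1) (by omega)).eq_of_src _ _)
      haveI := isIso_of_mono_of_epi ((DerivedCategory.homologyFunctor X.Modules j).map T.mor₁)
      exact Or.inl ⟨asIso ((DerivedCategory.homologyFunctor X.Modules j).map T.mor₁)⟩
    · exact Or.inr (DerivedCategory.isZero_of_isLE T.obj₁ (i + 1) j (by omega))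
  have hc₁ : DCoh.IsCohD T.obj₁ := fun j => by
    rcases key j with ⟨⟨e⟩⟩ | hz
    · exact isCoh_of_iso e.symm (hE j)
    · exact isCoh_of_isZero hz
  have hs₁ : ∀ j, ClSub.IsProperOver f (CohB1.support (DCoh.HD T.obj₁ j)) := fun j => by
    rcases key j with ⟨⟨e⟩⟩ | hz
    · rw [show CohB1.support (DCoh.HD T.obj₁ j) = CohB1.support (DCoh.HD E j) from
        Set.ext (mem_support_iso e)]
      exact hsupp j
    · rw [show CohB1.support (DCoh.HD T.obj₁ j) = ∅ from
        Set.eq_empty_iff_forall_notMem.2 ((isZero_iff_support _).1 hz)]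
      exact QCoh.isProperOver_empty
  obtain ⟨r₁, -⟩ := isCohD_rpush_bounded f T.obj₁ a (i + 1) hc₁ hs₁
  obtain ⟨c, hc⟩ := exists_rpush_triangle f T hT
  haveI := isGE_rpush f T.obj₃ (i + 2)
  haveI : Mono ((DerivedCategory.homologyFunctor S.Modules i).map ((DCoh.Rpush f).map T.mor₁)) :=
    (DerivedCategory.HomologySequence.exact₁ _ hc (i - 1) i (by omega)).mono_g
      ((DerivedCategory.isZero_of_isGE ((DCoh.Rpush f).obj T.obj₃) (i + 2) (i - 1) (by omega)).eq_of_src _ _)
  haveI : Epi ((DerivedCategory.homologyFunctor S.Modules i).map ((DCoh.Rpush f).map T.mor₁)) :=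
    (DerivedCategory.HomologySequence.exact₂ _ hc i).epi_f
      ((DerivedCategory.isZero_of_isGE ((DCoh.Rpush f).obj T.obj₃) (i + 2) i (by omega)).eq_of_tgt _ _)
  haveI := isIso_of_mono_of_epi
    ((DerivedCategory.homologyFunctor S.Modules i).map ((DCoh.Rpush f).map T.mor₁))
  exact isCoh_of_iso
    (asIso ((DerivedCategory.homologyFunctor S.Modules i).map ((DCoh.Rpush f).map T.mor₁))) (r₁ i)

end Groth.Agent.PerfD40
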