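import Groth.Agent.PerfD40.CompactAffine

/-!
# Compact objects of `D_QCoh` are perfect
-/

set_option linter.style.haveILetI false

universe u

open CategoryTheory CategoryTheory.Limits AlgebraicGeometry Pretriangulated

attribute [local instance] HasDerivedCategory.standard

namespace Groth.Agent.PerfD40

open Groth.Agent.KFlatLib

variable {X : Scheme.{u}}

/-- Compact objects see finitely many summands. -/
lemma seesFinitely_of_isCompactObjRel {K : DCoh.D X}
    (h : PerfAux.IsCompactObjRel.{u} (fun L : DCoh.D X => DCoh.IsQCohD L) K) : SeesFinitely K := by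
  classical
  intro J G _ hG φ
  obtain ⟨x, rfl⟩ := (h J G hG).2 φ
  induction x using DirectSum.induction_on with
  | zero => exact ⟨∅, by simp⟩
  | of i g =>
    refine ⟨{i}, ?_⟩
    have : PerfAux.homSumToHomCoprod K G (DirectSum.of _ i g) = g ≫ Sigma.ι G i := by
      simp [PerfAux.homSumToHomCoprod, Preadditive.rightComp]
    rw [this, Category.assoc, ι_partProj_mem G (Finset.mem_singleton_self i)]
  | add a b ha hb =>
    obtain ⟨F, hF⟩ := ha
    obtain ⟨F', hF'⟩ := hb
    exact ⟨F ∪ F', by rw [map_add, Preadditive.add_comp, fix_mono Finset.subset_union_left hF,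
      fix_mono Finset.subset_union_right hF']⟩

/-- Compact objects of `D_QCoh` of a quasi-separated scheme are perfect. -/
theorem isPerfect_of_seesFinitely [QuasiSeparatedSpace X] {K : DCoh.D X} (hq : DCoh.IsQCohD K)
    (h : SeesFinitely K) : DCoh.IsPerfect K := by
  refine (isPerfect_iff _).2 fun x => ?_
  obtain ⟨_, ⟨W, hW, rfl⟩, hxW, -⟩ :=
    X.isBasis_affineOpens.exists_subset_of_mem_open (Set.mem_univ x) isOpen_univ
  haveI := hW
  let A : CommRingCat.{u} := Γ(X, W)
  haveI : PreservesFiniteLimits (tilde.functor A) := QCoh.tilde_preservesFiniteLimits (R := A)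
  let j : Spec A ⟶ X := hW.fromSpec
  haveI : IsOpenImmersion j := hW.isOpenImmersion_fromSpec
  haveI : QuasiCompact j := quasiCompact_of_compactSpace j
  obtain ⟨y, hy⟩ : x ∈ Set.range j.base := by rw [hW.range_fromSpec]; exact hxW
  obtain ⟨U, i, _, hyi, P, hP, ⟨e⟩⟩ := (isPerfect_iff _).1
    (isPerfect_of_seesFinitely_spec (isQCohD_restrictD j hq) (h.restrict j)) y
  obtain ⟨u', rfl⟩ := hyi
  exact ⟨U, i ≫ j, inferInstance, ⟨u', by rw [← hy]; rfl⟩, P, hP,
    ⟨e ≪≫ rhoComp i j (i ≫ j) rfl K⟩⟩

end Groth.Agent.PerfD40
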