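import Groth.Agent.PerfD40.KoszulAffine
import Groth.Agent.PerfD40.Trunc

/-!
# Orthogonality to Koszul objects
-/

set_option linter.style.haveILetI false

universe u

open CategoryTheory CategoryTheory.Limits Pretriangulated AlgebraicGeometry

attribute [local instance] HasDerivedCategory.standard

namespace Groth.Agent.PerfD40

open Groth.Agent.KFlatLib

variable {A : CommRingCat.{u}} (l : List A) [PreservesFiniteLimits (tilde.functor A)]
  [PreservesFiniteLimits (Scheme.Modules.restrictFunctor (outOpen l).ι)]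
  [DCoh.HasRpush (outOpen l).ι]
  (adj : DCoh.restrictD (outOpen l).ι ⊣ DCoh.Rpush (outOpen l).ι)
  (E : DCoh.D (Spec A)) (hE : DCoh.IsQCohD E)

/-- Cohomology of a tilde vanishes with that of the complex. -/
lemma isZero_hd_tildeD {A : CommRingCat.{u}} [PreservesFiniteLimits (tilde.functor A)]
    (N : DerivedCategory (ModuleCat.{u} A)) (i : ℤ)
    (h : IsZero ((DerivedCategory.homologyFunctor (ModuleCat.{u} A) i).obj N)) :
    IsZero (DCoh.HD ((DCoh.tildeD A).obj N) i) :=
  ((tilde.functor A).map_isZero h).of_iso ((mapDCHomologyIso (tilde.functor A) i).app N)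

lemma isZero_homology_of_tildeD {A : CommRingCat.{u}} [PreservesFiniteLimits (tilde.functor A)]
    (N : DerivedCategory (ModuleCat.{u} A)) (i : ℤ)
    (h : IsZero (DCoh.HD ((DCoh.tildeD A).obj N) i)) :
    IsZero ((DerivedCategory.homologyFunctor (ModuleCat.{u} A) i).obj N) :=
  isZero_of_tilde (h.of_iso ((mapDCHomologyIso (tilde.functor A) i).app N).symm)

include adj hE

theorem orth_iso_low (a : ℤ) (h : ∀ n : ℤ, n ≤ a → ∀ φ : (kX l)⟦-n⟧ ⟶ E, φ = 0) :
    IsIso (((tS (Spec A)).truncLE (a - 1)).map (adj.unit.app E)) := by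
  obtain ⟨N, ι, δ, hT, hN, hbij⟩ := exists_unit_fibre l adj E hE
  refine (isIso_truncLT_map_iff _ _).2 fun i hi => ?_
  have hz : ∀ j ≤ a, IsZero (DCoh.HD ((DCoh.tildeD A).obj N) j) := fun j hj =>
    isZero_hd_tildeD N j (isZero_homology_of_hom_kX l hN j fun φ =>
      (hbij (-j)).1 ((h j hj _).trans zero_comp.symm))
  exact isIso_hd_of_isZero_fibre hT i (hz i (by omega)) (hz (i + 1) (by omega))

theorem iso_orth_low (a : ℤ) (h : IsIso (((tS (Spec A)).truncLE (a - 1)).map (adj.unit.app E)))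
    (n : ℤ) (hn : n ≤ a - 1) (φ : (kX l)⟦-n⟧ ⟶ E) : φ = 0 := by
  obtain ⟨N, ι, δ, hT, hN, hbij⟩ := exists_unit_fibre l adj E hE
  have hu := (isIso_truncLT_map_iff _ _).1 h
  obtain ⟨ψ, rfl⟩ := (hbij (-n)).2 φ
  have hz : ∀ χ : kz l ⟶ N⟦n⟧, χ = 0 := fun χ => kz_hom_eq_zero l _ χ fun i h1 h2 => by
    haveI := hu (n + i) (by omega)
    haveI := hu (n + i - 1) (by omega)
    exact (isZero_homology_of_tildeD N _ (isZero_fibre hT (n + i))).of_iso (hShiftA N n i _ rfl)
  rw [(hom_kX_eq_zero_iff l N n).2 hz ψ]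
  exact zero_comp

theorem orth_iso_high (a : ℤ) (h : ∀ n : ℤ, a ≤ n → ∀ φ : (kX l)⟦-n⟧ ⟶ E, φ = 0) :
    IsIso (((tS (Spec A)).truncGE a).map (adj.unit.app E)) := by
  obtain ⟨N, ι, δ, hT, hN, hbij⟩ := exists_unit_fibre l adj E hE
  refine (isIso_truncGE_map_iff _ _).2 fun i hi => ?_
  have hz : ∀ j, a ≤ j → IsZero (DCoh.HD ((DCoh.tildeD A).obj N) j) := fun j hj =>
    isZero_hd_tildeD N j (isZero_homology_of_hom_kX l hN j fun φ =>
      (hbij (-j)).1 ((h j hj _).trans zero_comp.symm))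
  exact isIso_hd_of_isZero_fibre hT i (hz i hi) (hz (i + 1) (by omega))

theorem iso_orth_high (a : ℤ) (h : IsIso (((tS (Spec A)).truncGE a).map (adj.unit.app E)))
    (n : ℤ) (hn : a + (l.length : ℤ) ≤ n) (φ : (kX l)⟦-n⟧ ⟶ E) : φ = 0 := by
  obtain ⟨N, ι, δ, hT, hN, hbij⟩ := exists_unit_fibre l adj E hE
  have hu := (isIso_truncGE_map_iff _ _).1 h
  obtain ⟨M, ⟨eM⟩⟩ := exists_tildeD_iso hE
  obtain ⟨g, hg⟩ := (tildeD_map_bijective N M).2 (ι ≫ eM.inv)
  obtain ⟨ψ, rfl⟩ := (hbij (-n)).2 φ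
  have hz : ∀ i, a + 1 ≤ i →
      IsZero ((DerivedCategory.homologyFunctor (ModuleCat.{u} A) i).obj N) := fun i hi => by
    haveI := hu i (by omega)
    haveI := hu (i - 1) (by omega)
    exact isZero_homology_of_tildeD N i (isZero_fibre hT i)
  have hg0 : ∀ i, a ≤ i → (DerivedCategory.homologyFunctor (ModuleCat.{u} A) i).map g = 0 := fun i hi => by
    haveI := hu i hi
    apply (tilde.functor A).map_injective
    have h1 := (mapDCHomologyIso (tilde.functor A) i).hom.naturality g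
    refine (cancel_epi ((mapDCHomologyIso (tilde.functor A) i).hom.app N)).1 (h1.symm.trans ?_)
    rw [Functor.map_zero, comp_zero, Functor.comp_map, hg, Functor.map_comp,
      map_fibre_eq_zero_of_mono hT i]
    erw [zero_comp, zero_comp]
  -- transport to the complex
  let T := DCoh.tildeD A
  let e := (T.commShiftIso (-n)).app (kz l)
  obtain ⟨χ, hχ⟩ := (tildeD_map_bijective _ _).2 (e.hom ≫ ψ)
  have h1 : ((shiftNegShift (kz l) n).inv ≫ χ⟦n⟧') ≫ g⟦n⟧' = 0 := by
    refine kz_comp_eq_zero l _ _ _ _ (fun i h1 _ => (hz (n + i) (by omega)).of_iso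
      (hShiftA N n i _ rfl)) ?_
    let F := DerivedCategory.homologyFunctor (ModuleCat.{u} A) 0
    have hn' := (F.shiftIso n (-(l.length : ℤ)) (n + -(l.length : ℤ)) rfl).hom.naturality g
    refine (cancel_mono ((F.shiftIso n (-(l.length : ℤ)) (n + -(l.length : ℤ)) rfl).hom.app M)).1
      (hn'.trans ?_)
    erw [zero_comp, hg0 _ (by omega), comp_zero]
    rfl
  have h2 : χ ≫ g = 0 := by
    apply (shiftFunctor _ n).map_injective
    rw [Functor.map_zero, Functor.map_comp, ← cancel_epi (shiftNegShift (kz l) n).inv, comp_zero]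
    exact (Category.assoc _ _ _).symm.trans h1
  have h3 : e.hom ≫ ψ ≫ ι ≫ eM.inv = 0 := by
    rw [← Category.assoc, ← hχ, ← hg, ← Functor.map_comp, h2, Functor.map_zero]
  exact (cancel_mono eM.inv).1 ((Category.assoc _ _ _).trans
    (((cancel_epi e.hom).1 (h3.trans comp_zero.symm)).trans zero_comp.symm))

end Groth.Agent.PerfD40
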