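import Groth.Agent.PerfD40.ThomasonAffine
import Groth.Agent.PerfD40.KoszulOrth
import Groth.Agent.KFlatLib.Scheme.GlueD
import Groth.Agent.S0015

/-!
# A perfect generator of `D_QCoh` with supports

Objects supported away from a quasi-compact open `V` of a quasi-compact and quasi-separated scheme are
detected by one perfect object vanishing on `V`.
-/

set_option linter.style.haveILetI false

universe u

open CategoryTheory CategoryTheory.Limits AlgebraicGeometry Pretriangulated TopologicalSpace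

attribute [local instance] HasDerivedCategory.standard

namespace Groth.Agent.PerfD40

open Groth.Agent.KFlatLib

/-- A perfect generator of the objects vanishing on `V`. -/
def HasGen (Y : Scheme.{u}) (V : Y.Opens) : Prop :=
  ∃ R : DCoh.D Y, DCoh.IsPerfect R ∧ IsZero ((DCoh.restrictD V.ι).obj R) ∧
    ∀ E : DCoh.D Y, DCoh.IsQCohD E → IsZero ((DCoh.restrictD V.ι).obj E) →
      (∀ (n : ℤ) (φ : R⟦n⟧ ⟶ E), φ = 0) → IsZero E

section Local

variable {Y : Scheme.{u}}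

/-- Zero objects are detected on covers. -/
lemma isZero_of_isZero_restrictD (E : DCoh.D Y)
    (h : ∀ y : Y, ∃ W : Y.Opens, y ∈ W ∧ IsZero ((DCoh.restrictD W.ι).obj E)) : IsZero E := by
  have hz : ∀ i, IsZero (DCoh.HD E i) := fun i => isZero_of_isZero_restrict _ fun y => by
    obtain ⟨W, hy, hW⟩ := h y
    exact ⟨W, hy, (Functor.map_isZero (DerivedCategory.homologyFunctor _ i) hW).of_iso
      (hdRestrictIso W.ι E i).symm⟩
  refine (IsZero.iff_id_eq_zero _).2 ?_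
  haveI : IsIso (0 : E ⟶ E) := (DerivedCategory.isIso_iff _ _).2 fun i =>
    ⟨0, (hz i).eq_of_src _ _, (hz i).eq_of_src _ _⟩
  exact (cancel_epi (0 : E ⟶ E)).1 (by simp)

/-- Vanishing on two steps of restriction. -/
lemma isZero_restrictD_of_factor₂ {Z : Scheme.{u}} (j : Z ⟶ Y) [IsOpenImmersion j] (U V : Y.Opens)
    (hU : ∀ z : Z, j.base z ∈ U) (hV : ∀ z : Z, j.base z ∈ V) (K : DCoh.D Y)
    (h : IsZero ((DCoh.restrictD (U.ι ⁻¹ᵁ V).ι).obj ((DCoh.restrictD U.ι).obj K))) :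
    IsZero ((DCoh.restrictD j).obj K) := by
  let k := IsOpenImmersion.lift U.ι j (by
    rintro _ ⟨y, rfl⟩
    rw [Scheme.Opens.range_ι]
    exact hU y)
  have hk : k ≫ U.ι = j := IsOpenImmersion.lift_fac _ _ _
  haveI : IsOpenImmersion (k ≫ U.ι) := by rw [hk]; infer_instance
  haveI : IsOpenImmersion k := IsOpenImmersion.of_comp k U.ι
  refine (isZero_restrictD_of_factor k (U.ι ⁻¹ᵁ V) (fun z => ?_) _ h).of_iso
    ((restrictDComp k U.ι j hk).symm.app K)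
  change U.ι.base (k.base z) ∈ V
  rw [← Scheme.Hom.comp_apply, hk]
  exact hV z

/-- Perfectness is local. -/
lemma isPerfect_of_cover (E : DCoh.D Y)
    (h : ∀ y : Y, ∃ W : Y.Opens, y ∈ W ∧ DCoh.IsPerfect ((DCoh.restrictD W.ι).obj E)) :
    DCoh.IsPerfect E := by
  refine (isPerfect_iff _).2 fun y => ?_
  obtain ⟨W, hy, hW⟩ := h y
  obtain ⟨U, i, _, ⟨u', hu⟩, P, hP, ⟨e⟩⟩ := (isPerfect_iff _).1 hW ⟨y, hy⟩
  exact ⟨U, i ≫ W.ι, inferInstance, ⟨u', (congrArg W.ι.base hu).trans rfl⟩, P, hP,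
    ⟨e ≪≫ rhoComp i W.ι (i ≫ W.ι) rfl E⟩⟩

end Local

section Affine

/-- The Koszul object generates the torsion objects of an affine scheme. -/
theorem isZero_of_hom_kX {A : CommRingCat.{u}} [PreservesFiniteLimits (tilde.functor A)] (l : List A)
    (C : DCoh.D (Spec A)) (hC : DCoh.IsQCohD C)
    (hV : IsZero ((DCoh.restrictD (outOpen l).ι).obj C))
    (h : ∀ (n : ℤ) (φ : (kX l)⟦n⟧ ⟶ C), φ = 0) : IsZero C := by
  obtain ⟨N, ⟨eN⟩⟩ := exists_tildeD_iso hC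
  haveI := hasRpush_scheme (outOpen l).ι
  have hN : ∀ f ∈ l, IsTorsD f N := (isTorsD_iff_support l N).2 fun i =>
    support_subset_of_isZero_restrictD _ _ (hV.of_iso ((DCoh.restrictD _).mapIso eN)) i
  have hz : ∀ i, IsZero ((DerivedCategory.homologyFunctor (ModuleCat.{u} A) i).obj N) := fun i =>
    isZero_homology_of_hom_kX l hN i fun φ =>
      (cancel_mono eN.hom).1 ((h (-i) _).trans zero_comp.symm)
  refine IsZero.of_iso ?_ eN.symm
  refine (DCoh.tildeD A).map_isZero ((IsZero.iff_id_eq_zero _).2 ?_)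
  haveI : IsIso (0 : N ⟶ N) := (DerivedCategory.isIso_iff _ _).2 fun i =>
    ⟨0, (hz i).eq_of_src _ _, (hz i).eq_of_src _ _⟩
  exact (cancel_epi (0 : N ⟶ N)).1 (by simp)

lemma rperf_kz {A : CommRingCat.{u}} [PreservesFiniteLimits (tilde.functor A)] :
    ∀ l : List A, RPerf (kz l)
  | [] => by
    refine ⟨Koszul.koszul A [], 0, 0, fun i hi => HomologicalComplex.isZero_single_obj_X (ComplexShape.up ℤ) 0
      (ModuleCat.of A A) i (by omega), fun i => ?_, ⟨Iso.refl _⟩⟩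
    by_cases hi : i = 0
    · subst hi
      let e := (HomologicalComplex.singleObjXSelf (ComplexShape.up ℤ) 0 (ModuleCat.of A A)).symm.toLinearEquiv
      exact ⟨Module.Finite.equiv e, Module.Projective.of_equiv e⟩
    · haveI : Subsingleton ((Koszul.koszul A ([] : List A)).X i) := ModuleCat.subsingleton_of_isZero
        (HomologicalComplex.isZero_single_obj_X (ComplexShape.up ℤ) 0 (ModuleCat.of A A) i hi)
      exact ⟨inferInstance, inferInstance⟩
  | f :: l => by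
    obtain ⟨i, δ, hT⟩ := koszul_triangle f l
    exact rperf_obj₃ _ hT (rperf_kz l) (rperf_kz l)

/-- Generators on affine schemes. -/
theorem hasGen_affine (Y : Scheme.{u}) [IsAffine Y] (V : Y.Opens) (hV : IsCompact (V : Set Y)) :
    HasGen Y V := by
  let A : CommRingCat.{u} := Γ(Y, ⊤)
  haveI : PreservesFiniteLimits (tilde.functor A) := QCoh.tilde_preservesFiniteLimits (R := A)
  let eS : Spec A ≅ Y := Y.isoSpec.symm
  let Φ := restrictDEquiv eS
  obtain ⟨l, hl⟩ := exists_eq_outOpen (eS.hom ⁻¹ᵁ V) (eS.hom.homeomorph.isCompact_preimage.2 hV)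
  let K := Φ.inverse.obj (kX l)
  let ε : (DCoh.restrictD eS.hom).obj K ≅ kX l := Φ.counitIso.app _
  have hmem : ∀ x : Spec A, x ∈ outOpen l ↔ eS.hom.base x ∈ V := fun x => by
    rw [← hl]; rfl
  refine ⟨K, isPerfect_restrictD eS.inv ((perfect_tildeD_iff _).2 (rperf_kz l)), ?_, fun E hE hEV h => ?_⟩
  · have hz := isZero_restrict_kX l
    refine (isZero_restrictD_of_factor (V.ι ≫ eS.inv) (outOpen l) (fun y => ?_) _ hz).of_iso
      ((restrictDComp (V.ι ≫ eS.inv) eS.hom V.ι (by simp)).symm.app K ≪≫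
        (DCoh.restrictD (V.ι ≫ eS.inv)).mapIso ε)
    rw [hmem]
    change eS.hom.base (eS.inv.base (V.ι.base y)) ∈ V
    rw [← Scheme.Hom.comp_apply, Iso.inv_hom_id]
    exact y.2
  · haveI : (DCoh.restrictD eS.hom).Full := inferInstanceAs Φ.functor.Full
    haveI : (DCoh.restrictD eS.hom).Faithful := inferInstanceAs Φ.functor.Faithful
    have hz : IsZero ((DCoh.restrictD eS.hom).obj E) := by
      refine isZero_of_hom_kX l _ (isQCohD_restrictD eS.hom hE) ?_ fun n φ => ?_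
      · exact (isZero_restrictD_of_factor ((outOpen l).ι ≫ eS.hom) V (fun x => (hmem _).1 x.2) E hEV).of_iso
          ((restrictDComp (outOpen l).ι eS.hom _ rfl).app E)
      · let c := ((DCoh.restrictD eS.hom).commShiftIso n).app K ≪≫ (shiftFunctor _ n).mapIso ε
        obtain ⟨ψ, hψ⟩ := (DCoh.restrictD eS.hom).map_surjective (c.hom ≫ φ)
        apply (cancel_epi c.hom).1
        rw [comp_zero, ← hψ, h n ψ, Functor.map_zero]
    exact (IsZero.iff_id_eq_zero _).2 ((DCoh.restrictD eS.hom).map_injective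
      (by rw [Functor.map_zero]; exact hz.eq_of_src _ _))

end Affine

section Step

variable (Y : Scheme.{u}) [CompactSpace Y] [QuasiSeparatedSpace Y]

omit [CompactSpace Y] [QuasiSeparatedSpace Y] in
/-- A perfect object on an open plus its shift extends over an affine open, keeping supports. -/
theorem exists_extension_step (U O V : Y.Opens) (hUO : U ⊔ O = ⊤) (hO : IsAffineOpen O)
    (hOU : IsCompact ((O.ι ⁻¹ᵁ U : (O : Scheme.{u}).Opens) : Set (O : Scheme.{u})))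
    (hOV : IsCompact ((O.ι ⁻¹ᵁ V : (O : Scheme.{u}).Opens) : Set (O : Scheme.{u})))
    (P : DCoh.D (U : Scheme.{u})) [HasBinaryBiproduct P (P⟦(1 : ℤ)⟧)]
    (hP : DCoh.IsPerfect P) (hPV : IsZero ((DCoh.restrictD (U.ι ⁻¹ᵁ V).ι).obj P)) :
    ∃ R : DCoh.D Y, DCoh.IsPerfect R ∧ IsZero ((DCoh.restrictD V.ι).obj R) ∧
      Nonempty ((DCoh.restrictD U.ι).obj R ≅ P ⊞ P⟦(1 : ℤ)⟧) := by
  haveI : IsAffine (O : Scheme.{u}) := hO
  haveI := HasBinaryBiproducts.of_hasBinaryProducts (C := DCoh.D (O : Scheme.{u}))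
  let U' : (O : Scheme.{u}).Opens := O.ι ⁻¹ᵁ U
  haveI := HasBinaryBiproducts.of_hasBinaryProducts (C := DCoh.D (U' : Scheme.{u}))
  let σ : ((U ⊓ O : Y.Opens) : Scheme.{u}) ≅ (U' : Scheme.{u}) :=
    IsOpenImmersion.isoOfRangeEq (U ⊓ O).ι (U'.ι ≫ O.ι) (by
      ext x
      simp only [Scheme.Opens.range_ι, Scheme.Hom.comp_base, TopCat.coe_comp, Set.range_comp]
      constructor
      · intro hx; exact ⟨⟨x, hx.2⟩, hx.1, rfl⟩
      · rintro ⟨y, hy, rfl⟩; exact ⟨hy, y.2⟩)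
  have hσ : σ.hom ≫ U'.ι ≫ O.ι = (U ⊓ O).ι := IsOpenImmersion.isoOfRangeEq_hom_fac _ _ _
  let k : (U' : Scheme.{u}) ⟶ (U : Scheme.{u}) := σ.inv ≫ Y.homOfLE (inf_le_left : U ⊓ O ≤ U)
  have hk : k ≫ U.ι = U'.ι ≫ O.ι := by
    simp only [k, Category.assoc, Scheme.homOfLE_ι]
    rw [← hσ, Iso.inv_hom_id_assoc]
  let F := (DCoh.restrictD k).obj P
  have hFV : IsZero ((DCoh.restrictD (U'.ι ⁻¹ᵁ (O.ι ⁻¹ᵁ V)).ι).obj F) :=
    (isZero_restrictD_of_factor ((U'.ι ⁻¹ᵁ (O.ι ⁻¹ᵁ V)).ι ≫ k) (U.ι ⁻¹ᵁ V) (fun z => by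
      change U.ι.base (k.base ((U'.ι ⁻¹ᵁ (O.ι ⁻¹ᵁ V)).ι.base z)) ∈ V
      rw [← Scheme.Hom.comp_apply, hk]
      exact z.2) P hPV).of_iso ((restrictDComp _ k _ rfl).app P)
  obtain ⟨G, hG, hGV, ⟨eG⟩⟩ := exists_extension_affine (O : Scheme.{u}) U'
    hOU (O.ι ⁻¹ᵁ V) hOV F (isPerfect_restrictD k hP) hFV
  let PP : DCoh.D (U : Scheme.{u}) := P ⊞ P⟦(1 : ℤ)⟧
  haveI : PreservesBinaryBiproduct P (P⟦(1 : ℤ)⟧) (DCoh.restrictD k) :=
    preservesBinaryBiproduct_of_preservesBiproduct _ _ _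
  have hσO : σ.hom ≫ U'.ι = Y.homOfLE (inf_le_right : U ⊓ O ≤ O) :=
    (cancel_mono O.ι).1 (by rw [Category.assoc, hσ, Scheme.homOfLE_ι])
  let cG : (DCoh.restrictD U'.ι).obj G ≅ (DCoh.restrictD k).obj PP :=
    eG ≪≫ biprod.mapIso (Iso.refl _) (((DCoh.restrictD k).commShiftIso (1 : ℤ)).app P).symm ≪≫
      ((DCoh.restrictD k).mapBiprod P (P⟦(1 : ℤ)⟧)).symm
  let c : (DCoh.restrictD (Y.homOfLE (inf_le_left : U ⊓ O ≤ U))).obj PP ≅
      (DCoh.restrictD (Y.homOfLE (inf_le_right : U ⊓ O ≤ O))).obj G :=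
    ((restrictDComp σ.hom k _ (by simp [k])).app PP).symm ≪≫
      (DCoh.restrictD σ.hom).mapIso cG.symm ≪≫ (restrictDComp σ.hom U'.ι _ hσO).app G
  obtain ⟨R₁, ⟨e₁⟩, ⟨e₁'⟩⟩ := exists_glue U O hUO PP G c
  have hcover : ∀ y : Y, y ∈ U ∨ y ∈ O := fun y => Opens.mem_sup.1 (hUO ▸ (trivial : y ∈ (⊤ : Y.Opens)))
  have hPP : DCoh.IsPerfect PP := (isPerfect_iff _).2 ((locSP_two_of_three _
    (binaryBiproductTriangle_distinguished P (P⟦(1 : ℤ)⟧))).2.1 ((isPerfect_iff P).1 hP)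
      (((isPerfect_iff P).1 hP).shift 1))
  have hR₁ : DCoh.IsPerfect R₁ := isPerfect_of_cover R₁ fun y => (hcover y).elim
    (fun hy => ⟨U, hy, isPerfect_of_iso' e₁.symm hPP⟩) (fun hy => ⟨O, hy, isPerfect_of_iso' e₁'.symm hG⟩)
  have hR₁V : IsZero ((DCoh.restrictD V.ι).obj R₁) := by
    have hPPV : IsZero ((DCoh.restrictD (U.ι ⁻¹ᵁ V).ι).obj PP) := by
      refine Triangle.isZero₂_of_isZero₁₃ _ ((DCoh.restrictD (U.ι ⁻¹ᵁ V).ι).map_distinguished _
        (binaryBiproductTriangle_distinguished P (P⟦(1 : ℤ)⟧))) hPV ?_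
      exact (Functor.map_isZero (shiftFunctor _ (1 : ℤ)) hPV).of_iso
        (((DCoh.restrictD (U.ι ⁻¹ᵁ V).ι).commShiftIso (1 : ℤ)).app P)
    refine isZero_of_isZero_restrictD _ fun v => ?_
    rcases hcover (V.ι.base v) with hy | hy
    · exact ⟨V.ι ⁻¹ᵁ U, hy, (isZero_restrictD_of_factor₂ ((V.ι ⁻¹ᵁ U).ι ≫ V.ι) U V (fun z => z.2)
        (fun z => ((V.ι ⁻¹ᵁ U).ι.base z).2) R₁
        (hPPV.of_iso ((DCoh.restrictD _).mapIso e₁))).of_iso ((restrictDComp _ V.ι _ rfl).app R₁)⟩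
    · exact ⟨V.ι ⁻¹ᵁ O, hy, (isZero_restrictD_of_factor₂ ((V.ι ⁻¹ᵁ O).ι ≫ V.ι) O V (fun z => z.2)
        (fun z => ((V.ι ⁻¹ᵁ O).ι.base z).2) R₁
        (hGV.of_iso ((DCoh.restrictD _).mapIso e₁'))).of_iso ((restrictDComp _ V.ι _ rfl).app R₁)⟩
  exact ⟨R₁, hR₁, hR₁V, ⟨e₁⟩⟩

/-- Adding an affine open preserves generation. -/
theorem hasGen_step (U O V : Y.Opens) (hUO : U ⊔ O = ⊤) (hU : IsCompact (U : Set Y))
    (hO : IsAffineOpen O) (hV : IsCompact (V : Set Y)) (h : HasGen (U : Scheme.{u}) (U.ι ⁻¹ᵁ V)) :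
    HasGen Y V := by
  obtain ⟨P, hP, hPV, hgen⟩ := h
  haveI : IsAffine (O : Scheme.{u}) := hO
  haveI : CompactSpace (U : Scheme.{u}) := isCompact_iff_compactSpace.1 hU
  haveI : QuasiSeparatedSpace (U : Scheme.{u}) := .of_isOpenEmbedding U.ι.isOpenEmbedding
  haveI : QuasiSeparatedSpace (O : Scheme.{u}) := .of_isOpenEmbedding O.ι.isOpenEmbedding
  haveI : QuasiCompact U.ι := quasiCompact_of_compactSpace _
  haveI : QuasiCompact O.ι := quasiCompact_of_compactSpace _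
  haveI : HasInjectiveResolutions (U : Scheme.{u}).Modules := hasInjectiveResolutions_modules
  haveI := hasRpush_scheme U.ι
  haveI := hasRpush_scheme O.ι
  haveI := HasBinaryBiproducts.of_hasBinaryProducts (C := DCoh.D Y)
  haveI := HasBinaryBiproducts.of_hasBinaryProducts (C := DCoh.D (U : Scheme.{u}))
  haveI := HasBinaryBiproducts.of_hasBinaryProducts (C := DCoh.D (O : Scheme.{u}))
  obtain ⟨R₁, hR₁, hR₁V, ⟨e₁⟩⟩ := exists_extension_step Y U O V hUO hO (O.ι.isCompact_preimage hU)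
    (O.ι.isCompact_preimage hV) P hP hPV
  let PP : DCoh.D (U : Scheme.{u}) := P ⊞ P⟦(1 : ℤ)⟧
  have hcover : ∀ y : Y, y ∈ U ∨ y ∈ O := fun y => Opens.mem_sup.1 (hUO ▸ (trivial : y ∈ (⊤ : Y.Opens)))
  -- the part supported outside of `U`
  have hUV : IsCompact ((U ⊔ V : Y.Opens) : Set Y) := by rw [Opens.coe_sup]; exact hU.union hV
  obtain ⟨K, hK, hKz, hKgen⟩ := hasGen_affine (O : Scheme.{u}) (O.ι ⁻¹ᵁ (U ⊔ V))
    (O.ι.isCompact_preimage hUV)
  let T : Set (O : Scheme.{u}) := ((O.ι ⁻¹ᵁ (U ⊔ V) : (O : Scheme.{u}).Opens) : Set (O : Scheme.{u}))ᶜ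
  have himg : (fun x : (O : Scheme.{u}) => O.ι.base x) '' T = ((U ⊔ V : Y.Opens) : Set Y)ᶜ := by
    ext y
    constructor
    · rintro ⟨x, hx, rfl⟩; exact hx
    · intro hy
      have hyO : y ∈ O := (hcover y).resolve_left fun h => hy (Opens.mem_sup.2 (Or.inl h))
      exact ⟨⟨y, hyO⟩, hy, rfl⟩
  let R₂ := (DCoh.Rpush O.ι).obj K
  have hR₂ : DCoh.IsPerfect R₂ := isPerfect_rpush_of_support O K hK T
    (by rw [himg]; exact (U ⊔ V).isOpen.isClosed_compl) (support_subset_of_isZero_restrictD _ K hKz)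
  have hR₂z : ∀ W : Y.Opens, W ≤ U ⊔ V → IsZero ((DCoh.restrictD W.ι).obj R₂) := fun W hW => by
    haveI := hasRpush_scheme (O.ι ∣_ W)
    haveI : (DCoh.Rpush (O.ι ∣_ W)).Additive :=
      (exists_rightDerived_triangle (Scheme.Modules.pushforward (O.ι ∣_ W)) _
        (contractible_distinguished ((DCoh.restrictD (O.ι ⁻¹ᵁ W).ι).obj K))).1
    exact (Functor.map_isZero (DCoh.Rpush (O.ι ∣_ W)) (isZero_restrictD_of_factor (O.ι ⁻¹ᵁ W).ι
      (O.ι ⁻¹ᵁ (U ⊔ V)) (fun z => hW z.2) K hKz)).of_iso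
        ((nonempty_rpush_restrictD_iso O.ι W).some.app K)
  -- generation
  haveI : PreservesBinaryBiproduct R₁ R₂ (DCoh.restrictD V.ι) :=
    preservesBinaryBiproduct_of_preservesBiproduct _ _ _
  haveI := HasBinaryBiproducts.of_hasBinaryProducts (C := DCoh.D (V : Scheme.{u}))
  refine ⟨R₁ ⊞ R₂, (isPerfect_iff _).2 ((locSP_two_of_three _
    (binaryBiproductTriangle_distinguished R₁ R₂)).2.1 ((isPerfect_iff _).1 hR₁) ((isPerfect_iff _).1 hR₂)),
    ((biprod_isZero_iff _ _).2 ⟨hR₁V, hR₂z V le_sup_right⟩).of_iso ((DCoh.restrictD V.ι).mapBiprod R₁ R₂),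
    fun E hE hEV h => ?_⟩
  have hE₁ : ∀ (n : ℤ) (φ : R₁⟦n⟧ ⟶ E), φ = 0 := fun n φ => by
    have := congrArg ((biprod.inl : R₁ ⟶ R₁ ⊞ R₂)⟦n⟧' ≫ ·) (h n ((biprod.fst : R₁ ⊞ R₂ ⟶ R₁)⟦n⟧' ≫ φ))
    simpa [← Functor.map_comp_assoc] using this
  have hE₂ : ∀ (n : ℤ) (φ : R₂⟦n⟧ ⟶ E), φ = 0 := fun n φ => by
    have := congrArg ((biprod.inr : R₂ ⟶ R₁ ⊞ R₂)⟦n⟧' ≫ ·) (h n ((biprod.snd : R₁ ⊞ R₂ ⟶ R₂)⟦n⟧' ≫ φ))
    simpa [← Functor.map_comp_assoc] using this
  let adj := restrictRpushAdj U.ι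
  obtain ⟨C, ι₀, δ₀, hT⟩ := distinguished_cocone_triangle₁ (adj.unit.app E)
  have hu : IsIso ((DCoh.restrictD U.ι).map (adj.unit.app E)) := by
    obtain ⟨cc⟩ := nonempty_rpush_restrictD_self U.ι
    haveI : (DCoh.Rpush U.ι).Full := (adj.fullyFaithfulROfCompIsoId cc).full
    haveI : (DCoh.Rpush U.ι).Faithful := (adj.fullyFaithfulROfCompIsoId cc).faithful
    infer_instance
  have hCq : DCoh.IsQCohD C := isQCohD_obj₁ hT hE (isQCohD_rpush _ (isQCohD_restrictD _ hE))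
  have hCU : IsZero ((DCoh.restrictD U.ι).obj C) :=
    (Triangle.isZero₁_iff_isIso₂ _ ((DCoh.restrictD U.ι).map_distinguished _ hT)).2 hu
  have hCV : IsZero ((DCoh.restrictD V.ι).obj C) := by
    haveI := hasRpush_scheme (U.ι ∣_ V)
    haveI : (DCoh.Rpush (U.ι ∣_ V)).Additive :=
      (exists_rightDerived_triangle (Scheme.Modules.pushforward (U.ι ∣_ V)) _
        (contractible_distinguished ((DCoh.restrictD (U.ι ⁻¹ᵁ V).ι).obj ((DCoh.restrictD U.ι).obj E)))).1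
    refine Triangle.isZero₁_of_isZero₂₃ _ ((DCoh.restrictD V.ι).map_distinguished _ hT) hEV ?_
    exact (Functor.map_isZero (DCoh.Rpush (U.ι ∣_ V))
      ((isZero_restrictD_of_factor ((U.ι ⁻¹ᵁ V).ι ≫ U.ι) V (fun z => z.2) E hEV).of_iso
        ((restrictDComp _ U.ι _ rfl).app E))).of_iso
      ((nonempty_rpush_restrictD_iso U.ι V).some.app ((DCoh.restrictD U.ι).obj E))
  have hsupp : ∀ (L : DCoh.D Y), IsZero ((DCoh.restrictD U.ι).obj L) → IsZero ((DCoh.restrictD V.ι).obj L) →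
      Nonempty (L ≅ (DCoh.Rpush O.ι).obj ((DCoh.restrictD O.ι).obj L)) := fun L h₁ h₂ =>
    nonempty_iso_rpush_restrict O ((U ⊔ V : Y.Opens) : Set Y)ᶜ (U ⊔ V).isOpen.isClosed_compl
      (fun y hy => (hcover y).resolve_left fun h => hy (Opens.mem_sup.2 (Or.inl h))) L fun i y hy hy' =>
        (Opens.mem_sup.1 hy').elim (support_subset_of_isZero_restrictD U L h₁ i hy)
          (support_subset_of_isZero_restrictD V L h₂ i hy)
  obtain ⟨θ⟩ := hsupp C hCU hCV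
  have hCh : ∀ (n : ℤ) (φ : R₂⟦n⟧ ⟶ C), φ = 0 := fun n φ => by
    have hz : ∀ m : ℤ, IsZero ((DCoh.restrictD U.ι).obj (R₂⟦m⟧)) := fun m =>
      (Functor.map_isZero (shiftFunctor _ m) (hR₂z U le_sup_left)).of_iso
        (((DCoh.restrictD U.ι).commShiftIso m).app R₂)
    obtain ⟨χ, hχ⟩ := Triangle.coyoneda_exact₂ _ (inv_rot_of_distTriang _ hT) φ
      (hE₂ n (φ ≫ ι₀))
    have hχ0 : χ = 0 := by
      apply (shiftFunctor _ (1 : ℤ)).map_injective
      rw [Functor.map_zero]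
      refine (cancel_mono (shiftNegShift _ (1 : ℤ)).hom).1 (Eq.trans ?_ zero_comp.symm)
      refine (cancel_epi ((shiftFunctorAdd' _ n 1 (n + 1) rfl).app R₂).hom).1 ?_
      rw [comp_zero]
      exact (adj.homEquiv _ _).symm.injective ((hz (n + 1)).eq_of_src _ _)
    exact hχ.trans (by rw [hχ0]; exact zero_comp)
  have hCO : IsZero ((DCoh.restrictD O.ι).obj C) := by
    refine hKgen _ (isQCohD_restrictD _ hCq) ((isZero_of_isZero_restrictD _ fun w => ?_)) fun n φ => ?_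
    · rcases Opens.mem_sup.1 (show O.ι.base ((O.ι ⁻¹ᵁ (U ⊔ V)).ι.base w) ∈ U ⊔ V from w.2) with hw | hw
      · refine ⟨(O.ι ⁻¹ᵁ (U ⊔ V)).ι ⁻¹ᵁ (O.ι ⁻¹ᵁ U), hw, ?_⟩
        exact (isZero_restrictD_of_factor (((O.ι ⁻¹ᵁ (U ⊔ V)).ι ⁻¹ᵁ (O.ι ⁻¹ᵁ U)).ι ≫
          (O.ι ⁻¹ᵁ (U ⊔ V)).ι ≫ O.ι) U (fun z => z.2) C hCU).of_iso
          ((DCoh.restrictD _).mapIso ((restrictDComp (O.ι ⁻¹ᵁ (U ⊔ V)).ι O.ι _ rfl).app C) ≪≫
            (restrictDComp _ ((O.ι ⁻¹ᵁ (U ⊔ V)).ι ≫ O.ι) _ rfl).app C)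
      · refine ⟨(O.ι ⁻¹ᵁ (U ⊔ V)).ι ⁻¹ᵁ (O.ι ⁻¹ᵁ V), hw, ?_⟩
        exact (isZero_restrictD_of_factor (((O.ι ⁻¹ᵁ (U ⊔ V)).ι ⁻¹ᵁ (O.ι ⁻¹ᵁ V)).ι ≫
          (O.ι ⁻¹ᵁ (U ⊔ V)).ι ≫ O.ι) V (fun z => z.2) C hCV).of_iso
          ((DCoh.restrictD _).mapIso ((restrictDComp (O.ι ⁻¹ᵁ (U ⊔ V)).ι O.ι _ rfl).app C) ≪≫
            (restrictDComp _ ((O.ι ⁻¹ᵁ (U ⊔ V)).ι ≫ O.ι) _ rfl).app C)
    · obtain ⟨η⟩ := hsupp (R₂⟦n⟧)
        ((Functor.map_isZero (shiftFunctor _ n) (hR₂z U le_sup_left)).of_iso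
          (((DCoh.restrictD U.ι).commShiftIso n).app R₂))
        ((Functor.map_isZero (shiftFunctor _ n) (hR₂z V le_sup_right)).of_iso
          (((DCoh.restrictD V.ι).commShiftIso n).app R₂))
      let adjO := restrictRpushAdj O.ι
      obtain ⟨cO⟩ := nonempty_rpush_restrictD_self O.ι
      haveI : (DCoh.Rpush O.ι).Faithful := (adjO.fullyFaithfulROfCompIsoId cO).faithful
      haveI : (DCoh.Rpush O.ι).Additive :=
        (exists_rightDerived_triangle (Scheme.Modules.pushforward O.ι) _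
          (contractible_distinguished K)).1
      let a := ((DCoh.restrictD O.ι).commShiftIso n).app R₂ ≪≫ (shiftFunctor _ n).mapIso (cO.app K)
      have h0 := hCh n (η.hom ≫ (DCoh.Rpush O.ι).map (a.hom ≫ φ) ≫ θ.inv)
      have h1 : (DCoh.Rpush O.ι).map (a.hom ≫ φ) = 0 :=
        (cancel_mono θ.inv).1 ((cancel_epi η.hom).1 (by rw [h0, zero_comp, comp_zero]))
      have h2 : a.hom ≫ φ = 0 := (DCoh.Rpush O.ι).map_injective (h1.trans (Functor.map_zero _ _ _).symm)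
      exact (cancel_epi a.hom).1 (h2.trans comp_zero.symm)
  have hC : IsZero C := isZero_of_isZero_restrictD C fun y => (hcover y).elim
    (fun hy => ⟨U, hy, hCU⟩) (fun hy => ⟨O, hy, hCO⟩)
  haveI : IsIso (adj.unit.app E) := (Triangle.isZero₁_iff_isIso₂ _ hT).1 hC
  have hEU : IsZero ((DCoh.restrictD U.ι).obj E) := by
    refine hgen _ (isQCohD_restrictD _ hE)
      ((isZero_restrictD_of_factor ((U.ι ⁻¹ᵁ V).ι ≫ U.ι) V (fun z => z.2) E hEV).of_iso
        ((restrictDComp _ U.ι _ rfl).app E)) fun n φ => ?_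
    let a : (DCoh.restrictD U.ι).obj (R₁⟦n⟧) ≅ PP⟦n⟧ :=
      ((DCoh.restrictD U.ι).commShiftIso n).app R₁ ≪≫ (shiftFunctor _ n).mapIso e₁
    have h0 := hE₁ n (adj.homEquiv _ _ (a.hom ≫ (biprod.fst : PP ⟶ P)⟦n⟧' ≫ φ) ≫ inv (adj.unit.app E))
    have h1 : adj.homEquiv _ _ (a.hom ≫ (biprod.fst : PP ⟶ P)⟦n⟧' ≫ φ) = 0 :=
      (cancel_mono (inv (adj.unit.app E))).1 (by rw [h0, zero_comp])
    have h2 : a.hom ≫ (biprod.fst : PP ⟶ P)⟦n⟧' ≫ φ = 0 :=
      (adj.homEquiv _ _).injective (h1.trans (by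
        rw [Adjunction.homEquiv_unit]
        haveI : (DCoh.Rpush U.ι).Additive :=
          (exists_rightDerived_triangle (Scheme.Modules.pushforward U.ι) _
            (contractible_distinguished P)).1
        rw [Functor.map_zero, comp_zero]))
    have h3 := congrArg ((biprod.inl : P ⟶ PP)⟦n⟧' ≫ a.inv ≫ ·) h2
    simpa [← Functor.map_comp_assoc] using h3
  haveI : (DCoh.Rpush U.ι).Additive :=
    (exists_rightDerived_triangle (Scheme.Modules.pushforward U.ι) _ (contractible_distinguished P)).1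
  exact (Functor.map_isZero (DCoh.Rpush U.ι) hEU).of_iso (asIso (adj.unit.app E))

end Step

/-- A quasi-compact quasi-separated scheme has perfect generators with supports. -/
theorem hasGen (X : Scheme.{u}) [CompactSpace X] [QuasiSeparatedSpace X] (V : X.Opens)
    (hV : IsCompact (V : Set X)) : HasGen X V := by
  let P : X.Opens → Prop := fun O => IsCompact (O : Set X) → ∀ (W : Scheme.{u}) (j : W ⟶ X)
    [IsOpenImmersion j], Set.range j.base = (O : Set X) → HasGen W (j ⁻¹ᵁ V)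
  have hP : P ⊤ := by
    refine S0015.result X P ?_ ?_ ⊤ (by simpa using isCompact_univ)
    · intro O hO hOc W j _ hW
      haveI := hO
      let e : Spec Γ(X, O) ≅ W := IsOpenImmersion.isoOfRangeEq hO.fromSpec j
        (by rw [hO.range_fromSpec, hW])
      haveI : IsAffine W := IsAffine.of_isIso e.inv
      haveI : QuasiCompact j := quasiCompact_of_compactSpace j
      exact hasGen_affine W _ (j.isCompact_preimage hV)
    · intro O₁ O₂ hO₁ hO₂ h₁ _ _ hc W j _ hW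
      haveI : CompactSpace W := by
        refine ⟨j.isOpenEmbedding.isInducing.isCompact_iff.2 ?_⟩
        rw [Set.image_univ, hW]
        exact hc
      haveI : QuasiSeparatedSpace W := .of_isOpenEmbedding j.isOpenEmbedding
      haveI : QuasiCompact j := quasiCompact_of_compactSpace j
      have hmem : ∀ y : W, j.base y ∈ (O₁ : Set X) ∪ O₂ := fun y => by
        rw [← Opens.coe_sup, ← hW]; exact ⟨y, rfl⟩
      have hcov : (j ⁻¹ᵁ O₁) ⊔ (j ⁻¹ᵁ O₂) = ⊤ := top_le_iff.1 fun y _ => hmem y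
      have hrange : Set.range ((j ⁻¹ᵁ O₁).ι ≫ j).base = (O₁ : Set X) := by
        ext x
        constructor
        · rintro ⟨y, rfl⟩; exact y.2
        · intro hx
          obtain ⟨y, rfl⟩ : x ∈ Set.range j.base := by rw [hW]; exact Or.inl hx
          exact ⟨⟨y, hx⟩, rfl⟩
      have hO₂' : IsAffineOpen (j ⁻¹ᵁ O₂) := by
        refine (Scheme.Hom.isAffineOpen_iff_of_isOpenImmersion j).1 ?_
        rwa [show j ''ᵁ (j ⁻¹ᵁ O₂) = O₂ from Opens.ext (Set.image_preimage_eq_of_subset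
          (by rw [hW]; exact Set.subset_union_right))]
      exact hasGen_step W _ _ _ hcov (j.isCompact_preimage hO₁) hO₂' (j.isCompact_preimage hV)
        (h₁ hO₁ _ ((j ⁻¹ᵁ O₁).ι ≫ j) hrange)
  exact hP isCompact_univ X (𝟙 X) (by simp)

end Groth.Agent.PerfD40
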