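import Groth.Agent.PerfD40.Compact
import Groth.Agent.KFlatLib.Scheme.RpushCoprodQCoh
import Groth.Agent.QCoh.Localize
import Mathlib.Algebra.Homology.DerivedCategory.Linear
import Groth.Prelude.Def_KLin

/-!
# Maps from perfect objects into objects supported on a zero locus are killed by a power

The telescope of multiplication by the function is contractible, and perfect objects are compact.
-/

set_option linter.style.haveILetI false

universe u

open CategoryTheory CategoryTheory.Limits AlgebraicGeometry Pretriangulated TopologicalSpace Opposite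

attribute [local instance] HasDerivedCategory.standard

namespace Groth.Agent.PerfD40

open Groth.Agent.KFlatLib

section Sigma

variable {C : Type*} [Category C] [Preadditive C] {J : Type*} [DecidableEq J] (N : J → C) [HasCoproduct N]

/-- The projection from a sum to a summand. -/
noncomputable def sigmaProj (j : J) : ∐ N ⟶ N j :=
  Sigma.desc fun i => if h : i = j then eqToHom (congrArg N h) else 0

@[reassoc]
lemma ι_sigmaProj_self (j : J) : Sigma.ι N j ≫ sigmaProj N j = 𝟙 _ := by simp [sigmaProj]

@[reassoc]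
lemma ι_sigmaProj_ne {i j : J} (h : i ≠ j) : Sigma.ι N i ≫ sigmaProj N j = 0 := by simp [sigmaProj, h]

lemma partProj_eq_sum (F : Finset J) : partProj N F = ∑ j ∈ F, sigmaProj N j ≫ Sigma.ι N j := by
  refine Sigma.hom_ext _ _ fun i => ?_
  rw [Preadditive.comp_sum]
  by_cases hi : i ∈ F
  · rw [ι_partProj_mem N hi, Finset.sum_eq_single i (fun b _ hb => by
      rw [← Category.assoc, ι_sigmaProj_ne N (Ne.symm hb), zero_comp]) (fun h => absurd hi h),
      ι_sigmaProj_self_assoc]
  · rw [ι_partProj_not_mem N hi]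
    exact (Finset.sum_eq_zero fun b hb => by
      rw [← Category.assoc, ι_sigmaProj_ne N (fun h : i = b => hi (h ▸ hb)), zero_comp]).symm

/-- A map with finite support whose components vanish is zero. -/
lemma eq_zero_of_comp_sigmaProj {K : C} {g : K ⟶ ∐ N} (F : Finset J) (hF : g ≫ partProj N F = g)
    (h : ∀ j, g ≫ sigmaProj N j = 0) : g = 0 := by
  rw [← hF, partProj_eq_sum, Preadditive.comp_sum]
  exact Finset.sum_eq_zero fun j _ => by rw [reassoc_of% h j, zero_comp]

end Sigma

section Telescope

variable (A : Type u) [CommRing A] {C : Type*} [Category C] [Preadditive C] [Linear A C] (a : A) (M : C)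
  [HasCoproduct fun _ : ULift.{u} ℕ => M]

/-- The telescope map of multiplication by `a`. -/
noncomputable def telescope : (∐ fun _ : ULift.{u} ℕ => M) ⟶ ∐ fun _ : ULift.{u} ℕ => M :=
  Sigma.desc fun n => Sigma.ι (fun _ : ULift.{u} ℕ => M) n -
    a • Sigma.ι (fun _ : ULift.{u} ℕ => M) ⟨n.down + 1⟩

lemma telescope_proj_zero :
    telescope A a M ≫ sigmaProj (fun _ : ULift.{u} ℕ => M) ⟨0⟩ = sigmaProj _ ⟨0⟩ := by
  refine Sigma.hom_ext _ _ fun n => ?_
  rw [telescope, Sigma.ι_desc_assoc, Preadditive.sub_comp, Linear.smul_comp,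
    ι_sigmaProj_ne (fun _ : ULift.{u} ℕ => M) (i := ⟨n.down + 1⟩) (j := ⟨0⟩) (by simp [ULift.ext_iff]),
    smul_zero, sub_zero]

lemma telescope_proj_succ (m : ℕ) :
    telescope A a M ≫ sigmaProj (fun _ : ULift.{u} ℕ => M) ⟨m + 1⟩ =
      sigmaProj _ ⟨m + 1⟩ - a • sigmaProj _ ⟨m⟩ := by
  refine Sigma.hom_ext _ _ fun n => ?_
  rw [telescope, Sigma.ι_desc_assoc, Preadditive.sub_comp, Linear.smul_comp, Preadditive.comp_sub,
    Linear.comp_smul]
  rcases eq_or_ne n ⟨m⟩ with rfl | hn
  · rw [ι_sigmaProj_self, ι_sigmaProj_self]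
  · rw [ι_sigmaProj_ne (fun _ : ULift.{u} ℕ => M) (i := n) (j := ⟨m⟩) hn,
      ι_sigmaProj_ne (fun _ : ULift.{u} ℕ => M) (i := ⟨n.down + 1⟩) (j := ⟨m + 1⟩)
        (by simpa [ULift.ext_iff] using hn)]

/-- If maps into the sum have finite support and the telescope is invertible, powers kill all maps. -/
theorem exists_pow_smul_of_telescope [IsIso (telescope A a M)] {K : C}
    (hK : FixAt (fun _ : ULift.{u} ℕ => M) K) (α : K ⟶ M) : ∃ n : ℕ, a ^ n • α = 0 := by
  classical
  let N : ULift.{u} ℕ → C := fun _ => M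
  let β := (α ≫ Sigma.ι N ⟨0⟩) ≫ inv (telescope A a M)
  have hβ : ∀ j, (β ≫ telescope A a M) ≫ sigmaProj N j = α ≫ Sigma.ι N ⟨0⟩ ≫ sigmaProj N j := fun j => by
    simp [β, N]
  have hn : ∀ n : ℕ, β ≫ sigmaProj N ⟨n⟩ = a ^ n • α := by
    intro n
    induction n with
    | zero =>
      have := hβ ⟨0⟩
      rw [Category.assoc, telescope_proj_zero, ι_sigmaProj_self, Category.comp_id] at this
      simpa using this
    | succ n ih =>
      have := hβ ⟨n + 1⟩
      rw [Category.assoc, telescope_proj_succ, Preadditive.comp_sub, Linear.comp_smul, ih,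
        ι_sigmaProj_ne N (by simp [ULift.ext_iff]), comp_zero, sub_eq_zero] at this
      rw [this, smul_smul, pow_succ']
  obtain ⟨F, hF⟩ := hK β
  obtain ⟨n, hnF⟩ : ∃ n : ℕ, (⟨n⟩ : ULift.{u} ℕ) ∉ F := by
    refine ⟨(F.image ULift.down).sup id + 1, fun h => ?_⟩
    have := Finset.le_sup (f := id) (Finset.mem_image_of_mem ULift.down h)
    simp only [id] at this
    omega
  refine ⟨n, ?_⟩
  rw [← hn, ← hF, Category.assoc, partProj_eq_sum, Preadditive.sum_comp, Finset.sum_eq_zero, comp_zero]
  intro j hj
  rw [Category.assoc, ι_sigmaProj_ne _ (fun h => hnF (by rwa [h] at hj)), comp_zero]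

end Telescope

section Sheaf

variable {X : Scheme.{u}}

/-- A map into a sum of modules whose components vanish is zero. -/
lemma eq_zero_of_comp_sigmaProj_modules {J : Type u} [DecidableEq J] (N : J → X.Modules) {K : X.Modules}
    (g : K ⟶ ∐ N) (h : ∀ j, g ≫ sigmaProj N j = 0) : g = 0 := by
  classical
  refine (IsZero.iff_id_eq_zero (image g)).1 (isZero_of_stalk _ fun x => ?_) |> fun h0 => by
    rw [← image.fac g, ← Category.id_comp (image.ι g), h0, zero_comp, comp_zero]
  let S := DerSch.stalkFunctor X x
  suffices hg : S.map g = 0 by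
    have h1 : S.map (factorThruImage g) ≫ S.map (image.ι g) = 0 := by
      rw [← Functor.map_comp, image.fac, hg]
    haveI : Epi (S.map (factorThruImage g)) := inferInstance
    haveI : Mono (S.map (image.ι g)) := inferInstance
    have h2 : S.map (image.ι g) = 0 := (cancel_epi (S.map (factorThruImage g))).1 (h1.trans comp_zero.symm)
    exact (IsZero.iff_id_eq_zero _).2 ((cancel_mono (S.map (image.ι g))).1 (by rw [h2, comp_zero, comp_zero]))
  have hc := isColimitOfPreserves S (coproductIsCoproduct N)
  let Z : Submodule (X.presheaf.stalk x) (S.obj (∐ N)) :=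
    { carrier := {z | ∃ F : Finset J, (S.map (partProj N F)).hom z = z}
      add_mem' := by
        rintro z w ⟨F, hF⟩ ⟨G, hG⟩
        have hz : (S.map (partProj N (F ∪ G))).hom z = z := by
          conv_lhs => rw [← hF]
          refine (ConcreteCategory.congr_hom (S.map_comp (partProj N F) (partProj N (F ∪ G))) z).symm.trans ?_
          rw [partProj_comp N Finset.subset_union_left]
          exact hF
        have hw : (S.map (partProj N (F ∪ G))).hom w = w := by
          conv_lhs => rw [← hG]
          refine (ConcreteCategory.congr_hom (S.map_comp (partProj N G) (partProj N (F ∪ G))) w).symm.trans ?_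
          rw [partProj_comp N Finset.subset_union_right]
          exact hG
        exact ⟨F ∪ G, by rw [map_add, hz, hw]⟩
      zero_mem' := ⟨∅, map_zero _⟩
      smul_mem' := by
        rintro c z ⟨F, hF⟩
        exact ⟨F, by rw [map_smul, hF]⟩ }
  have hι : ∀ j y, (S.map (Sigma.ι N j)).hom y ∈ Z := fun j y =>
    ⟨{j}, (ConcreteCategory.congr_hom (S.map_comp _ _) y).symm.trans (by
      rw [ι_partProj_mem N (Finset.mem_singleton_self j)])⟩
  have hZ : ModuleCat.ofHom Z.mkQ = 0 := hc.hom_ext fun ⟨j⟩ =>
    (ModuleCat.hom_ext (LinearMap.ext fun y => (Submodule.Quotient.mk_eq_zero Z).2 (hι j y))).trans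
      comp_zero.symm
  refine ModuleCat.hom_ext (LinearMap.ext fun y => ?_)
  obtain ⟨F, hF⟩ : (S.map g).hom y ∈ Z :=
    (Submodule.Quotient.mk_eq_zero Z).1 (ConcreteCategory.congr_hom hZ _)
  rw [← hF]
  refine (ConcreteCategory.congr_hom (S.map_comp g (partProj N F)) y).symm.trans ?_
  rw [partProj_eq_sum, Preadditive.comp_sum, Finset.sum_eq_zero fun j _ => by
    rw [reassoc_of% h j, zero_comp], Functor.map_zero]

variable (A : Type u) [CommRing A] [X.Over (Spec (CommRingCat.of A))] (a : A)

/-- Sections of a module supported on the zero locus of a function are killed by its powers. -/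
lemma exists_pow_smul_section {M : X.Modules} (hM : Coh.IsQCoh M)
    (hs : CohB1.support M ⊆ (X.zeroLocus (U := ⊤) {Coh.toGlobal (X ↘ Spec (CommRingCat.of A)) a} : Set X))
    {W : X.Opens} (hW : IsAffineOpen W) (m : Γ(M, W)) :
    ∃ k : ℕ, (X.presheaf.map (homOfLE (le_top : W ≤ ⊤)).op
      (Coh.toGlobal (X ↘ Spec (CommRingCat.of A)) a)) ^ k • m = 0 := by
  refine QCoh.exists_pow_smul_eq_zero hM hW _ m ?_
  refine TopCat.Presheaf.section_ext ((SheafOfModules.toSheaf.{u} X.ringCatSheaf).obj M) _ _ _ fun x hx => ?_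
  have hx' : x ∈ X.basicOpen (Coh.toGlobal (X ↘ Spec (CommRingCat.of A)) a) := by
    erw [Scheme.basicOpen_res] at hx
    exact hx.2
  haveI : Subsingleton (M.presheaf.stalk x) := not_not.1 fun hn => by
    have := hs hn
    rw [Scheme.mem_zeroLocus_iff] at this
    exact this _ (Set.mem_singleton _) hx'
  exact @Subsingleton.elim (M.presheaf.stalk x) _ _ _

/-- The telescope of a torsion module is invertible. -/
theorem isIso_telescope_modules {M : X.Modules} (hM : Coh.IsQCoh M)
    (hs : CohB1.support M ⊆ (X.zeroLocus (U := ⊤) {Coh.toGlobal (X ↘ Spec (CommRingCat.of A)) a} : Set X))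
    [HasCoproduct fun _ : ULift.{u} ℕ => M] : IsIso (telescope A a M) := by
  classical
  haveI : Mono (telescope A a M) := Preadditive.mono_of_cancel_zero _ fun {K} g hg => by
    refine eq_zero_of_comp_sigmaProj_modules _ g fun j => ?_
    obtain ⟨n⟩ := j
    induction n with
    | zero => rw [← telescope_proj_zero A a M, reassoc_of% hg, zero_comp]
    | succ n ih =>
      have h0 : g ≫ (sigmaProj (fun _ : ULift.{u} ℕ => M) ⟨n + 1⟩ - a • sigmaProj _ ⟨n⟩) = 0 := by
        rw [← telescope_proj_succ, reassoc_of% hg, zero_comp]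
      rw [Preadditive.comp_sub, Linear.comp_smul, ih, smul_zero, sub_zero] at h0
      exact h0
  haveI : Epi (telescope A a M) := Preadditive.epi_of_cancel_zero _ fun {Z} g hg => by
    have hstep : ∀ (n k : ℕ), Sigma.ι (fun _ : ULift.{u} ℕ => M) ⟨n⟩ ≫ g =
        a ^ k • (Sigma.ι (fun _ : ULift.{u} ℕ => M) ⟨n + k⟩ ≫ g) := by
      intro n k
      induction k with
      | zero => simp
      | succ k ih =>
        have h0 := congrArg (Sigma.ι (fun _ : ULift.{u} ℕ => M) ⟨n + k⟩ ≫ ·) hg
        simp only [telescope, Sigma.ι_desc_assoc, Preadditive.sub_comp, Linear.smul_comp, comp_zero,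
          sub_eq_zero] at h0
        rw [ih, h0, smul_smul, ← pow_succ]
        rfl
    refine Sigma.hom_ext _ _ fun j => ?_
    obtain ⟨n⟩ := j
    rw [comp_zero]
    refine Scheme.Modules.hom_ext _ _ fun U => ?_
    ext m
    refine TopCat.Presheaf.section_ext ((SheafOfModules.toSheaf.{u} X.ringCatSheaf).obj Z) _ _ _
      fun x hx => ?_
    obtain ⟨_, ⟨W, hW, rfl⟩, hxW, hWU⟩ :=
      X.isBasis_affineOpens.exists_subset_of_mem_open (show x ∈ (U : Set X) from hx) U.isOpen
    let i : W ⟶ U := homOfLE hWU
    obtain ⟨k, hk⟩ := exists_pow_smul_section A a hM hs hW (M.presheaf.map i.op m)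
    have hW0 : (Sigma.ι (fun _ : ULift.{u} ℕ => M) ⟨n⟩ ≫ g).app W (M.presheaf.map i.op m) = 0 := by
      rw [hstep n k, KLin.smul_app_apply, map_pow]
      erw [map_pow, ← Scheme.Modules.Hom.app_smul, hk, map_zero]
    have hnat := (ConcreteCategory.congr_hom
      ((Sigma.ι (fun _ : ULift.{u} ℕ => M) ⟨n⟩ ≫ g).mapPresheaf.naturality i.op) m).symm.trans hW0
    refine (TopCat.Presheaf.germ_res_apply Z.presheaf i x hxW _).symm.trans ?_
    refine (congrArg (Z.presheaf.germ W x hxW) hnat).trans ((map_zero _).trans ?_)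
    exact (map_zero _).symm
  exact isIso_of_mono_of_epi _

/-- Maps from a perfect object into an object supported on a zero locus are killed by a power. -/
theorem exists_pow_smul_of_support [CompactSpace X] [QuasiSeparatedSpace X] {E E' : DCoh.D X}
    (hE : DCoh.IsPerfect E) (hE' : DCoh.IsQCohD E')
    (hsupp : ∀ i : ℤ, CohB1.support (DCoh.HD E' i) ⊆
      (X.zeroLocus (U := ⊤) {Coh.toGlobal (X ↘ Spec (CommRingCat.of A)) a} : Set X))
    (α : E ⟶ E') : ∃ n : ℕ, a ^ n • α = 0 := by
  classical
  let J := ULift.{u} ℕ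
  haveI : HasColimitsOfShape (Discrete J) (DCoh.D X) := TriCat.hasColimitsOfShape_derivedCategory
  haveI : IsIso (telescope A a E') := (DerivedCategory.isIso_iff _ _).2 fun i => by
    let H := DerivedCategory.homologyFunctor X.Modules i
    haveI := preservesColimit_homology (fun _ : J => E') i
    have hsmul : ∀ {K L : DCoh.D X} (f : K ⟶ L), H.map (a • f) = a • H.map f := by
      intro K L f
      let C := DerivedCategory.Q.objPreimage K
      let eK : DerivedCategory.Q.obj C ≅ K := DerivedCategory.Q.objObjPreimageIso K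
      have h1 : H.map (DerivedCategory.Q.map (a • 𝟙 C)) = a • 𝟙 _ := by
        refine (cancel_mono ((DerivedCategory.homologyFunctorFactors X.Modules i).hom.app C)).1 ?_
        refine ((DerivedCategory.homologyFunctorFactors X.Modules i).hom.naturality (a • 𝟙 C)).trans ?_
        have h0 : (HomologicalComplex.shortComplexFunctor X.Modules (ComplexShape.up ℤ) i).map
            (a • 𝟙 C) = a • 𝟙 (C.sc i) := by ext <;> rfl
        change _ ≫ HomologicalComplex.homologyMap (a • 𝟙 C) i = _
        rw [show HomologicalComplex.homologyMap (a • 𝟙 C) i = a • 𝟙 (C.homology i) from by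
          show ShortComplex.homologyMap _ = _
          rw [h0, ShortComplex.homologyMap_smul, ShortComplex.homologyMap_id]; rfl]
        exact ((Linear.comp_smul ..).trans (congrArg (a • ·) (Category.comp_id _))).trans
          ((Linear.smul_comp ..).trans (congrArg (a • ·) (Category.id_comp _))).symm
      have h2 : a • f = eK.inv ≫ DerivedCategory.Q.map (a • 𝟙 C) ≫ eK.hom ≫ f := by
        rw [Functor.map_smul, CategoryTheory.Functor.map_id, Linear.smul_comp, Category.id_comp,
          Linear.comp_smul, Iso.inv_hom_id_assoc]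
      rw [h2, Functor.map_comp, Functor.map_comp, h1, Linear.smul_comp, Category.id_comp, Linear.comp_smul,
        ← Functor.map_comp, Iso.inv_hom_id_assoc]
    haveI := isIso_telescope_modules A a (hE' i) (hsupp i)
    let c := sigmaComparison H (fun _ : J => E')
    have hc : c ≫ H.map (telescope A a E') = telescope A a (H.obj E') ≫ c := by
      refine Sigma.hom_ext _ _ fun n => ?_
      rw [ι_comp_sigmaComparison_assoc, ← Functor.map_comp, telescope, telescope, Sigma.ι_desc,
        Sigma.ι_desc_assoc, Preadditive.sub_comp, Linear.smul_comp, ι_comp_sigmaComparison,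
        ι_comp_sigmaComparison, Functor.map_sub, hsmul]
    have : IsIso (c ≫ H.map (telescope A a E')) := by rw [hc]; infer_instance
    exact IsIso.of_isIso_comp_left c _
  exact exists_pow_smul_of_telescope A a E' (fixAt_of_isQCohD hE _ fun _ => hE') α

end Sheaf

end Groth.Agent.PerfD40
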