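import Groth.Agent.PerfD40.AdjOpen
import Groth.Agent.KFlatLib.Scheme.ProjFormula
import Groth.Agent.KFlatLib.Scheme.SupportPush
import Groth.Agent.S0924

/-!
# Restriction along isomorphisms of schemes
-/

set_option linter.style.haveILetI false

universe u

open CategoryTheory CategoryTheory.Limits AlgebraicGeometry

attribute [local instance] HasDerivedCategory.standard

namespace Groth.Agent.PerfD40

open Groth.Agent.KFlatLib

variable {U V X : Scheme.{u}}

/-- Composition of two restrictions, as functors. -/
noncomputable def restrictDComp (i : V ⟶ U) (j : U ⟶ X) (l : V ⟶ X) [IsOpenImmersion i]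
    [IsOpenImmersion j] [IsOpenImmersion l] (h : i ≫ j = l)
    [PreservesFiniteLimits (Scheme.Modules.restrictFunctor i)]
    [PreservesFiniteLimits (Scheme.Modules.restrictFunctor j)]
    [PreservesFiniteLimits (Scheme.Modules.restrictFunctor l)] :
    DCoh.restrictD j ⋙ DCoh.restrictD i ≅ DCoh.restrictD l :=
  Localization.liftNatIso DerivedCategory.Qh (HomotopyCategory.quasiIso X.Modules (ComplexShape.up ℤ))
    (DerivedCategory.Qh ⋙ DCoh.restrictD j ⋙ DCoh.restrictD i)
    (DerivedCategory.Qh ⋙ DCoh.restrictD l) _ _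
    ((Functor.associator _ _ _).symm ≪≫
      Functor.isoWhiskerRight (Scheme.Modules.restrictFunctor j).mapDerivedCategoryFactorsh _ ≪≫
      Functor.associator _ _ _ ≪≫
      Functor.isoWhiskerLeft _ (Scheme.Modules.restrictFunctor i).mapDerivedCategoryFactorsh ≪≫
      (Functor.associator _ _ _).symm ≪≫
      Functor.isoWhiskerRight (Functor.mapHomotopyCategoryCompIso
        (Scheme.Modules.restrictFunctorCongr h.symm ≪≫ Scheme.Modules.restrictFunctorComp i j).symm
        (ComplexShape.up ℤ)) DerivedCategory.Qh ≪≫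
      (Scheme.Modules.restrictFunctor l).mapDerivedCategoryFactorsh.symm)

/-- Restriction along the identity. -/
noncomputable def restrictDId (X : Scheme.{u}) :
    DCoh.restrictD (𝟙 X) ≅ 𝟭 (DCoh.D X) :=
  Localization.liftNatIso DerivedCategory.Qh (HomotopyCategory.quasiIso X.Modules (ComplexShape.up ℤ))
    (DerivedCategory.Qh ⋙ DCoh.restrictD (𝟙 X)) DerivedCategory.Qh _ _
    ((Scheme.Modules.restrictFunctor (𝟙 X)).mapDerivedCategoryFactorsh ≪≫
      Functor.isoWhiskerRight (mapHtpyIso Scheme.Modules.restrictFunctorId ≪≫ mapHtpyId X) _ ≪≫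
      Functor.leftUnitor _)

/-- Restriction along an isomorphism is an equivalence. -/
noncomputable def restrictDEquiv (e : U ≅ X)
    [PreservesFiniteLimits (Scheme.Modules.restrictFunctor e.hom)]
    [PreservesFiniteLimits (Scheme.Modules.restrictFunctor e.inv)] : DCoh.D X ≌ DCoh.D U :=
  CategoryTheory.Equivalence.mk (DCoh.restrictD e.hom) (DCoh.restrictD e.inv)
    ((restrictDId X).symm ≪≫ (restrictDComp e.inv e.hom (𝟙 X) e.inv_hom_id).symm)
    (restrictDComp e.hom e.inv (𝟙 U) e.hom_inv_id ≪≫ restrictDId U)

/-- Restriction along an isomorphism is faithful. -/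
lemma faithful_restrictD (e : U ≅ X) [PreservesFiniteLimits (Scheme.Modules.restrictFunctor e.hom)] :
    (DCoh.restrictD e.hom).Faithful :=
  inferInstanceAs (restrictDEquiv e).functor.Faithful

end Groth.Agent.PerfD40
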