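import Groth.Agent.KFlatLib.Scheme.SupportPush
import Groth.Agent.KFlatLib.Scheme.RpushRestrict

/-!
# Restrictions and supports of cohomology sheaves
-/

set_option linter.style.haveILetI false

universe u

open CategoryTheory CategoryTheory.Limits AlgebraicGeometry

attribute [local instance] HasDerivedCategory.standard

namespace Groth.Agent.PerfD40

open Groth.Agent.KFlatLib

variable {X : Scheme.{u}}

/-- The cohomology sheaves of a restriction. -/
noncomputable def hdRestrictIso {U : Scheme.{u}} (j : U ⟶ X) [IsOpenImmersion j]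
    [PreservesFiniteLimits (Scheme.Modules.restrictFunctor j)] (E : DCoh.D X) (i : ℤ) :
    DCoh.HD ((DCoh.restrictD j).obj E) i ≅
      (Scheme.Modules.restrictFunctor j).obj (DCoh.HD E i) :=
  (mapDCHomologyIso (Scheme.Modules.restrictFunctor j) i).app E

lemma notMem_support_of_isZero_restrict (O : X.Opens) {M : X.Modules}
    (h : IsZero ((Scheme.Modules.restrictFunctor O.ι).obj M)) {x : X} (hx : x ∈ O) :
    x ∉ CohB1.support M := by
  obtain ⟨u, rfl⟩ : ∃ u, O.ι.base u = x := ⟨⟨x, hx⟩, rfl⟩
  refine fun hns => hns ?_
  have e := (Scheme.Modules.restrictStalkNatIso O.ι u).app M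
  haveI : Subsingleton (((Scheme.Modules.restrictFunctor O.ι).obj M).presheaf.stalk u) :=
    ModuleCat.subsingleton_of_isZero ((DerSch.stalkFunctor (O : Scheme.{u}) u).map_isZero h)
  exact @Equiv.subsingleton _ _ e.symm.addCommGroupIsoToAddEquiv.toEquiv
    (inferInstanceAs (Subsingleton (((Scheme.Modules.restrictFunctor O.ι).obj M).presheaf.stalk u)))

/-- An object restricting to zero on an open has no cohomology supported there. -/
lemma support_subset_of_isZero_restrictD (O : X.Opens)
    [PreservesFiniteLimits (Scheme.Modules.restrictFunctor O.ι)] (E : DCoh.D X)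
    (h : IsZero ((DCoh.restrictD O.ι).obj E)) (i : ℤ) :
    CohB1.support (DCoh.HD E i) ⊆ (O : Set X)ᶜ := fun x hx hxO =>
  notMem_support_of_isZero_restrict O
    ((Functor.map_isZero (DerivedCategory.homologyFunctor _ i) h).of_iso (hdRestrictIso O.ι E i).symm)
    hxO hx

end Groth.Agent.PerfD40
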