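import Groth.Agent.PerfD40.TorStalk
import Groth.Agent.PerfD40.CohRpush
import Groth.Agent.KFlatLib.Scheme.ProjFormula
import Groth.Agent.KFlatLib.Scheme.ProjLocFree
import Groth.Agent.KFlatLib.Scheme.TorQCoh
import Groth.Agent.KFlatLib.Scheme.QCohDerived
import Groth.Agent.KFlatLib.Scheme.SupportPush
import Groth.Agent.KFlatLib.Perfect.Corollaries

/-!
# Perfectness of `Rf_*` from coherence and finite tor amplitude over the base
-/

set_option linter.style.haveILetI false
set_option backward.isDefEq.respectTransparency false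

universe u

open CategoryTheory CategoryTheory.Limits AlgebraicGeometry TopologicalSpace

attribute [local instance] HasDerivedCategory.standard

namespace Groth.Agent.PerfD40

open Groth.Agent.KFlatLib

variable {X Y : Scheme.{u}}

/-- `E ⊗^L N` through the complex `N[0]`. -/
lemma nonempty_hd_ltensorMod_single (E : DCoh.D Y) (N : Y.Modules) [DCoh.HasLTensorMod N]
    [DCoh.HasLTensorCx ((HomologicalComplex.single Y.Modules (ComplexShape.up ℤ) 0).obj N)] (i : ℤ) :
    Nonempty (DCoh.HD ((DCoh.LTensorMod N).obj E) i ≅ DCoh.HD ((DCoh.LTensorCx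
      ((HomologicalComplex.single Y.Modules (ComplexShape.up ℤ) 0).obj N)).obj E) i) :=
  ⟨(DerivedCategory.homologyFunctor Y.Modules i).mapIso ((DCoh.LTensorMod N).mapIso (repKIso E).symm) ≪≫
    hdLTensorModIso N (isKFlat_repK E) i ≪≫
    (HomologicalComplex.homologyFunctor Y.Modules (ComplexShape.up ℤ) i).mapIso
      ((singleIso DCoh.tensorBi N).app (repK E)).symm ≪≫
    ((DerivedCategory.homologyFunctorFactors Y.Modules i).app _).symm ≪≫
    (DerivedCategory.homologyFunctor Y.Modules i).mapIso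
      ((ltensorCxIso _ (isKFlat_repK E)).symm ≪≫ (DCoh.LTensorCx _).mapIso (repKIso E))⟩

/-- The derived tensor products with pulled back modules, on `X` or on an open `U` of `X`. -/
lemma isZero_hd_ltensorCx_pullCx (f : X ⟶ Y) {U : Scheme.{u}} (j : U ⟶ X) [IsOpenImmersion j]
    (F : CochainComplex X.Modules ℤ) {a b : ℤ} (hF : DerSch.HasTorAmplitude f a b F)
    {P N : CochainComplex Y.Modules ℤ} (hP : DCoh.IsKFlat P) (s : P ⟶ N) [QuasiIso s]
    (hN : ∀ p, p ≠ 0 → IsZero (N.X p)) [DCoh.HasLTensorCx ((pullCx (j ≫ f)).obj P)] (i : ℤ)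
    (hi : i < a ∨ b < i) :
    IsZero (DCoh.HD ((DCoh.LTensorCx ((pullCx (j ≫ f)).obj P)).obj (DCoh.toD U ((rCx j).obj F))) i) := by
  haveI := isIso_LTensorCx_counit_of_isKFlat_right ((pullCx (j ≫ f)).obj P)
    (isKFlat_pullback _ hP) ((rCx j).obj F)
  have h := isZero_homology_tensor_pullCx f hF hP s hN i hi
  let C := (DCoh.tensorCx.obj F).obj ((pullCx f).obj P)
  let ρ := NatIso.mapHomologicalComplex (Scheme.Modules.restrictFunctorIsoPullback j) (ComplexShape.up ℤ)
  let e : (DCoh.tensorCx.obj ((rCx j).obj F)).obj ((pullCx (j ≫ f)).obj P) ≅ (rCx j).obj C :=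
    (DCoh.tensorCx.mapIso (ρ.app F)).app _ ≪≫
      (DCoh.tensorCx.obj _).mapIso ((pullCxCompIso j f).app P).symm ≪≫
      pullTensorCxIso j F ((pullCx f).obj P) ≪≫ (ρ.app C).symm
  refine IsZero.of_iso ?_ ((DerivedCategory.homologyFunctor U.Modules i).mapIso
      (asIso (((DCoh.tensorCxQ ((pullCx (j ≫ f)).obj P)).totalLeftDerivedCounit DerivedCategory.Q
        (qisX U)).app ((rCx j).obj F))) ≪≫
    (DerivedCategory.homologyFunctorFactors U.Modules i).app _ ≪≫
    (HomologicalComplex.homologyFunctor _ _ i).mapIso e)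
  exact ((Scheme.Modules.restrictFunctor j).map_isZero h).of_iso
    ((C.sc i).mapHomologyIso (Scheme.Modules.restrictFunctor j))

/-- Finite tor amplitude of `Rf_*`, from the projection formula. -/
theorem exists_torAmplitude_rpush (f : X ⟶ Y) [CompactSpace Y] [QuasiSeparatedSpace Y]
    {U : Scheme.{u}} (j : U ⟶ X) [IsOpenImmersion j] [QuasiCompact (j ≫ f)] [QuasiSeparated (j ≫ f)]
    [DCoh.HasRpush (j ≫ f)] (F : CochainComplex X.Modules ℤ) {a b : ℤ}
    (hF : DerSch.HasTorAmplitude f a b F) (hq : DCoh.IsQCohD (DCoh.toD U ((rCx j).obj F))) :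
    ∃ a' b' : ℤ, a' ≤ b' ∧
      DCoh.HasTorAmplitudeIn a' b' ((DCoh.Rpush (j ≫ f)).obj (DCoh.toD U ((rCx j).obj F))) := by
  haveI : HasInjectiveResolutions U.Modules := hasInjectiveResolutions_modules
  obtain ⟨d, hd⟩ := exists_Rpush_bound (j ≫ f)
  let c := max a b
  refine ⟨a, c + d, by omega, torAmplitude_of_qcoh _ a (c + d) fun G hG _ i hi => ?_⟩
  let N := (HomologicalComplex.single Y.Modules (ComplexShape.up ℤ) 0).obj G
  haveI := hasLTensorCx N
  refine IsZero.of_iso ?_ (nonempty_hd_ltensorMod_single _ G i).some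
  let P := (kRes Y).obj N
  have hP : DCoh.IsKFlat P := isKFlat_kRes N
  let s : P ⟶ N := (flatCover Y).ψ.app N
  haveI : QuasiIso s := (flatCover Y).quasiIso_ψ N
  have hN : ∀ p, p ≠ 0 → IsZero (N.X p) := fun p hp =>
    HomologicalComplex.isZero_single_obj_X (ComplexShape.up ℤ) 0 _ p hp
  have hNq : DCoh.IsQCohD (DCoh.toD Y N) := (isQCohD_Q_iff N).2 fun p => by
    by_cases hp : p = 0
    · subst hp
      exact isQCoh_of_iso ((HomologicalComplex.homologyFunctorSingleIso Y.Modules (ComplexShape.up ℤ) 0).app G).symm hG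
    · exact isQCoh_of_isZero (ShortComplex.isZero_homology_of_isZero_X₂ _ (hN p hp))
  haveI := hasLpull (j ≫ f)
  let M := (pullCx (j ≫ f)).obj P
  haveI := hasLTensorCx M
  haveI := isIso_lpullComparison (j ≫ f) hP
  haveI := isIso_Q_map s inferInstance
  let eM : DCoh.toD U M ≅ (DCoh.Lpull (j ≫ f)).obj (DCoh.toD Y N) :=
    (asIso ((lpullComparison (j ≫ f)).app P)).symm ≪≫
      (DCoh.Lpull (j ≫ f)).mapIso (asIso (DerivedCategory.Q.map s))
  obtain ⟨eP⟩ := nonempty_projection_DQCoh (j ≫ f) _ hq N hNq M ⟨eM⟩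
  refine IsZero.of_iso ?_ ((DerivedCategory.homologyFunctor Y.Modules i).mapIso eP)
  let E := (DCoh.LTensorCx M).obj (DCoh.toD U ((rCx j).obj F))
  have hz : ∀ p : ℤ, (p < a ∨ b < p) → IsZero (DCoh.HD E p) := fun p hp =>
    isZero_hd_ltensorCx_pullCx f j F hF hP s hN p hp
  haveI : E.IsGE a := (DerivedCategory.isGE_iff E a).2 fun p hp => hz p (Or.inl hp)
  rcases hi with hi | hi
  · exact isZero_hd_rpush_of_lt (j ≫ f) E a i hi
  · have hle : DerivedCategory.IsLE E (a + (c - a).toNat) :=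
      (DerivedCategory.isLE_iff E _).2 fun p hp => hz p (Or.inr (by omega))
    have hqE : DCoh.IsQCohD E :=
      isQCohD_ltensor M (isQCohD_of_iso eM.symm (isQCohD_lpull _ hNq)) hq
    refine isZero_of_isZero_restrict _ fun y => ⟨⊤, trivial, ?_⟩
    exact (rpush_bounded (j ≫ f) (c - a).toNat a E inferInstance hle hqE).2 ⊤ d
      (fun M' hM' p hp => (Scheme.Modules.restrictFunctor _).map_isZero (hd M' hM' p hp)) i
      (by omega)

/-- `Rf_*` of a bounded coherent object with proper supports and finite tor amplitude over the base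
is perfect. -/
theorem isPerfect_rpush_of_coh_torAmplitude [IsNoetherian Y] (f : X ⟶ Y) [LocallyOfFiniteType f]
    [DCoh.HasRpush f] (F : CochainComplex X.Modules ℤ) (hcoh : DCoh.IsCohD (DCoh.toD X F))
    (a₀ b₀ : ℤ) [(DCoh.toD X F).IsGE a₀] [(DCoh.toD X F).IsLE b₀]
    (hsupp : ∀ i : ℤ, ClSub.IsProperOver f (CohB1.support (DCoh.HD (DCoh.toD X F) i)))
    {a b : ℤ} (hF : DerSch.HasTorAmplitude f a b F) :
    DCoh.IsPerfect ((DCoh.Rpush f).obj (DCoh.toD X F)) := by
  haveI : IsLocallyNoetherian X := LocallyOfFiniteType.isLocallyNoetherian f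
  obtain ⟨hc, b', hb'⟩ := isCohD_rpush_bounded f (DCoh.toD X F) a₀ b₀ hcoh hsupp
  let T : ℤ → Set X := fun i => CohB1.support (DCoh.HD (DCoh.toD X F) i)
  have hT : ∀ i, IsClosed (T i) ∧ IsCompact (T i) := fun i => by
    obtain ⟨h, hp⟩ := hsupp i
    haveI := hp
    haveI : CompactSpace (Scheme.IdealSheafData.vanishingIdeal ⟨T i, h⟩).subscheme :=
      QuasiCompact.compactSpace_of_compactSpace
        ((Scheme.IdealSheafData.vanishingIdeal ⟨T i, h⟩).subschemeι ≫ f)
    refine ⟨h, ?_⟩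
    have hk := isCompact_range (Scheme.IdealSheafData.vanishingIdeal ⟨T i, h⟩).subschemeι.continuous
    exact (congrArg IsCompact (QCoh.range_vanishing h)).mp hk
  let Z : Set X := ⋃ i ∈ Set.Icc a₀ b₀, T i
  have hZc : IsClosed Z := Set.Finite.isClosed_biUnion (Set.finite_Icc a₀ b₀) fun i _ => (hT i).1
  have hZk : IsCompact Z := (Set.finite_Icc a₀ b₀).isCompact_biUnion fun i _ => (hT i).2
  have hTZ : ∀ i, T i ⊆ Z := fun i x hx => by
    by_cases hi : i ∈ Set.Icc a₀ b₀
    · exact Set.mem_biUnion hi hx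
    · refine absurd hx (Set.eq_empty_iff_forall_notMem.1
        (Set.eq_empty_iff_forall_notMem.2 ((isZero_iff_support _).1 ?_)) x)
      rcases not_and_or.1 hi with h | h
      · exact DerivedCategory.isZero_of_isGE (DCoh.toD X F) a₀ i (by omega)
      · exact DerivedCategory.isZero_of_isLE (DCoh.toD X F) b₀ i (by omega)
  obtain ⟨t, ht⟩ := hZk.elim_finite_subcover (fun W : X.affineOpens => (W.1 : Set X))
    (fun W => W.1.2) fun x _ => by
      obtain ⟨W, hW, hx, -⟩ := exists_isAffineOpen_mem_and_subset (x := x) (U := ⊤) trivial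
      exact Set.mem_iUnion.2 ⟨⟨W, hW⟩, hx⟩
  let U : X.Opens := ⟨⋃ W ∈ t, (W.1 : Set X), isOpen_biUnion fun W _ => W.1.2⟩
  have hUk : IsCompact (U : Set X) := t.finite_toSet.isCompact_biUnion fun W _ => W.2.isCompact
  haveI : CompactSpace (U : Scheme.{u}) := isCompact_iff_compactSpace.1 hUk
  haveI : IsLocallyNoetherian (U : Scheme.{u}) := LocallyOfFiniteType.isLocallyNoetherian (U.ι ≫ f)
  haveI : QuasiCompact (U.ι ≫ f) := inferInstance
  haveI : QuasiSeparated (U.ι ≫ f) := inferInstance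
  haveI := hasRpush_scheme (U.ι ≫ f)
  haveI := hasRpush_scheme U.ι
  obtain ⟨θ⟩ := nonempty_iso_rpush_restrict U Z hZc ht (DCoh.toD X F) hTZ
  let e : (DCoh.Rpush f).obj (DCoh.toD X F) ≅
      (DCoh.Rpush (U.ι ≫ f)).obj (DCoh.toD (U : Scheme.{u}) ((rCx U.ι).obj F)) :=
    (DCoh.Rpush f).mapIso (θ ≪≫ (DCoh.Rpush U.ι).mapIso ((rhoQ U.ι).app F)) ≪≫
      (nonempty_rpush_comp U.ι f).some.app _
  obtain ⟨a', b'', hab, htor⟩ := exists_torAmplitude_rpush f U.ι F hF
    (isQCohD_of_iso ((rhoQ U.ι).app F) (isQCohD_restrictD U.ι (isCohD_isQCohD hcoh)))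
  refine isPerfect_of_iso' e.symm ((isPerfect_iff _).2 (locSP_of_flat_pc hab
    (flatAmplitude_of_torAmplitude hasLTensorMod hab htor) ?_))
  exact ((locPC_of_coh (isCohD_isQCohD hc) (fun i _ => hc i) b' hb').of_iso e)

end Groth.Agent.PerfD40
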