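import Groth.Agent.PerfD40.AmpClass
import Groth.Agent.GrFlat5.AtPrime
import Groth.Agent.FlatMisc.RingPullback
import Groth.Agent.KFlatLib.Ring.Resolution
import Groth.Agent.KFlatLib.Perfect.Basic
import Groth.Prelude.Def_DRing2
import Groth.Prelude.Def_DDual2

/-!
# More on amplitude classes; modules flat over a base ring
-/

set_option linter.style.haveILetI false
set_option backward.isDefEq.respectTransparency false

universe w v u

open CategoryTheory CategoryTheory.Limits CategoryTheory.Pretriangulated CochainComplex

namespace Groth.Agent.PerfD40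

section General

variable {C : Type u} [Category.{v} C] [Abelian C] [HasDerivedCategory.{w} C] {Φ : C → Prop}

/-- A bounded above representative with one good cokernel gives bounded amplitude. -/
lemma AmpClass.amp_of_opcycles (hΦ : AmpClass Φ) {R : CochainComplex C ℤ} {K : DerivedCategory C}
    (e : DerivedCategory.Q.obj R ≅ K) (a b : ℤ) [R.IsStrictlyLE b] (hR : ∀ n, Φ (R.X n))
    (h : Φ (R.opcycles a))
    (hz : ∀ i, i < a → IsZero ((DerivedCategory.homologyFunctor C i).obj K)) :
    HasAmp Φ a b K := by
  haveI := isIso_Q_πTruncGE R a fun i hi =>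
    (hz i hi).of_iso ((DerivedCategory.homologyFunctor C i).mapIso e)
  exact ⟨R.truncGE a, inferInstance, isStrictlyLE_truncGE' R a b, hΦ.truncGE_X hR h,
    ⟨(asIso (DerivedCategory.Q.map (R.πTruncGE a))).symm ≪≫ e⟩⟩

end General

section Modules

/-- Flatness over a base ring is inherited through an exact functor. -/
theorem ampClass_of_functor {C : Type u} [Category.{v} C] [Abelian C] {R : Type w} [CommRing R]
    (G : C ⥤ ModuleCat.{w} R) [G.Additive] [PreservesFiniteLimits G] [PreservesFiniteColimits G]
    (resolve : ∀ (K : CochainComplex C ℤ) (b : ℤ) [K.IsLE b],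
      ∃ (P : CochainComplex C ℤ) (ρ : P ⟶ K), QuasiIso ρ ∧ P.IsStrictlyLE b ∧
        ∀ n, Module.Flat R (G.obj (P.X n))) :
    AmpClass (C := C) fun M => Module.Flat R (G.obj M) where
  of_iso e h := haveI := h; Module.Flat.of_linearEquiv (G.mapIso e).symm.toLinearEquiv
  of_isZero h := by
    haveI := ModuleCat.subsingleton_of_isZero (G.map_isZero h)
    exact inferInstance
  ext {T} hT h1 h3 := by
    have h := hT.map_of_exact G
    haveI : Module.Flat R (T.map G).X₁ := h1
    haveI : Module.Flat R (T.map G).X₃ := h3
    exact GrFlat5.flat_of_exact h.moduleCat_injective_f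
      ((ShortComplex.ShortExact.moduleCat_exact_iff_function_exact _).1 h.exact)
      h.moduleCat_surjective_g
  ker {T} hT h2 h3 := by
    have h := hT.map_of_exact G
    haveI : Module.Flat R (T.map G).X₂ := h2
    haveI : Module.Flat R (T.map G).X₃ := h3
    exact FlatMisc.flat_of_exact _ _ h.moduleCat_injective_f h.moduleCat_surjective_g
      ((ShortComplex.ShortExact.moduleCat_exact_iff_function_exact _).1 h.exact)
  summand i r hir h := by
    haveI := h
    refine Module.Flat.of_retract (G.map i).hom (G.map r).hom ?_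
    rw [← ModuleCat.hom_comp, ← Functor.map_comp, hir, CategoryTheory.Functor.map_id]
    rfl
  resolve := resolve

/-- Modules over a flat algebra which are flat over the base. -/
theorem ampClass_flatOverRing {R A : Type u} [CommRing R] [CommRing A] [Algebra R A]
    [Module.Flat R A] :
    AmpClass (C := ModuleCat.{u} A)
      fun M => Module.Flat R ((ModuleCat.restrictScalars (algebraMap R A)).obj M) :=
  ampClass_of_functor (ModuleCat.restrictScalars (algebraMap R A)) fun K b _ => by
    obtain ⟨P, ψ, hψ, hflat, hz⟩ := (KFlatLib.ringCover A).exists_bounded_resolution K b fun m hm =>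
      (K.exactAt_of_isLE b m hm).isZero_homology
    refine ⟨P, ψ, hψ, (CochainComplex.isStrictlyLE_iff _ _).2 hz, fun n => ?_⟩
    haveI : Module.Flat A (P.X n) := hflat n
    letI : Module R (P.X n) := Module.compHom _ (algebraMap R A)
    haveI : IsScalarTower R A (P.X n) := IsScalarTower.of_algebraMap_smul fun _ _ => rfl
    exact Module.Flat.trans R A (P.X n)

/-- Flat modules. -/
theorem ampClass_flat (R : Type u) [CommRing R] :
    AmpClass (C := ModuleCat.{u} R) fun M => Module.Flat R M :=
  ampClass_of_functor (𝟭 (ModuleCat.{u} R)) fun K b _ => by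
    obtain ⟨P, ψ, hψ, hflat, hz⟩ := (KFlatLib.ringCover R).exists_bounded_resolution K b fun m hm =>
      (K.exactAt_of_isLE b m hm).isZero_homology
    exact ⟨P, ψ, hψ, (CochainComplex.isStrictlyLE_iff _ _).2 hz, hflat⟩

attribute [local instance] HasDerivedCategory.standard

theorem hasTorAmplitudeIn_iff_amp (R : Type u) [CommRing R] (a b : ℤ) (K : Dual.D R) :
    DRing.HasTorAmplitudeIn R a b K ↔
      HasAmp (C := ModuleCat.{u} R) (fun M => Module.Flat R M) a b K := by
  constructor
  · rintro ⟨E, hE, hf, e⟩
    exact ⟨E, (CochainComplex.isStrictlyGE_iff _ _).2 fun i hi => hE i (Or.inl hi),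
      (CochainComplex.isStrictlyLE_iff _ _).2 fun i hi => hE i (Or.inr hi), hf, e⟩
  · rintro ⟨E, h1, h2, hf, e⟩
    refine ⟨E, fun i hi => ?_, hf, e⟩
    rcases hi with hi | hi
    · exact E.isZero_of_isStrictlyGE a i hi
    · exact E.isZero_of_isStrictlyLE b i hi

variable {R A : Type u} [CommRing R] [CommRing A]

/-- The cokernels of a bounded above complex of `R`-flat `A`-modules of finite amplitude over `R`. -/
theorem flat_opcycles_of_torAmplitude (φ : R →+* A) (P : CochainComplex (ModuleCat.{u} A) ℤ)
    {a b : ℤ} [P.IsStrictlyLE b]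
    (hP : ∀ n, Module.Flat R ((ModuleCat.restrictScalars φ).obj (P.X n)))
    (h : HasAmp (C := ModuleCat.{u} R) (fun M => Module.Flat R M) a b
      ((DRing.restrictD φ).obj (DerivedCategory.Q.obj P)))
    (n : ℤ) (hn : n < a) :
    Module.Flat R ((ModuleCat.restrictScalars φ).obj (P.opcycles n)) := by
  let G := ModuleCat.restrictScalars.{u} φ
  let P' := (G.mapHomologicalComplex (ComplexShape.up ℤ)).obj P
  haveI : CochainComplex.IsStrictlyLE P' b := (CochainComplex.isStrictlyLE_iff _ _).2 fun i hi =>
    G.map_isZero (P.isZero_of_isStrictlyLE b i hi)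
  have hP' := (ampClass_flat R).opcycles_rep (R := P') hP
    (h.of_iso (G.mapDerivedCategoryFactors.app P)) n hn
  exact (ampClass_flat R).of_iso ((P.sc n).mapOpcyclesIso G) hP'

/-- An object of `D(A)` of finite tor amplitude over `R` is represented by a bounded complex of
`A`-modules flat over `R`. -/
theorem amp_of_restrict [Algebra R A] [Module.Flat R A] {a b : ℤ} (M : Dual.D A)
    (h : DRing.HasTorAmplitudeIn R a b ((DRing.restrictD (algebraMap R A)).obj M)) :
    HasAmp (C := ModuleCat.{u} A)
      (fun N => Module.Flat R ((ModuleCat.restrictScalars (algebraMap R A)).obj N)) (a - 1) b M := by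
  have h' := (hasTorAmplitudeIn_iff_amp R a b _).1 h
  let G := ModuleCat.restrictScalars.{u} (algebraMap R A)
  have hz : ∀ i, i < a ∨ b < i →
      IsZero ((DerivedCategory.homologyFunctor (ModuleCat.{u} A) i).obj M) := fun i hi => by
    have h0 := ((h'.isZero_homology i hi).of_iso
      (((G.mapDerivedCategory ⋙ DerivedCategory.homologyFunctor _ i).mapIso
        (DerivedCategory.Q.objObjPreimageIso M)) ≪≫ Iso.refl _)).of_iso
      ((((DerivedCategory.homologyFunctorFactors _ i).app _).symm ≪≫
          (DerivedCategory.homologyFunctor _ i).mapIso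
            (G.mapDerivedCategoryFactors.app (DerivedCategory.Q.objPreimage M)).symm))
    refine IsZero.of_iso ?_ ((DerivedCategory.homologyFunctor _ i).mapIso
      (DerivedCategory.Q.objObjPreimageIso M).symm ≪≫
        (DerivedCategory.homologyFunctorFactors _ i).app _)
    have h1 : IsZero (G.obj ((DerivedCategory.Q.objPreimage M).homology i)) :=
      h0.of_iso (((DerivedCategory.Q.objPreimage M).sc i).mapHomologyIso G).symm
    haveI := ModuleCat.subsingleton_of_isZero h1
    haveI : Subsingleton ((DerivedCategory.Q.objPreimage M).homology i : Type u) :=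
      inferInstanceAs (Subsingleton (G.obj _ : Type u))
    exact @ModuleCat.isZero_of_subsingleton _ _ ((DerivedCategory.Q.objPreimage M).homology i) this
  haveI : M.IsLE b := (DerivedCategory.isLE_iff M b).2 fun i hi => hz i (Or.inr hi)
  obtain ⟨P, hP, hPΦ, ⟨e⟩⟩ := (ampClass_flatOverRing (R := R) (A := A)).exists_rep M b
  exact (ampClass_flatOverRing (R := R) (A := A)).amp_of_opcycles e (a - 1) b hPΦ
    (flat_opcycles_of_torAmplitude _ P hPΦ
      (h'.of_iso ((DRing.restrictD (algebraMap R A)).mapIso e.symm)) (a - 1) (by omega))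
    fun i hi => hz i (Or.inl (by omega))

/-- Representatives by modules flat over `R` give tor amplitude over `R`. -/
theorem restrict_of_amp [Algebra R A] {a b : ℤ} (M : Dual.D A)
    (h : HasAmp (C := ModuleCat.{u} A)
      (fun N => Module.Flat R ((ModuleCat.restrictScalars (algebraMap R A)).obj N)) a b M) :
    DRing.HasTorAmplitudeIn R a b ((DRing.restrictD (algebraMap R A)).obj M) := by
  obtain ⟨P, h1, h2, hf, ⟨e⟩⟩ := h
  let G := ModuleCat.restrictScalars.{u} (algebraMap R A)
  refine ⟨(G.mapHomologicalComplex _).obj P, fun i hi => ?_, hf,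
    ⟨(G.mapDerivedCategoryFactors.app P).symm ≪≫ (DRing.restrictD (algebraMap R A)).mapIso e⟩⟩
  rcases hi with hi | hi
  · exact G.map_isZero (P.isZero_of_isStrictlyGE a i hi)
  · exact G.map_isZero (P.isZero_of_isStrictlyLE b i hi)

end Modules

end Groth.Agent.PerfD40
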