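import Groth.Agent.KFlatLib.Scheme.Adjoint
import Groth.Agent.KFlatLib.Scheme.Derived
import Groth.Agent.KFlatLib.Scheme.RpushRestrict
import Groth.Agent.KFlatLib.Scheme.GlueD
import Mathlib.CategoryTheory.Functor.Derived.PointwiseLeftDerived

/-!
# The adjunction between restriction to an open and derived direct image
-/

set_option linter.style.haveILetI false

universe u

open CategoryTheory CategoryTheory.Limits AlgebraicGeometry

attribute [local instance] HasDerivedCategory.standard

namespace Groth.Agent.PerfD40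

open Groth.Agent.KFlatLib

/-- Isomorphic additive functors give isomorphic functors of homotopy categories. -/
noncomputable def mapHtpyIso {A B : Scheme.{u}} {F G : A.Modules ⥤ B.Modules} [F.Additive]
    [G.Additive] (e : F ≅ G) :
    F.mapHomotopyCategory (ComplexShape.up ℤ) ≅ G.mapHomotopyCategory (ComplexShape.up ℤ) where
  hom := NatTrans.mapHomotopyCategory e.hom _
  inv := NatTrans.mapHomotopyCategory e.inv _
  hom_inv_id := by rw [← NatTrans.mapHomotopyCategory_comp, e.hom_inv_id,
    NatTrans.mapHomotopyCategory_id]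
  inv_hom_id := by rw [← NatTrans.mapHomotopyCategory_comp, e.inv_hom_id,
    NatTrans.mapHomotopyCategory_id]

variable {U X : Scheme.{u}} (j : U ⟶ X) [IsOpenImmersion j]

/-- Restriction to an open is the derived pullback along the open immersion. -/
lemma nonempty_restrictD_iso_lpull [DCoh.HasLpull j]
    [PreservesFiniteLimits (Scheme.Modules.restrictFunctor j)] :
    Nonempty (DCoh.restrictD j ≅ DCoh.Lpull j) := by
  let e := Scheme.Modules.restrictFunctorIsoPullback j
  let eh := mapHtpyIso e
  let W := HomotopyCategory.quasiIso X.Modules (ComplexShape.up ℤ)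
  let e' : DerivedCategory.Qh ⋙ DCoh.restrictD j ≅ DCoh.pullKh j :=
    (Scheme.Modules.restrictFunctor j).mapDerivedCategoryFactorsh ≪≫
      Functor.isoWhiskerRight eh DerivedCategory.Qh
  haveI : (DCoh.restrictD j).IsLeftDerivedFunctor e'.hom W :=
    CategoryTheory.Functor.isLeftDerivedFunctor_of_inverts W _ e'
  exact ⟨Functor.leftDerivedNatIso (DCoh.restrictD j) (DCoh.Lpull j) e'.hom
    ((DCoh.pullKh j).totalLeftDerivedCounit DerivedCategory.Qh W) W (Iso.refl _)⟩

/-- Restriction to an open is left adjoint to derived direct image. -/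
noncomputable def restrictRpushAdj [DCoh.HasRpush j]
    [PreservesFiniteLimits (Scheme.Modules.restrictFunctor j)] :
    DCoh.restrictD j ⊣ DCoh.Rpush j :=
  haveI := KFlatLib.hasLpull j
  (nonempty_lpull_rpush_adj j).some.ofNatIsoLeft (nonempty_restrictD_iso_lpull j).some.symm

/-- The identity functor on the homotopy category. -/
noncomputable def mapHtpyId (U : Scheme.{u}) :
    (𝟭 U.Modules).mapHomotopyCategory (ComplexShape.up ℤ) ≅
      𝟭 (HomotopyCategory U.Modules (ComplexShape.up ℤ)) :=
  Quotient.natIsoLift _ ((𝟭 U.Modules).mapHomotopyCategoryFactors _ ≪≫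
    Functor.isoWhiskerRight (Functor.mapHomologicalComplexIdIso U.Modules _)
      (HomotopyCategory.quotient _ _) ≪≫ Functor.leftUnitor _ ≪≫ (Functor.rightUnitor _).symm)

/-- The counit is an isomorphism: `(Rj_* F)|_U ≅ F`. -/
lemma nonempty_rpush_restrictD_self [DCoh.HasRpush j]
    [PreservesFiniteLimits (Scheme.Modules.restrictFunctor j)] :
    Nonempty (DCoh.Rpush j ⋙ DCoh.restrictD j ≅ 𝟭 (DCoh.D U)) := by
  haveI := TriCat.qh_isLeftAdjoint_of_exists_resolution (A := U.Modules) exists_kInjective_res
  let c := ComplexShape.up ℤ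
  let adjQ := Adjunction.ofIsLeftAdjoint (DerivedCategory.Qh (C := U.Modules))
  let ρ := (DerivedCategory.Qh (C := U.Modules)).rightAdjoint
  let W := HomotopyCategory.quasiIso U.Modules c
  haveI : (ρ ⋙ DCoh.pushKh j).IsRightDerivedFunctor
      (Functor.whiskerRight adjQ.unit (DCoh.pushKh j)) W :=
    TriCat.isRightDerivedFunctor_of_adjunction adjQ W (DCoh.pushKh j)
  let e : ρ ⋙ DCoh.pushKh j ≅ DCoh.Rpush j :=
    Functor.rightDerivedUnique _ _ (Functor.whiskerRight adjQ.unit (DCoh.pushKh j))
      ((DCoh.pushKh j).totalRightDerivedUnit DerivedCategory.Qh W) W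
  haveI : (ρ ⋙ DerivedCategory.Qh).IsRightDerivedFunctor
      (Functor.whiskerRight adjQ.unit DerivedCategory.Qh) W :=
    TriCat.isRightDerivedFunctor_of_adjunction adjQ W DerivedCategory.Qh
  haveI : (𝟭 (DCoh.D U)).IsRightDerivedFunctor (DerivedCategory.Qh.rightUnitor).inv W :=
    CategoryTheory.Functor.isRightDerivedFunctor_of_inverts W _ _
  let eQ : ρ ⋙ DerivedCategory.Qh ≅ 𝟭 (DCoh.D U) :=
    Functor.rightDerivedUnique _ _ (Functor.whiskerRight adjQ.unit DerivedCategory.Qh)
      (DerivedCategory.Qh.rightUnitor).inv W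
  let k : DCoh.pushKh j ⋙ DCoh.restrictD j ≅ DerivedCategory.Qh :=
    Functor.associator _ _ _ ≪≫
    Functor.isoWhiskerLeft _ (Scheme.Modules.restrictFunctor j).mapDerivedCategoryFactorsh ≪≫
    (Functor.associator _ _ _).symm ≪≫
    Functor.isoWhiskerRight (Functor.mapHomotopyCategoryCompIso
      (asIso (Scheme.Modules.restrictAdjunction j).counit) c ≪≫ mapHtpyId U) DerivedCategory.Qh ≪≫
    Functor.leftUnitor _
  exact ⟨(Functor.isoWhiskerRight e (DCoh.restrictD j)).symm ≪≫ Functor.associator _ _ _ ≪≫
    Functor.isoWhiskerLeft ρ k ≪≫ eQ⟩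

end Groth.Agent.PerfD40
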