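import Groth.Agent.DEqLib.Sib.ResProp
import Groth.Agent.Nrm34.GrCoh
import Groth.Agent.RefX.QCoh
import Groth.Agent.QCoh.ProperOver
import Groth.Agent.BunLib68.Bundle

/-!
# The resolution property gives affine diagonal
-/

set_option autoImplicit false
set_option linter.style.haveILetI false
set_option backward.isDefEq.respectTransparency false
set_option backward.isDefEq.respectTransparency.types false

universe u

open CategoryTheory CategoryTheory.Limits AlgebraicGeometry TopologicalSpace Opposite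

noncomputable section

namespace Groth.Agent.PerfD40.AffDiag

variable {X : Scheme.{u}}

/-- A bundle mapping onto the functions vanishing off a given affine open. -/
theorem exists_bundle_cutting [CompactSpace X] [QuasiSeparatedSpace X] (hX : PerfAux.HasResolutionProperty X)
    {U : X.Opens} (hU : IsAffineOpen U) :
    ∃ (E : X.Modules) (p : E ⟶ Coh.structureModule X), FlatMod.IsFinLocFree E ∧
      (∃ e : Γ(E, U), p.app U e = (show Γ(Coh.structureModule X, U) from (1 : Γ(X, U)))) ∧
      ∀ (W : X.Opens) (s : Γ(E, W)), X.basicOpen (show Γ(X, W) from p.app W s) ≤ U := by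
  let Z : Closeds X := ⟨(U : Set X)ᶜ, U.isOpen.isClosed_compl⟩
  let I := Scheme.IdealSheafData.vanishingIdeal Z
  have hrange : Set.range I.subschemeι = (U : Set X)ᶜ := QCoh.range_vanishing Z.isClosed
  have hZ : ∀ z : I.subscheme, I.subschemeι z ∉ U := fun z =>
    (hrange ▸ Set.mem_range_self z : I.subschemeι z ∈ (U : Set X)ᶜ)
  haveI : Subsingleton Γ(I.subscheme, I.subschemeι ⁻¹ᵁ U) := by
    rw [show I.subschemeι ⁻¹ᵁ U = ⊥ from le_bot_iff.1 fun z hz => hZ z hz]
    infer_instance
  obtain ⟨k, hk⟩ := OmegaLib.exists_idealSect_eq I U 1 (Subsingleton.elim _ _)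
  obtain ⟨E, π, hE, hπ⟩ := DEqLib.Sib.ResProp.exists_sections hX (Nrm34.isQCoh_idealMod I) hU
    (Set.finite_singleton k)
  obtain ⟨e, he⟩ := hπ k rfl
  refine ⟨E, π ≫ ClSub.idealModι I, hE, ⟨e, ?_⟩, fun W s x hx => ?_⟩
  · show (ClSub.idealModι I).app U (π.app U e) = _
    rw [he]
    exact hk
  · by_contra hxU
    have hxr : x ∈ Set.range I.subschemeι := by
      rw [hrange]
      exact hxU
    obtain ⟨z, rfl⟩ := hxr
    have hz : z ∈ I.subschemeι ⁻¹ᵁ X.basicOpen (OmegaSh.idealSect I W (π.app W s)) := hx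
    rw [Scheme.preimage_basicOpen, OmegaLib.subschemeι_app_idealSect, Scheme.basicOpen_zero] at hz
    exact hz

/-- The intersection of an affine open with another one is affine. -/
theorem isAffineOpen_inf [CompactSpace X] [QuasiSeparatedSpace X] (hX : PerfAux.HasResolutionProperty X)
    {U V : X.Opens} (hU : IsAffineOpen U) (hV : IsAffineOpen V) : IsAffineOpen (U ⊓ V) := by
  obtain ⟨E, p, hE, ⟨e, he⟩, hp⟩ := exists_bundle_cutting hX hU
  obtain ⟨hEf, hEp⟩ := QCoh.isFlat_and_isFP_iff.2 hE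
  have hEq := QCoh.isQCoh_of_isFinLocFree hE
  let O := Coh.structureModule X
  haveI := (QCoh.isFP_iff hEq).1 hEp ⟨V, hV⟩
  haveI := (QCoh.isFlat_iff hEq).1 hEf ⟨V, hV⟩
  haveI : Module.Projective Γ(X, V) Γ(E, V) := Module.Flat.projective_of_finitePresentation
  obtain ⟨n, q, hq⟩ := Module.Finite.exists_fin' Γ(X, V) Γ(E, V)
  obtain ⟨s, hs⟩ := Module.projective_lifting_property q LinearMap.id hq
  let b : Fin n → Γ(E, V) := fun i => q (Pi.single i 1)
  have hb : ∀ m, m = ∑ i, s m i • b i := fun m => by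
    have h1 : q (s m) = m := LinearMap.congr_fun hs m
    conv_lhs => rw [← h1, pi_eq_sum_univ' (s m), map_sum]
    simp [b]
  let φ : Fin n → (Γ(E, V) →ₗ[Γ(X, V)] Γ(X, V)) := fun i => (LinearMap.proj i) ∘ₗ s
  have hθ : ∀ i, ∃ θ : Γ(RefHull.dual E, V), ∀ m, RefX.app le_rfl θ m = (show Γ(O, V) from φ i m) := fun i => by
    have hsm : ∀ (r : Γ(X, V)) (m : Γ(E, V)), (show Γ(O, V) from φ i (r • m)) =
        AModX.resR (le_refl V) r • (show Γ(O, V) from φ i m) := fun r m => by
      rw [AModX.resR_self]; exact map_smul (φ i) r m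
    let θ' : letI := RefX.resModule O (le_refl V); Γ(E, V) →ₗ[Γ(X, V)] Γ(O, V) :=
      letI := RefX.resModule O (le_refl V)
      { toFun := fun m => (show Γ(O, V) from φ i m)
        map_add' := map_add (φ i)
        map_smul' := hsm }
    refine ⟨RefX.ofLin hEq hV le_rfl θ', fun m => ZClosLib.section_ext O _ _ fun y hy => ?_⟩
    rw [RefX.germ_app]
    exact RefX.ofLin_germ hEq hV le_rfl θ' hy m
  choose θ hθ using hθ
  let W := U ⊓ V
  have hWV : W ≤ V := inf_le_right
  let f : Fin n → Γ(X, V) := fun i => p.app V (b i)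
  let g : Fin n → Γ(X, W) := fun i => RefX.app hWV (θ i) (AModX.res E (inf_le_left : W ≤ U) e)
  have key : ∀ (T : X.Opens) (hT : T ≤ V) (z : Γ(E, T)), (show Γ(X, T) from p.app T z) =
      ∑ i, (show Γ(X, T) from RefX.app hT (θ i) z) * AModX.resR hT (f i) := by
    intro T hT z
    show (show Γ(O, T) from p.app T z) = (show Γ(O, T) from _)
    refine AModX.eq_of_locally _ _ fun x hx => ?_
    obtain ⟨a, ha, hxa⟩ := hV.exists_basicOpen_le (V := T) ⟨x, hx⟩ (hT hx)
    refine ⟨X.basicOpen a, ha, hxa, ?_⟩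
    let D := X.basicOpen a
    have hD : D ≤ V := X.basicOpen_le a
    obtain ⟨N, m, hm⟩ := QCoh.exists_pow_smul_eq_map hEq hV a (AModX.res E ha z)
    have hu : IsUnit (AModX.resR hD a ^ N) := (QCoh.isUnit_rf_basicOpen a).pow N
    rw [← AModX.app_res]
    refine hu.smul_left_cancel.1 ?_
    rw [← Scheme.Modules.Hom.app_smul]
    change p.app D (AModX.resR hD a ^ N • AModX.res E ha z) = _
    have hm' : AModX.res E hD m = AModX.resR hD a ^ N • AModX.res E ha z := hm
    rw [← hm', AModX.app_res]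
    have h1 : (show Γ(X, V) from p.app V m) = ∑ i, φ i m * f i := by
      conv_lhs => rw [hb m]
      rw [map_sum]
      exact Finset.sum_congr rfl fun i _ => Scheme.Modules.Hom.app_smul p _ _
    have h2 : ∀ i, (show Γ(X, D) from RefX.app hD (θ i) (AModX.res E hD m)) = AModX.resR hD (φ i m) := fun i => by
      rw [← RefX.res_app le_rfl hD, hθ]
      rfl
    show AModX.resR hD (show Γ(X, V) from p.app V m) = AModX.resR hD a ^ N *
      AModX.resR ha (∑ i, (show Γ(X, T) from RefX.app hT (θ i) z) * AModX.resR hT (f i))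
    rw [h1, map_sum, map_sum, Finset.mul_sum]
    refine Finset.sum_congr rfl fun i _ => ?_
    rw [map_mul, map_mul, ← h2, hm', RefX.app_smul, ← mul_assoc, AModX.resR_resR]
    show AModX.resR hD a ^ N * _ * _ = _
    congr 2
    exact (RefX.res_app hT ha (θ i) z).symm
  have hone : (1 : Γ(X, W)) = ∑ i, g i * AModX.resR hWV (f i) := by
    refine Eq.trans ?_ (key W hWV (AModX.res E (inf_le_left : W ≤ U) e))
    show (show Γ(O, W) from (1 : Γ(X, W))) = p.app W (AModX.res E _ e)
    refine Eq.trans ?_ (AModX.app_res p (inf_le_left : W ≤ U) e).symm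
    rw [he]
    exact (map_one (AModX.resR (inf_le_left : W ≤ U))).symm
  let ψ := AModX.resR hWV
  have hbo : ∀ i, X.basicOpen (ψ (f i)) = X.basicOpen (f i) := fun i => by
    refine (Scheme.basicOpen_res X (f i) (homOfLE hWV).op).trans (inf_eq_right.2 ?_)
    exact le_inf (hp V (b i)) (X.basicOpen_le _)
  show IsAffine (W : Scheme.{u})
  refine isAffine_of_isAffineOpen_basicOpen (Set.range fun i => W.topIso.inv (ψ (f i))) ?_ ?_
  · rw [Ideal.eq_top_iff_one, show (1 : Γ(W, ⊤)) = W.topIso.inv 1 from (map_one _).symm, hone, map_sum]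
    exact Submodule.sum_mem _ fun i _ => by
      rw [map_mul]; exact Ideal.mul_mem_left _ _ (Ideal.subset_span ⟨i, rfl⟩)
  · rintro _ ⟨i, rfl⟩
    rw [← W.ι.isAffineOpen_iff_of_isOpenImmersion, Scheme.image_basicOpen, W.ι_appIso]
    simp only [Scheme.Opens.topIso, Functor.mapIso_inv, Iso.refl_inv]
    change IsAffineOpen (X.basicOpen (X.presheaf.map _ (ψ (f i))))
    rw [Scheme.basicOpen_res_eq]
    rw [hbo]
    exact hV.basicOpen (f i)

end Groth.Agent.PerfD40.AffDiag
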