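import Groth.Agent.KFlatLib.Scheme.DQCohSections
import Groth.Agent.KFlatLib.Scheme.RGammaPush
import Groth.Agent.KFlatLib.Scheme.TildeD
import Groth.Agent.KFlatLib.Scheme.RestrictHom
import Groth.Agent.H9Misc.FinDimDerived

/-!
# Isomorphisms of `D(X)` are detected by sections over affine opens
-/

set_option linter.style.haveILetI false

universe u

open CategoryTheory CategoryTheory.Limits AlgebraicGeometry Pretriangulated

attribute [local instance] HasDerivedCategory.standard

namespace Groth.Agent.PerfD40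

open Groth.Agent.KFlatLib

variable {X : Scheme.{u}}

/-- Sections over an open, through its scheme. -/
noncomputable abbrev secAb (V : X.Opens) : X.Modules ⥤ AddCommGrpCat.{u} :=
  Scheme.Modules.restrictFunctor V.ι ⋙ DCoh.gammaAb (V : Scheme.{u})

/-- A short complex which is exact on sections over all affine opens is exact. -/
lemma exact_of_exact_secAb (S : ShortComplex X.Modules)
    (h : ∀ V : X.Opens, IsAffineOpen V → (S.map (secAb V)).Exact) : S.Exact := by
  rw [S.exact_iff_epi_toCycles]
  apply Preadditive.epi_of_cancel_zero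
  intro Z q hq
  refine eq_zero_of_secObj q fun V hV s => ?_
  let x : Γ(S.X₂, V.ι ''ᵁ ⊤) := secEquiv V S.X₂ (s ≫ S.iCycles)
  have hx : S.g.app (V.ι ''ᵁ ⊤) x = 0 := by
    rw [← secEquiv_naturality, Category.assoc, S.iCycles_g, comp_zero]
    exact secEquiv_zero V _
  obtain ⟨y, hy⟩ := ((S.map (secAb V)).ab_exact_iff).1 (h V hV) x hx
  obtain ⟨t, rfl⟩ := (secEquiv V S.X₁).surjective y
  have ht : t ≫ S.toCycles = s := by
    apply (cancel_mono S.iCycles).1
    rw [Category.assoc, S.toCycles_i]
    apply (secEquiv V S.X₂).injective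
    exact (secEquiv_naturality V t S.f).trans hy
  rw [← ht, Category.assoc, hq, comp_zero]

/-- A map of K-injective complexes which is a quasi-isomorphism on sections over affine opens is a
quasi-isomorphism. -/
lemma isIso_Q_map_of_secAb {I J : CochainComplex X.Modules ℤ} (g : I ⟶ J)
    (h : ∀ V : X.Opens, IsAffineOpen V →
      IsIso (DerivedCategory.Q.map (((secAb V).mapHomologicalComplex (ComplexShape.up ℤ)).map g))) :
    IsIso (DerivedCategory.Q.map g) := by
  refine (Triangle.isZero₃_iff_isIso₁ _ (DerivedCategory.mappingCone_triangle_distinguished g)).1 ?_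
  refine (H9Misc.FinDimDerived.isZero_Q_obj_iff _).2 fun i => exact_of_exact_secAb _ fun V hV => ?_
  have hz := (Triangle.isZero₃_iff_isIso₁ _ (DerivedCategory.mappingCone_triangle_distinguished
    (((secAb V).mapHomologicalComplex (ComplexShape.up ℤ)).map g))).2 (h V hV)
  have hac := (H9Misc.FinDimDerived.isZero_Q_obj_iff _).1
    (hz.of_iso (DerivedCategory.Q.mapIso (CochainComplex.mappingCone.mapHomologicalComplexIso g (secAb V))))
  exact hac i

/-- An object of `D(X)` morphism inverted by `RΓ` over every affine open is an isomorphism. -/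
theorem isIso_of_isIso_RΓ_restrict [∀ U : X.Opens, DCoh.HasRΓ (U : Scheme.{u})] {G₁ G₂ : DCoh.D X}
    (φ : G₁ ⟶ G₂)
    (h : ∀ U : X.Opens, IsAffineOpen U →
      IsIso ((DCoh.RΓ (U : Scheme.{u})).map ((DCoh.restrictD U.ι).map φ))) : IsIso φ := by
  obtain ⟨I, s, hI, hs⟩ := exists_kInjective_res (DerivedCategory.Q.objPreimage G₁)
  obtain ⟨J, t, hJ, ht⟩ := exists_kInjective_res (DerivedCategory.Q.objPreimage G₂)
  haveI := hs; haveI := ht
  let eI : DerivedCategory.Q.obj I ≅ G₁ :=
    (asIso (DerivedCategory.Q.map s)).symm ≪≫ DerivedCategory.Q.objObjPreimageIso G₁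
  let eJ : DerivedCategory.Q.obj J ≅ G₂ :=
    (asIso (DerivedCategory.Q.map t)).symm ≪≫ DerivedCategory.Q.objObjPreimageIso G₂
  obtain ⟨g, hg⟩ := exists_Q_map (eI.hom ≫ φ ≫ eJ.inv)
  have hφ : φ = eI.inv ≫ DerivedCategory.Q.map g ≫ eJ.hom := by rw [hg]; simp
  suffices IsIso (DerivedCategory.Q.map g) by rw [hφ]; infer_instance
  refine isIso_Q_map_of_secAb g fun V hV => ?_
  let c := ComplexShape.up ℤ
  let R := Scheme.Modules.restrictFunctor V.ι
  let W := HomotopyCategory.quasiIso (V : Scheme.{u}).Modules c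
  let α := (DCoh.gammaKh (V : Scheme.{u})).totalRightDerivedUnit DerivedCategory.Qh W
  let q := HomotopyCategory.quotient (V : Scheme.{u}).Modules c
  haveI := isKInjective_rCx V.ι I
  haveI := isKInjective_rCx V.ι J
  let a := q.map ((rCx V.ι).map g)
  haveI h₁ : IsIso ((DCoh.RΓ (V : Scheme.{u})).map (DerivedCategory.Qh.map a)) := by
    have h0 : IsIso ((DCoh.RΓ (V : Scheme.{u})).map ((DCoh.restrictD V.ι).map
        (DerivedCategory.Q.map g))) := by
      rw [hg, Functor.map_comp, Functor.map_comp, Functor.map_comp, Functor.map_comp]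
      haveI := h V hV
      infer_instance
    exact (NatIso.isIso_map_iff
      (Functor.isoWhiskerRight (R.mapDerivedCategoryFactors ≪≫
        Functor.isoWhiskerLeft (rCx V.ι) (DerivedCategory.quotientCompQhIso _).symm)
        (DCoh.RΓ (V : Scheme.{u}))) g).1 h0
  haveI hu₁ : IsIso (α.app (q.obj ((rCx V.ι).obj I))) :=
    isIso_rightDerivedUnit_of_kInjective (DCoh.gammaKh (V : Scheme.{u})) ((rCx V.ι).obj I)
  haveI hu₂ : IsIso (α.app (q.obj ((rCx V.ι).obj J))) :=
    isIso_rightDerivedUnit_of_kInjective (DCoh.gammaKh (V : Scheme.{u})) ((rCx V.ι).obj J)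
  have h₂ : IsIso ((DCoh.gammaKh (V : Scheme.{u})).map a) := by
    have hn := α.naturality a
    haveI : IsIso ((DCoh.gammaKh (V : Scheme.{u})).map a ≫ α.app (q.obj ((rCx V.ι).obj J))) := by
      erw [hn]
      exact @IsIso.comp_isIso _ _ _ _ _ _ _ hu₁ h₁
    exact IsIso.of_isIso_comp_right _ (α.app (q.obj ((rCx V.ι).obj J)))
  exact (NatIso.isIso_map_iff
    (Functor.isoWhiskerLeft (rCx V.ι) (Functor.isoWhiskerRight
        ((DCoh.gammaAb (V : Scheme.{u})).mapHomotopyCategoryFactors c) DerivedCategory.Qh ≪≫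
      Functor.associator _ _ _ ≪≫
      Functor.isoWhiskerLeft _ (DerivedCategory.quotientCompQhIso AddCommGrpCat.{u})) ≪≫
      Functor.isoWhiskerRight (Functor.mapHomologicalComplexCompIso (Iso.refl (secAb V)) c)
        DerivedCategory.Q) g).1 h₂

end Groth.Agent.PerfD40
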