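import Groth.Agent.KFlatLib.Perfect.Tri
import Mathlib.CategoryTheory.Triangulated.Pretriangulated

/-!
# Cohomological approximations and distinguished triangles
-/

set_option linter.style.haveILetI false

universe v u

open CategoryTheory CategoryTheory.Limits Pretriangulated

attribute [local instance] HasDerivedCategory.standard

namespace Groth.Agent.PerfD40

open Groth.Agent.KFlatLib

variable {C : Type*} [Category C] [Abelian C]

/-- An approximation is a map whose cone is acyclic in high degrees. -/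
theorem isPcMap_iff_obj₃ (m : ℤ) {T : Triangle (DerivedCategory C)} (hT : T ∈ distTriang _) :
    IsPcMap m T.mor₁ ↔ ∀ i, m ≤ i → IsZero ((DerivedCategory.homologyFunctor C i).obj T.obj₃) := by
  let H := DerivedCategory.homologyFunctor C
  constructor
  · intro h i hi
    haveI : Epi ((H i).map T.mor₁) := (h.mono hi).2
    haveI : Mono ((H (i + 1)).map T.mor₁) := by
      haveI := h.1 (i + 1) (by omega)
      infer_instance
    exact (DerivedCategory.HomologySequence.exact₃ T hT i (i + 1) rfl).isZero_X₂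
      ((DerivedCategory.HomologySequence.epi_homologyMap_mor₁_iff T hT i).1 inferInstance)
      ((DerivedCategory.HomologySequence.mono_homologyMap_mor₁_iff T hT i (i + 1) rfl).1
        inferInstance)
  · intro hz
    have he : ∀ i, m ≤ i → Epi ((H i).map T.mor₁) := fun i hi =>
      (DerivedCategory.HomologySequence.epi_homologyMap_mor₁_iff T hT i).2 ((hz i hi).eq_of_tgt _ _)
    refine ⟨fun i hi => ?_, he m le_rfl⟩
    haveI := he i hi.le
    haveI : Mono ((H i).map T.mor₁) :=
      (DerivedCategory.HomologySequence.mono_homologyMap_mor₁_iff T hT (i - 1) i (by omega)).2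
        ((hz (i - 1) (by omega)).eq_of_src _ _)
    exact isIso_of_mono_of_epi _

/-- An approximation of the cone gives one of the middle term. -/
theorem exists_fibre_pcMap {K N N' P' : DerivedCategory C} {f : K ⟶ N} {g : N ⟶ N'}
    {h : N' ⟶ K⟦(1 : ℤ)⟧} (hT : Triangle.mk f g h ∈ distTriang _) {m : ℤ} (α' : P' ⟶ N')
    (hα' : IsPcMap m α') :
    ∃ (P : DerivedCategory C) (f' : K ⟶ P) (g' : P ⟶ P') (h' : P' ⟶ K⟦(1 : ℤ)⟧) (α : P ⟶ N),
      Triangle.mk f' g' h' ∈ distTriang _ ∧ f' ≫ α = f ∧ IsPcMap m α := by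
  obtain ⟨P, f', g', hS⟩ := distinguished_cocone_triangle₂ (α' ≫ h)
  let S := Triangle.mk f' g' (α' ≫ h)
  obtain ⟨α, hα₁, hα₂⟩ := complete_distinguished_triangle_morphism₂ S (Triangle.mk f g h) hS hT
    (𝟙 K) α' (show (α' ≫ h) ≫ (shiftFunctor (DerivedCategory C) (1 : ℤ)).map (𝟙 K) = α' ≫ h by
      rw [CategoryTheory.Functor.map_id, Category.comp_id])
  let φ : S ⟶ Triangle.mk f g h :=
    { hom₁ := 𝟙 _
      hom₂ := α
      hom₃ := α'
      comm₁ := hα₁
      comm₂ := hα₂
      comm₃ := show (α' ≫ h) ≫ (shiftFunctor (DerivedCategory C) (1 : ℤ)).map (𝟙 K) = α' ≫ h by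
        rw [CategoryTheory.Functor.map_id, Category.comp_id] }
  refine ⟨P, f', g', α' ≫ h, α, hS, hα₁.trans (Category.id_comp f), ?_⟩
  have h1 := hα'.shift (-1)
  rw [show m - -1 = m + 1 by omega] at h1
  exact isPcMap_hom₃ (inv_rot_of_distTriang _ hS) (inv_rot_of_distTriang _ hT)
    ((invRotate _).map φ) h1 (isPcMap_of_isIso m (𝟙 K))

/-- Zero maps between objects without high cohomology are approximations. -/
theorem isPcMap_zero {m : ℤ} {A B : DerivedCategory C}
    (hA : ∀ i, m < i → IsZero ((DerivedCategory.homologyFunctor C i).obj A))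
    (hB : ∀ i, m ≤ i → IsZero ((DerivedCategory.homologyFunctor C i).obj B)) :
    IsPcMap m (0 : A ⟶ B) :=
  ⟨fun i hi => ⟨0, (hA i hi).eq_of_src _ _, (hB i hi.le).eq_of_src _ _⟩,
    ⟨fun a b _ => (hB m le_rfl).eq_of_src a b⟩⟩

/-- A projection off a summand without high cohomology is an approximation. -/
theorem isPcMap_biprod_fst {m : ℤ} (P Q : DerivedCategory C) [HasBinaryBiproduct P Q]
    (hQ : ∀ i, m ≤ i → IsZero ((DerivedCategory.homologyFunctor C i).obj Q)) :
    IsPcMap m (biprod.fst : P ⊞ Q ⟶ P) := by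
  let H := DerivedCategory.homologyFunctor C
  have hiso : ∀ i, m ≤ i → IsIso ((H i).map (biprod.fst : P ⊞ Q ⟶ P)) := fun i hi => by
    refine ⟨(H i).map biprod.inl, ?_, ?_⟩
    · rw [← Functor.map_comp, eq_sub_of_add_eq (biprod.total (X := P) (Y := Q)), Functor.map_sub,
        Functor.map_comp, (hQ i hi).eq_of_tgt ((H i).map (biprod.snd : P ⊞ Q ⟶ Q)) 0, zero_comp,
        sub_zero, CategoryTheory.Functor.map_id]
    · rw [← Functor.map_comp, biprod.inl_fst, CategoryTheory.Functor.map_id]
  haveI := hiso m le_rfl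
  exact ⟨fun i hi => hiso i hi.le, inferInstance⟩

end Groth.Agent.PerfD40
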