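import Groth.Agent.PerfD40.AmpMore
import Groth.Agent.PerfD40.PCTri

/-!
# Bounded models read off from an approximation
-/

set_option linter.style.haveILetI false
set_option backward.isDefEq.respectTransparency false

universe v u

open CategoryTheory CategoryTheory.Limits CategoryTheory.Pretriangulated CochainComplex

attribute [local instance] HasDerivedCategory.standard

namespace Groth.Agent.PerfD40

open Groth.Agent.KFlatLib

variable {C : Type u} [Category.{v} C] [Abelian C] {Φ : C → Prop}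

/-- If `P` approximates `K` deep below the amplitude of `K`, then a truncation of `P` represents
`K`: there is a complex isomorphic to `K` whose terms in degrees `> n` are those of `P`, whose
term in degree `n` is the cokernel of `P` there, and all of them lie in `Φ`. -/
theorem AmpClass.exists_model_of_isPcMap (hΦ : AmpClass Φ) {P : CochainComplex C ℤ}
    {K : DerivedCategory C} {m a b n : ℤ} [P.IsStrictlyLE b] (hP : ∀ i, Φ (P.X i))
    (α : DerivedCategory.Q.obj P ⟶ K) (hα : IsPcMap m α) (hK : HasAmp Φ a b K)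
    (hmn : m + 1 ≤ n) (hna : n < a) (hmb : m ≤ b) :
    ∃ G : CochainComplex C ℤ, G.IsStrictlyGE n ∧ G.IsStrictlyLE b ∧ (∀ i, Φ (G.X i)) ∧
      Nonempty (G.X n ≅ P.opcycles n) ∧ (∀ i, n < i → Nonempty (G.X i ≅ P.X i)) ∧
      Nonempty (DerivedCategory.Q.obj G ≅ K) := by
  obtain ⟨D, u, δ, hT⟩ := distinguished_cocone_triangle α
  have hD := (isPcMap_iff_obj₃ m hT).1 hα
  haveI : D.IsLE (m - 1) := (DerivedCategory.isLE_iff D (m - 1)).2 fun i hi => hD i (by omega)
  obtain ⟨Rc, hRc, -, ⟨eD⟩⟩ := hΦ.exists_rep D (m - 1)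
  haveI := Rc.isStrictlyLE_shift (m - 1) (-1) m (by omega)
  let T' := (Triangle.mk α u δ).invRotate
  have hT' : T' ∈ distTriang _ := inv_rot_of_distTriang _ hT
  let e₁ : DerivedCategory.Q.obj (Rc⟦(-1 : ℤ)⟧) ≅ T'.obj₁ :=
    (DerivedCategory.Q.commShiftIso (-1 : ℤ)).app Rc ≪≫ (CategoryTheory.shiftFunctor _ (-1 : ℤ)).mapIso eD
  obtain ⟨X', hX', s, hs, g, hg⟩ :=
    DerivedCategory.right_fac_of_isStrictlyLE (e₁.hom ≫ T'.mor₁) m
  obtain ⟨R, ρ, hρ, hR, hRΦ⟩ := hΦ.resolve X' m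
  haveI := hρ
  haveI := hs
  let h : R ⟶ P := ρ ≫ g
  let j₁ : DerivedCategory.Q.obj R ≅ T'.obj₁ :=
    asIso (DerivedCategory.Q.map ρ) ≪≫ asIso (DerivedCategory.Q.map s) ≪≫ e₁
  let Y := mappingCone h
  haveI := R.isStrictlyLE_of_le m b hmb
  haveI := isStrictlyLE_cone h b
  have hg' : DerivedCategory.Q.map g = DerivedCategory.Q.map s ≫ e₁.hom ≫ T'.mor₁ := by
    rw [hg, IsIso.hom_inv_id_assoc]
  have comm : DerivedCategory.Q.map h ≫ (Iso.refl (DerivedCategory.Q.obj P)).hom =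
      j₁.hom ≫ T'.mor₁ := by
    simp [h, j₁, hg']
  let eY : DerivedCategory.Q.obj Y ≅ K :=
    Triangle.π₃.mapIso (isoTriangleOfIso₁₂ _ T'
      (DerivedCategory.mappingCone_triangle_distinguished h) hT' j₁ (Iso.refl _) comm)
  have hinr : ∀ i, m ≤ i → IsIso ((mappingCone.inr h).f i) := fun i hi =>
    ⟨(mappingCone.snd h).v i i (add_zero i), by simp, by
      have : (mappingCone.inl h).v (i + 1) i (by omega) = 0 :=
        (R.isZero_of_isStrictlyLE m (i + 1) (by omega)).eq_of_src _ _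
      exact ((add_eq_right.2 (by rw [this, comp_zero])).symm.trans
        (mappingCone.id_X h i (i + 1) rfl))⟩
  let φ := (HomologicalComplex.shortComplexFunctor C (ComplexShape.up ℤ) n).map (mappingCone.inr h)
  haveI : IsIso φ.τ₂ := hinr n (by omega)
  haveI : Epi φ.τ₁ := by
    haveI : IsIso φ.τ₁ := hinr _ (by simp; omega)
    infer_instance
  haveI hio : IsIso (ShortComplex.opcyclesMap φ) := inferInstance
  let eo : Y.opcycles n ≅ P.opcycles n := (@asIso _ _ _ _ (ShortComplex.opcyclesMap φ) hio).symm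
  have hYΦ : ∀ i, Φ (Y.X i) := hΦ.cone_X h hRΦ hP
  have hY : Φ (Y.opcycles n) := hΦ.opcycles_rep hYΦ (hK.of_iso eY.symm) n hna
  haveI := isIso_Q_πTruncGE Y n fun i hi =>
    (hK.isZero_homology i (Or.inl (by omega))).of_iso
      ((DerivedCategory.homologyFunctor C i).mapIso eY)
  refine ⟨Y.truncGE n, inferInstance, isStrictlyLE_truncGE' Y n b, hΦ.truncGE_X hYΦ hY,
    ⟨Y.truncGEXIsoOpcycles n ≪≫ eo⟩, fun i hi => ⟨?_⟩,
    ⟨(asIso (DerivedCategory.Q.map (Y.πTruncGE n))).symm ≪≫ eY⟩⟩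
  exact Y.truncGEXIso n i hi ≪≫ (@asIso _ _ _ _ ((mappingCone.inr h).f i) (hinr i (by omega))).symm

end Groth.Agent.PerfD40
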