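import Mathlib.Algebra.Homology.DerivedCategory.Fractions
import Mathlib.Algebra.Homology.DerivedCategory.TStructure
import Mathlib.Algebra.Homology.HomologySequence
import Mathlib.Algebra.Homology.HomotopyCategory.DegreewiseSplit
import Mathlib.Algebra.Homology.Embedding.CochainComplex
import Mathlib.Algebra.Homology.HomotopyCategory.ShiftSequence

/-!
# Amplitude with respect to a class of objects closed under kernels of epimorphisms

`Φ` is a class of objects of an abelian category closed under extensions, kernels of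
epimorphisms and summands, such that bounded above complexes admit resolutions by complexes with
terms in `Φ`. Objects of the derived category represented by bounded complexes with terms in `Φ`
are closed under cones, extensions and retracts.
-/

set_option linter.style.haveILetI false

universe w v u

open CategoryTheory CategoryTheory.Limits CategoryTheory.Pretriangulated ZeroObject

namespace Groth.Agent.PerfD40

variable {C : Type u} [Category.{v} C] [Abelian C]

/-- A class of objects behaving like the flat ones. -/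
structure AmpClass (Φ : C → Prop) : Prop where
  of_iso : ∀ {X Y : C}, (X ≅ Y) → Φ X → Φ Y
  of_isZero : ∀ {X : C}, IsZero X → Φ X
  ext : ∀ {S : ShortComplex C}, S.ShortExact → Φ S.X₁ → Φ S.X₃ → Φ S.X₂
  ker : ∀ {S : ShortComplex C}, S.ShortExact → Φ S.X₂ → Φ S.X₃ → Φ S.X₁
  summand : ∀ {X Y : C} (i : X ⟶ Y) (r : Y ⟶ X), i ≫ r = 𝟙 X → Φ Y → Φ X
  resolve : ∀ (K : CochainComplex C ℤ) (b : ℤ) [K.IsLE b],
    ∃ (R : CochainComplex C ℤ) (ρ : R ⟶ K), QuasiIso ρ ∧ R.IsStrictlyLE b ∧ ∀ n, Φ (R.X n)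

variable {Φ : C → Prop}

lemma mono_fromOpcycles' (K : CochainComplex C ℤ) (i j : ℤ) (hij : i + 1 = j)
    (h : IsZero (K.homology i)) : Mono (K.fromOpcycles i j) := by
  refine Preadditive.mono_of_cancel_zero _ fun {A} z hz => ?_
  obtain ⟨l, hl⟩ := KernelFork.IsLimit.lift'
    (K.homologyIsKernel i j (by simp [hij])) z hz
  rw [← hl, h.eq_of_tgt l 0]
  exact zero_comp

lemma isZero_opcycles_of_isZero_X (K : CochainComplex C ℤ) (n : ℤ) (h : IsZero (K.X n)) :
    IsZero (K.opcycles n) := by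
  rw [IsZero.iff_id_eq_zero, ← cancel_epi (K.pOpcycles n)]
  exact h.eq_of_src _ _

/-- The opcycles of an acyclic bounded above complex with terms in `Φ` are in `Φ`. -/
lemma AmpClass.opcycles_of_acyclic (hΦ : AmpClass Φ) (E : CochainComplex C ℤ) (b : ℤ)
    [E.IsStrictlyLE b] (hE : ∀ n, Φ (E.X n)) (hac : ∀ n, IsZero (E.homology n)) (n : ℤ) :
    Φ (E.opcycles n) := by
  suffices ∀ (k : ℕ) (n : ℤ), b < n + k → Φ (E.opcycles n) from
    this (b + 1 - n).toNat n (by omega)
  intro k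
  induction k with
  | zero =>
    intro n hn
    exact hΦ.of_isZero (isZero_opcycles_of_isZero_X E n (E.isZero_of_isStrictlyLE b n (by omega)))
  | succ k ih =>
    intro n hn
    haveI := mono_fromOpcycles' E n (n + 1) rfl (hac n)
    let S := ShortComplex.mk (E.fromOpcycles n (n + 1)) (E.pOpcycles (n + 1))
      (by rw [← cancel_epi (E.pOpcycles n)]; simp)
    have hS : S.Exact := S.exact_of_g_is_cokernel (CokernelCofork.IsColimit.ofπ' _ _ fun {A} l hl =>
      ⟨E.descOpcycles l n (by simp) (by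
          rw [← E.p_fromOpcycles n (n + 1), Category.assoc]
          exact (E.pOpcycles n ≫= hl).trans comp_zero),
        E.p_descOpcycles _ _ _ _⟩)
    exact hΦ.ker (ShortComplex.ShortExact.mk' hS ‹_› inferInstance) (hE _)
      (ih (n + 1) (by omega))

section Cone

open CochainComplex

variable {R Y : CochainComplex C ℤ} (g : R ⟶ Y)

lemma triangleRotate_shortExact :
    (mappingCone.triangleRotateShortComplex g).ShortExact :=
  HomologicalComplex.shortExact_of_degreewise_shortExact _ fun n =>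
    (mappingCone.triangleRotateShortComplexSplitting g n).shortExact

lemma AmpClass.cone_X (hΦ : AmpClass Φ) (hR : ∀ n, Φ (R.X n)) (hY : ∀ n, Φ (Y.X n)) (n : ℤ) :
    Φ ((mappingCone g).X n) :=
  hΦ.ext (mappingCone.triangleRotateShortComplexSplitting g n).shortExact (hY n) (hR (n + 1))

lemma isStrictlyLE_cone (b : ℤ) [R.IsStrictlyLE b] [Y.IsStrictlyLE b] :
    (mappingCone g).IsStrictlyLE b :=
  (isStrictlyLE_iff _ _).2 fun i hi => (mappingCone.isZero_X_iff g i).2
    ⟨R.isZero_of_isStrictlyLE b _ (by omega), Y.isZero_of_isStrictlyLE b _ hi⟩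

lemma isStrictlyGE_cone (a : ℤ) [R.IsStrictlyGE a] [Y.IsStrictlyGE a] :
    (mappingCone g).IsStrictlyGE (a - 1) :=
  (isStrictlyGE_iff _ _).2 fun i hi => (mappingCone.isZero_X_iff g i).2
    ⟨R.isZero_of_isStrictlyGE a _ (by omega), Y.isZero_of_isStrictlyGE a _ (by omega)⟩

variable [HasDerivedCategory.{w} C]

lemma isZero_homology_cone [QuasiIso g] (n : ℤ) : IsZero ((mappingCone g).homology n) := by
  haveI : IsIso (DerivedCategory.Q.mapTriangle.obj (mappingCone.triangle g)).mor₁ :=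
    inferInstanceAs (IsIso (DerivedCategory.Q.map g))
  have h := (Triangle.isZero₃_iff_isIso₁ _
    (DerivedCategory.mappingCone_triangle_distinguished g)).2 inferInstance
  exact ((DerivedCategory.homologyFunctor C n).map_isZero h).of_iso
    ((DerivedCategory.homologyFunctorFactors C n).app _).symm

/-- Opcycles of a shifted complex. -/
noncomputable def shiftOpcyclesIso (K : CochainComplex C ℤ) (n : ℤ) :
    (K⟦(1 : ℤ)⟧).opcycles n ≅ K.opcycles (n + 1) :=
  ShortComplex.opcyclesMapIso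
    ((CochainComplex.shiftShortComplexFunctorIso C 1 n (n + 1) (by omega)).app K)

/-- Transport from the target to the source, below the lowest degree of the target. -/
lemma AmpClass.opcycles_source (hΦ : AmpClass Φ) [QuasiIso g] (a b : ℤ) [R.IsStrictlyLE b]
    [Y.IsStrictlyLE b] [Y.IsStrictlyGE a] (hR : ∀ n, Φ (R.X n)) (hY : ∀ n, Φ (Y.X n))
    (n : ℤ) (hn : n < a) : Φ (R.opcycles (n + 1)) := by
  let S := mappingCone.triangleRotateShortComplex g
  have hS := triangleRotate_shortExact g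
  haveI : Epi S.g := hS.epi_g
  haveI := isStrictlyLE_cone g b
  have he := HomologicalComplex.opcycles_right_exact S hS.exact n
  have h1 : Φ (S.X₂.opcycles n) := hΦ.opcycles_of_acyclic (mappingCone g) b
    (hΦ.cone_X g hR hY) (isZero_homology_cone g) n
  haveI : Mono (HomologicalComplex.opcyclesMap S.g n) := he.mono_g
    ((isZero_opcycles_of_isZero_X S.X₁ n (Y.isZero_of_isStrictlyGE a n hn)).eq_of_src _ _)
  have hi : IsIso (HomologicalComplex.opcyclesMap S.g n) := isIso_of_mono_of_epi _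
  let eo := @asIso _ _ _ _ (HomologicalComplex.opcyclesMap S.g n) hi
  exact hΦ.of_iso (shiftOpcyclesIso R n) (hΦ.of_iso eo h1)

/-- Transport from the source to the target, in degrees without homology. -/
lemma AmpClass.opcycles_target (hΦ : AmpClass Φ) [QuasiIso g] (b : ℤ) [R.IsStrictlyLE b]
    [Y.IsStrictlyLE b] (hR : ∀ n, Φ (R.X n)) (hY : ∀ n, Φ (Y.X n))
    (n : ℤ) (h0 : IsZero (Y.homology n)) (h : Φ (R.opcycles (n + 1))) : Φ (Y.opcycles n) := by
  let S := mappingCone.triangleRotateShortComplex g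
  have hS := triangleRotate_shortExact g
  haveI : Epi S.g := hS.epi_g
  haveI := isStrictlyLE_cone g b
  have he := HomologicalComplex.opcycles_right_exact S hS.exact n
  have h1 : Φ (S.X₂.opcycles n) := hΦ.opcycles_of_acyclic (mappingCone g) b
    (hΦ.cone_X g hR hY) (isZero_homology_cone g) n
  haveI : Mono (HomologicalComplex.opcyclesMap S.f n) := by
    haveI : Mono (Y.fromOpcycles n (n + 1)) := mono_fromOpcycles' Y n (n + 1) rfl h0
    haveI : Mono ((mappingCone.inr g).f (n + 1)) :=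
      (mappingCone.triangleRotateShortComplexSplitting g (n + 1)).shortExact.mono_f
    haveI : Mono (Y.fromOpcycles n (n + 1) ≫ (mappingCone.inr g).f (n + 1)) := mono_comp _ _
    have hfac : HomologicalComplex.opcyclesMap (mappingCone.inr g) n ≫
          (mappingCone g).fromOpcycles n (n + 1) =
        Y.fromOpcycles n (n + 1) ≫ (mappingCone.inr g).f (n + 1) := by
      rw [← cancel_epi (Y.pOpcycles n)]
      simp
    haveI : Mono (HomologicalComplex.opcyclesMap (mappingCone.inr g) n ≫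
        (mappingCone g).fromOpcycles n (n + 1)) := hfac.symm ▸ this
    exact mono_of_mono (HomologicalComplex.opcyclesMap (mappingCone.inr g) n)
      ((mappingCone g).fromOpcycles n (n + 1))
  exact hΦ.ker (ShortComplex.ShortExact.mk' he ‹_› inferInstance) h1
    (hΦ.of_iso (shiftOpcyclesIso R n).symm h)

end Cone

section Truncation

variable {R : CochainComplex C ℤ}

lemma AmpClass.truncGE_X (hΦ : AmpClass Φ) {a : ℤ} (hR : ∀ n, Φ (R.X n)) (h : Φ (R.opcycles a))
    (n : ℤ) : Φ ((R.truncGE a).X n) := by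
  rcases lt_trichotomy n a with hn | hn | hn
  · exact hΦ.of_isZero ((R.truncGE a).isZero_of_isStrictlyGE a n hn)
  · subst hn
    exact hΦ.of_iso (R.truncGEXIsoOpcycles n).symm h
  · exact hΦ.of_iso (R.truncGEXIso a n hn).symm (hR n)

lemma isStrictlyLE_truncGE' (R : CochainComplex C ℤ) (a b : ℤ) [R.IsStrictlyLE b] :
    (R.truncGE a).IsStrictlyLE b := by
  refine (CochainComplex.isStrictlyLE_iff _ _).2 fun n hn => ?_
  rcases lt_trichotomy n a with h | h | h
  · exact (R.truncGE a).isZero_of_isStrictlyGE a n h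
  · subst h
    exact (isZero_opcycles_of_isZero_X R n (R.isZero_of_isStrictlyLE b n hn)).of_iso
      (R.truncGEXIsoOpcycles n)
  · exact (R.isZero_of_isStrictlyLE b n hn).of_iso (R.truncGEXIso a n h)

end Truncation

section Derived

variable [HasDerivedCategory.{w} C]

/-- Objects represented by a complex in `[a, b]` with terms in `Φ`. -/
def HasAmp (Φ : C → Prop) (a b : ℤ) (K : DerivedCategory C) : Prop :=
  ∃ P : CochainComplex C ℤ, P.IsStrictlyGE a ∧ P.IsStrictlyLE b ∧ (∀ n, Φ (P.X n)) ∧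
    Nonempty (DerivedCategory.Q.obj P ≅ K)

lemma HasAmp.of_iso {a b : ℤ} {K L : DerivedCategory C} (h : HasAmp Φ a b K) (e : K ≅ L) :
    HasAmp Φ a b L := by
  obtain ⟨P, h1, h2, h3, ⟨e'⟩⟩ := h
  exact ⟨P, h1, h2, h3, ⟨e' ≪≫ e⟩⟩

lemma HasAmp.mono {a b a' b' : ℤ} {K : DerivedCategory C} (h : HasAmp Φ a b K) (ha : a' ≤ a)
    (hb : b ≤ b') : HasAmp Φ a' b' K := by
  obtain ⟨P, h1, h2, h3, e⟩ := h
  exact ⟨P, P.isStrictlyGE_of_ge a' a ha, P.isStrictlyLE_of_le b b' hb, h3, e⟩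

lemma AmpClass.hasAmp_of_isZero (hΦ : AmpClass Φ) {K : DerivedCategory C} (h : IsZero K) (a b : ℤ) :
    HasAmp Φ a b K := by
  have hX : ∀ i, IsZero ((0 : CochainComplex C ℤ).X i) := fun i =>
    (HomologicalComplex.eval C (ComplexShape.up ℤ) i).map_isZero (isZero_zero _)
  exact ⟨0, (CochainComplex.isStrictlyGE_iff _ _).2 fun i _ => hX i,
    (CochainComplex.isStrictlyLE_iff _ _).2 fun i _ => hX i, fun i => hΦ.of_isZero (hX i),
    ⟨(DerivedCategory.Q.map_isZero (isZero_zero _)).iso h⟩⟩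

lemma HasAmp.shift {a b : ℤ} {K : DerivedCategory C} (h : HasAmp Φ a b K) (k a' b' : ℤ)
    (ha : k + a' = a) (hb : k + b' = b) : HasAmp Φ a' b' (K⟦k⟧) := by
  obtain ⟨P, h1, h2, h3, ⟨e⟩⟩ := h
  exact ⟨P⟦k⟧, P.isStrictlyGE_shift a k a' ha, P.isStrictlyLE_shift b k b' hb,
    fun n => h3 (n + k), ⟨((DerivedCategory.Q.commShiftIso k).app P) ≪≫
      (shiftFunctor _ k).mapIso e⟩⟩

lemma HasAmp.isZero_homology {a b : ℤ} {K : DerivedCategory C} (h : HasAmp Φ a b K) (i : ℤ)
    (hi : i < a ∨ b < i) : IsZero ((DerivedCategory.homologyFunctor C i).obj K) := by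
  obtain ⟨P, h1, h2, -, ⟨e⟩⟩ := h
  refine (ShortComplex.isZero_homology_of_isZero_X₂ (P.sc i) ?_).of_iso
    ((DerivedCategory.homologyFunctor C i).mapIso e.symm ≪≫
      (DerivedCategory.homologyFunctorFactors C i).app P)
  rcases hi with hi | hi
  · exact P.isZero_of_isStrictlyGE a i hi
  · exact P.isZero_of_isStrictlyLE b i hi

lemma AmpClass.exists_rep (hΦ : AmpClass Φ) (K : DerivedCategory C) (b : ℤ) [K.IsLE b] :
    ∃ R : CochainComplex C ℤ, R.IsStrictlyLE b ∧ (∀ n, Φ (R.X n)) ∧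
      Nonempty (DerivedCategory.Q.obj R ≅ K) := by
  obtain ⟨K', hK', ⟨e⟩⟩ := DerivedCategory.exists_iso_Q_obj_of_isLE K b
  haveI := hK'
  obtain ⟨R, ρ, hρ, hR, hΦR⟩ := hΦ.resolve K' b
  haveI := hρ
  exact ⟨R, hR, hΦR, ⟨asIso (DerivedCategory.Q.map ρ) ≪≫ e.symm⟩⟩

/-- The deep opcycles of any bounded above representative of an object of amplitude `[a, b]`. -/
lemma AmpClass.opcycles_rep (hΦ : AmpClass Φ) {R : CochainComplex C ℤ} {a b : ℤ}
    [R.IsStrictlyLE b] (hR : ∀ n, Φ (R.X n)) (h : HasAmp Φ a b (DerivedCategory.Q.obj R)) (n : ℤ)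
    (hn : n < a) : Φ (R.opcycles n) := by
  obtain ⟨P, hP1, hP2, hP3, ⟨e⟩⟩ := h
  obtain ⟨X', hX', s, hs, g, hg⟩ := DerivedCategory.right_fac_of_isStrictlyLE e.inv b
  obtain ⟨R', ρ, hρ, hR', hR'Φ⟩ := hΦ.resolve X' b
  haveI := hρ
  haveI : QuasiIso s := (DerivedCategory.isIso_Q_map_iff_quasiIso (φ := s)).1 hs
  haveI : QuasiIso g := by
    refine (DerivedCategory.isIso_Q_map_iff_quasiIso (φ := g)).1 ?_
    rw [show DerivedCategory.Q.map g = DerivedCategory.Q.map s ≫ e.inv by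
      rw [hg, IsIso.hom_inv_id_assoc]]
    infer_instance
  refine hΦ.opcycles_target (ρ ≫ s) b hR'Φ hR n ?_
    (hΦ.opcycles_source (ρ ≫ g) a b hR'Φ hP3 n hn)
  exact (HasAmp.isZero_homology ⟨P, hP1, hP2, hP3, ⟨e⟩⟩ n (Or.inl hn)).of_iso
    ((DerivedCategory.homologyFunctorFactors C n).app R).symm

lemma isIso_Q_πTruncGE (R : CochainComplex C ℤ) (a : ℤ)
    (h : ∀ i, i < a → IsZero ((DerivedCategory.homologyFunctor C i).obj (DerivedCategory.Q.obj R))) :
    IsIso (DerivedCategory.Q.map (R.πTruncGE a)) := by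
  haveI : R.IsGE a := (CochainComplex.isGE_iff _ _).2 fun i hi =>
    (HomologicalComplex.exactAt_iff_isZero_homology _ _).2
      ((h i hi).of_iso ((DerivedCategory.homologyFunctorFactors C i).app R).symm)
  infer_instance

lemma AmpClass.amp_obj₃ (hΦ : AmpClass Φ) (T : Triangle (DerivedCategory C)) (hT : T ∈ distTriang _)
    {a b : ℤ} (h₁ : HasAmp Φ a b T.obj₁) (h₂ : HasAmp Φ a b T.obj₂) :
    HasAmp Φ (a - 2) b T.obj₃ := by
  obtain ⟨P₁, h₁1, h₁2, h₁3, ⟨e₁⟩⟩ := h₁
  obtain ⟨P₂, h₂1, h₂2, h₂3, ⟨e₂⟩⟩ := h₂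
  obtain ⟨X', hX', s, hs, g, hg⟩ :=
    DerivedCategory.right_fac_of_isStrictlyLE (e₁.hom ≫ T.mor₁ ≫ e₂.inv) b
  obtain ⟨R, ρ, hρ, hR, hRΦ⟩ := hΦ.resolve X' b
  haveI := hρ
  haveI := hs
  let i₁ : DerivedCategory.Q.obj R ≅ DerivedCategory.Q.obj P₁ :=
    asIso (DerivedCategory.Q.map ρ) ≪≫ asIso (DerivedCategory.Q.map s)
  have hop : Φ (R.opcycles (a - 1)) :=
    hΦ.opcycles_rep hRΦ ⟨P₁, h₁1, h₁2, h₁3, ⟨i₁.symm⟩⟩ (a - 1) (by omega)
  haveI := P₂.isStrictlyGE_of_ge (a - 1) a (by omega)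
  haveI := isStrictlyLE_truncGE' R (a - 1) b
  haveI := isIso_Q_πTruncGE R (a - 1) fun i hi =>
    HasAmp.isZero_homology ⟨P₁, h₁1, h₁2, h₁3, ⟨i₁.symm⟩⟩ i (Or.inl (by omega))
  let g' : R.truncGE (a - 1) ⟶ P₂ :=
    CochainComplex.truncGEMap (ρ ≫ g) (a - 1) ≫ inv (P₂.πTruncGE (a - 1))
  have hg' : R.πTruncGE (a - 1) ≫ g' = ρ ≫ g := by simp [g']
  let j₁ : DerivedCategory.Q.obj (R.truncGE (a - 1)) ≅ T.obj₁ :=
    (asIso (DerivedCategory.Q.map (R.πTruncGE (a - 1)))).symm ≪≫ i₁ ≪≫ e₁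
  haveI := isStrictlyLE_cone g' b
  haveI := isStrictlyGE_cone g' (a - 1)
  refine ⟨CochainComplex.mappingCone g',
    (CochainComplex.mappingCone g').isStrictlyGE_of_ge (a - 2) (a - 1 - 1) (by omega),
    inferInstance, hΦ.cone_X g' (hΦ.truncGE_X hRΦ hop) h₂3,
    ⟨Triangle.π₃.mapIso (isoTriangleOfIso₁₂ _ T
      (DerivedCategory.mappingCone_triangle_distinguished g') hT j₁ e₂ ?_)⟩⟩
  show DerivedCategory.Q.map g' ≫ e₂.hom = j₁.hom ≫ T.mor₁
  rw [← cancel_epi (DerivedCategory.Q.map (R.πTruncGE (a - 1))), ← Functor.map_comp_assoc, hg']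
  have hg'' : DerivedCategory.Q.map g = DerivedCategory.Q.map s ≫ e₁.hom ≫ T.mor₁ ≫ e₂.inv := by
    rw [hg, IsIso.hom_inv_id_assoc]
  simp [j₁, i₁, hg'']

lemma AmpClass.amp_obj₂ (hΦ : AmpClass Φ) (T : Triangle (DerivedCategory C)) (hT : T ∈ distTriang _)
    {a b : ℤ} (h₁ : HasAmp Φ a b T.obj₁) (h₃ : HasAmp Φ a b T.obj₃) :
    HasAmp Φ (a - 2) (b + 1) T.obj₂ :=
  hΦ.amp_obj₃ T.invRotate (inv_rot_of_distTriang _ hT)
    ((h₃.shift (-1) (a + 1) (b + 1) (by omega) (by omega)).mono (by omega) le_rfl)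
    (h₁.mono le_rfl (by omega))

lemma isLE_of_retract {K L : DerivedCategory C} (i : K ⟶ L) (r : L ⟶ K) (h : i ≫ r = 𝟙 K) (b : ℤ)
    (hL : ∀ n, b < n → IsZero ((DerivedCategory.homologyFunctor C n).obj L)) : K.IsLE b := by
  refine (DerivedCategory.isLE_iff K b).2 fun n hn => ?_
  rw [IsZero.iff_id_eq_zero, ← CategoryTheory.Functor.map_id, ← h, Functor.map_comp,
    (hL n hn).eq_of_tgt ((DerivedCategory.homologyFunctor C n).map i) 0, zero_comp]

lemma AmpClass.amp_retract (hΦ : AmpClass Φ) {K L : DerivedCategory C} (i : K ⟶ L) (r : L ⟶ K)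
    (h : i ≫ r = 𝟙 K) {a b : ℤ} (hL : HasAmp Φ a b L) : HasAmp Φ (a - 1) b K := by
  haveI := preservesBinaryBiproducts_of_preservesBiproducts (DerivedCategory.Q (C := C))
  obtain ⟨K', p, δ, hT⟩ := distinguished_cocone_triangle i
  have hδ : δ = 0 := by
    have h0 : δ ≫ i⟦(1 : ℤ)⟧' = 0 := comp_distTriang_mor_zero₃₁ _ hT
    have := h0 =≫ r⟦(1 : ℤ)⟧'
    rwa [Category.assoc, ← Functor.map_comp, h, CategoryTheory.Functor.map_id, Category.comp_id,
      zero_comp] at this
  obtain ⟨e, -, -⟩ := exists_iso_binaryBiproduct_of_distTriang _ hT hδ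
  haveI hK : K.IsLE b := isLE_of_retract i r h b fun n hn => hL.isZero_homology n (Or.inr hn)
  haveI hK' : K'.IsLE b := isLE_of_retract (biprod.inr ≫ e.inv) (e.hom ≫ biprod.snd) (by simp) b
    fun n hn => hL.isZero_homology n (Or.inr hn)
  obtain ⟨R, hR, hRΦ, ⟨eR⟩⟩ := hΦ.exists_rep K b
  obtain ⟨R', hR', hR'Φ, ⟨eR'⟩⟩ := hΦ.exists_rep K' b
  let eX : ∀ n, (R ⊞ R').X n ≅ R.X n ⊞ R'.X n := fun n =>
    (HomologicalComplex.eval C (ComplexShape.up ℤ) n).mapBiprod R R'
  haveI : CochainComplex.IsStrictlyLE (R ⊞ R') b :=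
    (CochainComplex.isStrictlyLE_iff _ _).2 fun n hn => IsZero.of_iso
      ((biprod_isZero_iff _ _).2
        ⟨R.isZero_of_isStrictlyLE b n hn, R'.isZero_of_isStrictlyLE b n hn⟩) (eX n)
  have hW : ∀ n, Φ ((R ⊞ R').X n) := fun n => hΦ.of_iso (eX n).symm
    (hΦ.ext (S := ShortComplex.mk (biprod.inl : R.X n ⟶ _) (biprod.snd : _ ⟶ R'.X n) biprod.inl_snd)
      (ShortComplex.Splitting.ofHasBinaryBiproduct _ _).shortExact (hRΦ n) (hR'Φ n))
  have hW' : HasAmp Φ a b (DerivedCategory.Q.obj (R ⊞ R')) :=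
    hL.of_iso (e ≪≫ biprod.mapIso eR.symm eR'.symm ≪≫ (DerivedCategory.Q.mapBiprod R R').symm)
  have hop : Φ (R.opcycles (a - 1)) :=
    hΦ.summand (HomologicalComplex.opcyclesMap (biprod.inl : R ⟶ R ⊞ R') _)
      (HomologicalComplex.opcyclesMap biprod.fst _)
      (by rw [← HomologicalComplex.opcyclesMap_comp, biprod.inl_fst,
        HomologicalComplex.opcyclesMap_id])
      (hΦ.opcycles_rep hW hW' (a - 1) (by omega))
  haveI := isIso_Q_πTruncGE R (a - 1) fun n hn => by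
    have hz : IsZero ((DerivedCategory.homologyFunctor C n).obj K) := by
      rw [IsZero.iff_id_eq_zero, ← CategoryTheory.Functor.map_id, ← h, Functor.map_comp,
        (hL.isZero_homology n (Or.inl (by omega))).eq_of_tgt
          ((DerivedCategory.homologyFunctor C n).map i) 0, zero_comp]
    exact hz.of_iso ((DerivedCategory.homologyFunctor C n).mapIso eR)
  exact ⟨R.truncGE (a - 1), inferInstance, isStrictlyLE_truncGE' R (a - 1) b,
    hΦ.truncGE_X hRΦ hop,
    ⟨(asIso (DerivedCategory.Q.map (R.πTruncGE (a - 1)))).symm ≪≫ eR⟩⟩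

end Derived

end Groth.Agent.PerfD40
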