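import Mathlib.Algebra.Homology.DerivedCategory.TStructure
import Mathlib.Algebra.Homology.DerivedCategory.HomologySequence
import Mathlib.Algebra.Homology.DerivedCategory.FullyFaithful
import Mathlib.CategoryTheory.Triangulated.TStructure.TruncLTGE

/-!
# Devissage of bounded objects along their cohomology
-/

set_option linter.style.haveILetI false

universe w v u

open CategoryTheory CategoryTheory.Limits CategoryTheory.Pretriangulated

namespace Groth.Agent.PerfD40

variable {C : Type u} [Category.{v} C] [Abelian C] [HasDerivedCategory.{w} C]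

/-- A class closed under isomorphisms and extensions which contains the shifted cohomology objects
of a bounded object contains the object. -/
theorem amplitude_induction (P : DerivedCategory C → Prop)
    (hiso : ∀ {K L : DerivedCategory C}, (K ≅ L) → P K → P L)
    (hext : ∀ T : Triangle (DerivedCategory C), T ∈ distTriang _ → P T.obj₁ → P T.obj₃ → P T.obj₂) :
    ∀ (m : ℕ) (a : ℤ) (K : DerivedCategory C), K.IsGE a → K.IsLE (a + m) →
      (∀ i : ℤ, a ≤ i → i ≤ a + m →
        P ((DerivedCategory.singleFunctor C i).obj ((DerivedCategory.homologyFunctor C i).obj K))) →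
      P K := by
  intro m
  induction m with
  | zero =>
    intro a K hge hle h
    haveI := hge
    haveI : K.IsLE a := by simpa using hle
    obtain ⟨M, ⟨e⟩⟩ := DerivedCategory.exists_iso_singleFunctor_obj_of_isGE_of_isLE K a
    let eM : (DerivedCategory.homologyFunctor C a).obj K ≅ M :=
      (DerivedCategory.homologyFunctor C a).mapIso e ≪≫
        (DerivedCategory.singleFunctorCompHomologyFunctorIso C a).app M
    exact hiso ((DerivedCategory.singleFunctor C a).mapIso eM ≪≫ e.symm) (h a le_rfl (by simp))
  | succ m ih =>
    intro a K hge hle h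
    haveI := hge
    haveI := hle
    let t : Triangulated.TStructure (DerivedCategory C) := DerivedCategory.TStructure.t
    let T := (t.triangleLTGE (a + 1)).obj K
    have hT : T ∈ distTriang _ := t.triangleLTGE_distinguished _ K
    haveI h₁le : T.obj₁.IsLE a := t.isLE_truncLT_obj K _ _ (by omega)
    haveI h₃ge : T.obj₃.IsGE (a + 1) := t.isGE_truncGE_obj K _ _ le_rfl
    haveI h₁ge : T.obj₁.IsGE a := by
      rw [DerivedCategory.isGE_iff]
      intro i hi
      exact (DerivedCategory.HomologySequence.exact₁ T hT (i - 1) i (by omega)).isZero_X₂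
        ((DerivedCategory.isZero_of_isGE T.obj₃ (a + 1) (i - 1) (by omega)).eq_of_src _ _)
        ((DerivedCategory.isZero_of_isGE K a i hi).eq_of_tgt _ _)
    haveI h₃le : T.obj₃.IsLE (a + 1 + m) := by
      rw [DerivedCategory.isLE_iff]
      intro i hi
      exact (DerivedCategory.HomologySequence.exact₃ T hT i (i + 1) rfl).isZero_X₂
        ((DerivedCategory.isZero_of_isLE K (a + (m + 1 : ℕ)) i (by omega)).eq_of_src _ _)
        ((DerivedCategory.isZero_of_isLE T.obj₁ a (i + 1) (by omega)).eq_of_tgt _ _)
    have e₃ : ∀ i, a + 1 ≤ i → IsIso ((DerivedCategory.homologyFunctor C i).map T.mor₂) :=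
      fun i hi => by
      haveI : Mono ((DerivedCategory.homologyFunctor C i).map T.mor₂) :=
        (DerivedCategory.HomologySequence.exact₂ T hT i).mono_g
          ((DerivedCategory.isZero_of_isLE T.obj₁ a i (by omega)).eq_of_src _ _)
      haveI : Epi ((DerivedCategory.homologyFunctor C i).map T.mor₂) :=
        (DerivedCategory.HomologySequence.exact₃ T hT i (i + 1) rfl).epi_f
          ((DerivedCategory.isZero_of_isLE T.obj₁ a (i + 1) (by omega)).eq_of_tgt _ _)
      exact isIso_of_mono_of_epi _
    have e₁ : IsIso ((DerivedCategory.homologyFunctor C a).map T.mor₁) := by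
      haveI : Epi ((DerivedCategory.homologyFunctor C a).map T.mor₁) :=
        (DerivedCategory.HomologySequence.exact₂ T hT a).epi_f
          ((DerivedCategory.isZero_of_isGE T.obj₃ (a + 1) a (by omega)).eq_of_tgt _ _)
      haveI : Mono ((DerivedCategory.homologyFunctor C a).map T.mor₁) :=
        (DerivedCategory.HomologySequence.exact₁ T hT (a - 1) a (by omega)).mono_g
          ((DerivedCategory.isZero_of_isGE T.obj₃ (a + 1) (a - 1) (by omega)).eq_of_src _ _)
      exact isIso_of_mono_of_epi _
    obtain ⟨M, ⟨eM⟩⟩ := DerivedCategory.exists_iso_singleFunctor_obj_of_isGE_of_isLE T.obj₁ a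
    have p₁ : P T.obj₁ := by
      let eH : (DerivedCategory.homologyFunctor C a).obj K ≅ M :=
        (@asIso _ _ _ _ _ e₁).symm ≪≫ (DerivedCategory.homologyFunctor C a).mapIso eM ≪≫
          (DerivedCategory.singleFunctorCompHomologyFunctorIso C a).app M
      exact hiso ((DerivedCategory.singleFunctor C a).mapIso eH ≪≫ eM.symm)
        (h a le_rfl (by omega))
    refine hext T hT p₁ (ih (a + 1) T.obj₃ h₃ge h₃le fun i hi hi' => ?_)
    exact hiso ((DerivedCategory.singleFunctor C i).mapIso (@asIso _ _ _ _ _ (e₃ i hi)))
      (h i (by omega) (by push_cast; omega))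

end Groth.Agent.PerfD40
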