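import Groth.Agent.PerfD40.ApproxKoszul
import Groth.Agent.PerfD40.PCLocal

/-!
# Approximation by perfect complexes on an affine scheme
-/

set_option linter.style.haveILetI false

universe u

open CategoryTheory CategoryTheory.Limits Pretriangulated AlgebraicGeometry TopologicalSpace

attribute [local instance] HasDerivedCategory.standard

namespace Groth.Agent.PerfD40

open Groth.Agent.KFlatLib

/-- The explicit affine approximation. -/
theorem exists_approx_affine (Y : Scheme.{u}) [IsAffine Y] (l : List Γ(Y, ⊤)) (V : Y.Opens)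
    (hl : Y.isoSpec.symm.hom ⁻¹ᵁ V = outOpen l) {m : ℤ} (E : DCoh.D Y) (hq : DCoh.IsQCohD E)
    (hpc : LocPC m E)
    (hE : ∀ i, m - (l.length : ℤ) + 1 ≤ i → CohB1.support (DCoh.HD E i) ⊆ (V : Set Y)ᶜ) :
    ∃ (P : DCoh.D Y) (α : P ⟶ E), DCoh.IsPerfect P ∧ IsZero ((DCoh.restrictD V.ι).obj P) ∧
      IsPcMap m α := by
  haveI : PreservesFiniteLimits (tilde.functor Γ(Y, ⊤)) :=
    QCoh.tilde_preservesFiniteLimits (R := Γ(Y, ⊤))
  let eS : Spec Γ(Y, ⊤) ≅ Y := Y.isoSpec.symm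
  let Φ := restrictDEquiv eS
  haveI : (DCoh.restrictD eS.hom).Full := inferInstanceAs Φ.functor.Full
  haveI : (DCoh.restrictD eS.hom).Faithful := inferInstanceAs Φ.functor.Faithful
  have hmem : ∀ x : Spec Γ(Y, ⊤), x ∈ outOpen l ↔ eS.hom.base x ∈ V := fun x => by
    rw [← hl]; rfl
  obtain ⟨N, ⟨eN⟩⟩ := exists_tildeD_iso (isQCohD_restrictD eS.hom hq)
  have hN : RPC m N := (pseudoCoherentD_tildeD_iff m N).1
    ((isPseudoCoherentD_iff _ _).2 ((hpc.restrict eS.hom).of_iso eN.symm))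
  obtain ⟨b, hb⟩ := exists_homology_bound N (locPC_of_rpc hN)
  have ht : ∀ i, m - (l.length : ℤ) + 1 ≤ i → ∀ f ∈ l, IsTorsAt f N i := fun i hi f hf =>
    isTorsAt_of_isZero_restrict l N i ((isZero_iff_support _).2 fun w hw =>
      hE i hi ((mem_support_hd_restrictD eS.hom E i _).1
        ((mem_support_iso ((DerivedCategory.homologyFunctor _ i).mapIso eN) _).1
          ((mem_support_restrict (outOpen l).ι _ w).1 hw))) ((hmem _).1 w.2)) f hf
  obtain ⟨M, a, hM, hMt, ha⟩ := exists_approx_koszul l (b - m).toNat N hN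
    (fun i hi => hb i (by omega)) ht
  let P := Φ.inverse.obj ((DCoh.tildeD _).obj M)
  let ε : (DCoh.restrictD eS.hom).obj P ≅ (DCoh.tildeD _).obj M := Φ.counitIso.app _
  obtain ⟨α, hα⟩ := (DCoh.restrictD eS.hom).map_surjective
    (ε.hom ≫ (DCoh.tildeD _).map a ≫ eN.hom)
  refine ⟨P, α, isPerfect_restrictD eS.inv ((perfect_tildeD_iff M).2 hM),
    (isZero_restrictD_iff_support V P).2 fun i y hy hyV => ?_, isPcMap_of_cover α fun y =>
      ⟨_, eS.hom, inferInstance, ⟨eS.inv.base y, by rw [← Scheme.Hom.comp_apply, Iso.inv_hom_id]; rfl⟩, ?_⟩⟩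
  · obtain ⟨x, rfl⟩ : ∃ x, eS.hom.base x = y :=
      ⟨eS.inv.base y, by rw [← Scheme.Hom.comp_apply, Iso.inv_hom_id]; rfl⟩
    exact (isTorsD_iff_support l M).1 hMt i
      ((mem_support_iso ((DerivedCategory.homologyFunctor _ i).mapIso ε) x).1
        ((mem_support_hd_restrictD eS.hom P i x).2 hy)) ((hmem x).2 hyV)
  · rw [hα]
    exact (ha.map_exact (tilde.functor _)).comp_iso ε.hom eN.hom

end Groth.Agent.PerfD40
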