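import Groth.Agent.PerfD40.ThomasonAffine
import Groth.Agent.KFlatLib.Perfect.Top

/-!
# A perfect object plus a shifted vector bundle extends from an open of an affine scheme
-/

set_option linter.style.haveILetI false

universe u

open CategoryTheory CategoryTheory.Limits AlgebraicGeometry Pretriangulated

attribute [local instance] HasDerivedCategory.standard

namespace Groth.Agent.PerfD40

open Groth.Agent.KFlatLib

section Tri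

variable {C : Type*} [Category C] [Preadditive C] [HasZeroObject C] [HasShift C ℤ]
  [∀ n : ℤ, (shiftFunctor C n).Additive] [Pretriangulated C]

/-- The cone of a map which is invertible off split summands `Q` and `P` is `P` plus the shift of `Q`. -/
theorem nonempty_cone_split {P Q X Y Z : C} (f : X ⟶ Y) (f' : Y ⟶ X) (g : Y ⟶ Z)
    (h : Z ⟶ X⟦(1 : ℤ)⟧) (hT : Triangle.mk f g h ∈ distTriang C) (ρ : Retract P Y) (σ : Retract Q X)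
    (hfr : f ≫ ρ.r = 0) (hif : σ.i ≫ f = 0) (h₁ : f' ≫ f = 𝟙 Y - ρ.r ≫ ρ.i)
    (h₂ : f ≫ f' = 𝟙 X - σ.r ≫ σ.i) [HasBinaryBiproduct P (Q⟦(1 : ℤ)⟧)] :
    Nonempty (Z ≅ P ⊞ Q⟦(1 : ℤ)⟧) := by
  have hfg : f ≫ g = 0 := comp_distTriang_mor_zero₁₂ _ hT
  have hgh : g ≫ h = 0 := comp_distTriang_mor_zero₂₃ _ hT
  have hhf : h ≫ f⟦(1 : ℤ)⟧' = 0 := comp_distTriang_mor_zero₃₁ _ hT
  have hg : g = ρ.r ≫ ρ.i ≫ g := by
    have : g - ρ.r ≫ ρ.i ≫ g = 0 := by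
      have h0 : (f' ≫ f) ≫ g = 0 := by rw [Category.assoc, hfg, comp_zero]
      rw [← h0, h₁]; simp [Preadditive.sub_comp]
    exact sub_eq_zero.1 this
  obtain ⟨q, hq⟩ : ∃ q : Z ⟶ P, ρ.r = g ≫ q := Triangle.yoneda_exact₂ _ hT ρ.r hfr
  have hgq : ρ.i ≫ g ≫ q = 𝟙 P := by rw [← hq, ρ.retract]
  have hic : σ.i⟦(1 : ℤ)⟧' ≫ f⟦(1 : ℤ)⟧' = 0 := by rw [← Functor.map_comp, hif, Functor.map_zero]
  obtain ⟨s, hs⟩ : ∃ s : Q⟦(1 : ℤ)⟧ ⟶ Z, σ.i⟦(1 : ℤ)⟧' = s ≫ h :=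
    Triangle.coyoneda_exact₁ _ hT (σ.i⟦(1 : ℤ)⟧') hic
  let s' := s - (s ≫ q) ≫ ρ.i ≫ g
  have hs'h : s' ≫ h = σ.i⟦(1 : ℤ)⟧' := by
    simp [s', Preadditive.sub_comp, Category.assoc, hgh, ← hs]
  have hs'q : s' ≫ q = 0 := by
    simp [s', Preadditive.sub_comp, Category.assoc, hgq]
  have hr : σ.i⟦(1 : ℤ)⟧' ≫ σ.r⟦(1 : ℤ)⟧' = 𝟙 _ := by
    rw [← Functor.map_comp, σ.retract, CategoryTheory.Functor.map_id]
  let a := 𝟙 Z - q ≫ ρ.i ≫ g - (h ≫ σ.r⟦(1 : ℤ)⟧') ≫ s'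
  have hah : a ≫ h = 0 := by
    have h0 : h ≫ (f ≫ f')⟦(1 : ℤ)⟧' = 0 := by rw [Functor.map_comp, reassoc_of% hhf, zero_comp]
    rw [← h0, h₂]
    simp [a, Preadditive.sub_comp, Preadditive.comp_sub, Category.assoc, hgh, hs'h]
  have haq : a ≫ q = 0 := by
    simp [a, Preadditive.sub_comp, Category.assoc, hgq, hs'q]
  obtain ⟨b, hb⟩ : ∃ b : Z ⟶ Y, a = b ≫ g := Triangle.coyoneda_exact₃ _ hT a hah
  have ha : a = 0 := by
    have h1 : a = (b ≫ ρ.r) ≫ ρ.i ≫ g := by rw [hb, Category.assoc, ← hg]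
    have h2 : b ≫ ρ.r = a ≫ q := by rw [hb, Category.assoc, hq]
    rw [h1, h2, haq, zero_comp]
  refine ⟨⟨biprod.lift q (h ≫ σ.r⟦(1 : ℤ)⟧'), biprod.desc (ρ.i ≫ g) s', ?_, ?_⟩⟩
  · rw [biprod.lift_desc]
    have : 𝟙 Z - (q ≫ ρ.i ≫ g + (h ≫ σ.r⟦(1 : ℤ)⟧') ≫ s') = 0 := by rw [← ha]; simp [a]; abel
    exact (sub_eq_zero.1 this).symm
  · refine biprod.hom_ext' _ _ (biprod.hom_ext _ _ ?_ ?_) (biprod.hom_ext _ _ ?_ ?_) <;>
      simp [Category.assoc, hgq, hs'q, reassoc_of% hgh, reassoc_of% hs'h, hr, hgh]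

end Tri

variable {A : CommRingCat.{u}} [PreservesFiniteLimits (tilde.functor A)] {U : (Spec A).Opens}

lemma rperf_shift {G : DerivedCategory (ModuleCat.{u} A)} (h : RPerf G) (n : ℤ) : RPerf (G⟦n⟧) :=
  (locSP_tildeD_iff _).1 ((((locSP_tildeD_iff G).2 h).shift n).of_iso
    (((DCoh.tildeD A).commShiftIso n).app G).symm)

/-- Thomason, iterated: a perfect object plus any odd positive shift extends. -/
theorem exists_extension_odd (hU : IsCompact (U : Set (Spec A))) {E : DCoh.D (U : Scheme.{u})}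
    [∀ P Q : DCoh.D (U : Scheme.{u}), HasBinaryBiproduct P Q] (hE : DCoh.IsPerfect E) (k : ℕ) :
    ∃ G : DerivedCategory (ModuleCat.{u} A), RPerf G ∧
      Nonempty ((toU U).obj G ≅ E ⊞ E⟦(2 * k + 1 : ℤ)⟧) := by
  have hbot : IsZero ((DCoh.restrictD (U.ι ⁻¹ᵁ outOpen ([] : List A)).ι).obj E) :=
    isZero_restrictD_of_support _ E Set.univ (fun _ => Set.subset_univ _) fun x hx => by
      obtain ⟨f, hf, -⟩ := (mem_outOpen_iff ([] : List A) _).1 hx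
      exact absurd hf List.not_mem_nil
  obtain ⟨G₀, hG₀, -, ⟨e₀⟩⟩ := exists_extension hU [] hE hbot
  induction k with
  | zero => exact ⟨G₀, hG₀, ⟨e₀⟩⟩
  | succ k ih =>
    obtain ⟨G, hG, ⟨e⟩⟩ := ih
    obtain ⟨n, hn⟩ : ∃ n : ℤ, n = 2 * k + 1 := ⟨_, rfl⟩
    rw [← hn] at e
    let eS : (toU U).obj (G₀⟦n⟧) ≅ (E ⊞ E⟦(1 : ℤ)⟧)⟦n⟧ :=
      ((toU U).commShiftIso n).app G₀ ≪≫ (shiftFunctor _ n).mapIso e₀
    let f : (toU U).obj (G₀⟦n⟧) ⟶ (toU U).obj G :=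
      eS.hom ≫ (shiftFunctor (DCoh.D (U : Scheme.{u})) n).map biprod.fst ≫ (biprod.inr : E⟦n⟧ ⟶ E ⊞ E⟦n⟧) ≫ e.inv
    let f' : (toU U).obj G ⟶ (toU U).obj (G₀⟦n⟧) :=
      e.hom ≫ (biprod.snd : E ⊞ E⟦n⟧ ⟶ E⟦n⟧) ≫ (shiftFunctor (DCoh.D (U : Scheme.{u})) n).map biprod.inl ≫ eS.inv
    let ρ : Retract E ((toU U).obj G) := ⟨biprod.inl ≫ e.inv, e.hom ≫ biprod.fst, by simp⟩
    let σ : Retract (E⟦(1 : ℤ)⟧⟦n⟧) ((toU U).obj (G₀⟦n⟧)) :=
      ⟨(shiftFunctor (DCoh.D (U : Scheme.{u})) n).map biprod.inr ≫ eS.inv, eS.hom ≫ (shiftFunctor (DCoh.D (U : Scheme.{u})) n).map biprod.snd, by simp [← Functor.map_comp]⟩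
    obtain ⟨R₁, β, γ, hR₁, hβ, hc, -⟩ := exists_lift hU (rperf_shift hG₀ n) (isQCohD_tildeD A G) f
    obtain ⟨γ₀, rfl⟩ := (tildeD_map_bijective R₁ G).2 γ
    obtain ⟨G₂, g, h, hT⟩ := distinguished_cocone_triangle γ₀
    obtain ⟨Z, g', h', hZ⟩ := distinguished_cocone_triangle f
    have h₁ : f' ≫ f = 𝟙 _ - ρ.r ≫ ρ.i := by
      have htot : (biprod.snd : E ⊞ E⟦n⟧ ⟶ E⟦n⟧) ≫ (biprod.inr : E⟦n⟧ ⟶ E ⊞ E⟦n⟧) =
          𝟙 _ - biprod.fst ≫ biprod.inl := eq_sub_of_add_eq' biprod.total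
      simp only [f, f', ρ, Category.assoc, Iso.inv_hom_id_assoc]
      rw [← Functor.map_comp_assoc, biprod.inl_fst, CategoryTheory.Functor.map_id, Category.id_comp,
        reassoc_of% htot]
      simp [Preadditive.sub_comp, Preadditive.comp_sub]
    have h₂ : f ≫ f' = 𝟙 _ - σ.r ≫ σ.i := by
      have htot : (shiftFunctor (DCoh.D (U : Scheme.{u})) n).map (biprod.fst : E ⊞ E⟦(1 : ℤ)⟧ ⟶ E) ≫ (shiftFunctor (DCoh.D (U : Scheme.{u})) n).map biprod.inl =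
          𝟙 _ - (shiftFunctor (DCoh.D (U : Scheme.{u})) n).map biprod.snd ≫ (shiftFunctor (DCoh.D (U : Scheme.{u})) n).map biprod.inr := by
        rw [← Functor.map_comp, ← Functor.map_comp, ← CategoryTheory.Functor.map_id, ← Functor.map_sub,
          eq_sub_of_add_eq (biprod.total (X := E) (Y := E⟦(1 : ℤ)⟧))]
      simp only [f, f', σ, Category.assoc, Iso.inv_hom_id_assoc]
      erw [biprod.inr_snd_assoc]
      erw [reassoc_of% htot]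
      simp [Preadditive.sub_comp, Preadditive.comp_sub]
    obtain ⟨eZ⟩ := nonempty_cone_split f f' g' h' hZ ρ σ (by simp [f, ρ])
      (by simp [f, σ, ← Functor.map_comp_assoc]) h₁ h₂
    haveI := hβ
    let eT := isoTriangleOfIso₁₂ _ _ ((toU U).map_distinguished _ hT) hZ (@asIso _ _ _ _ _ hβ)
      (Iso.refl _) ((Category.comp_id _).trans hc.symm)
    refine ⟨G₂, rperf_obj₃ _ hT hR₁ hG, ⟨Triangle.π₃.mapIso eT ≪≫ eZ ≪≫
      biprod.mapIso (Iso.refl _) ?_⟩⟩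
    exact ((shiftFunctorAdd' (DCoh.D (U : Scheme.{u})) n 1 (n + 1) rfl).app (E⟦(1 : ℤ)⟧)).symm ≪≫
      ((shiftFunctorAdd' (DCoh.D (U : Scheme.{u})) 1 (n + 1) _ (by subst hn; push_cast; ring)).app E).symm

end Groth.Agent.PerfD40
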