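import Groth.Agent.PerfD40.KoszulFactor
import Groth.Agent.PerfD40.Generator
import Groth.Agent.PerfD40.SumShift
import Groth.Agent.PerfD40.PCTri
import Groth.Agent.CAlgOdd.PCAlg

/-!
# Approximation of pseudo-coherent complexes with torsion cohomology by Koszul-built perfect complexes
-/

set_option linter.style.haveILetI false

universe u

open CategoryTheory CategoryTheory.Limits Pretriangulated AlgebraicGeometry

attribute [local instance] HasDerivedCategory.standard

namespace Groth.Agent.PerfD40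

open Groth.Agent.KFlatLib

variable {A : CommRingCat.{u}}

/-- Torsion in one degree passes through exact triangles. -/
lemma IsTorsAt.of_triangle {f : A} (T : Triangle (DerivedCategory (ModuleCat.{u} A)))
    (hT : T ∈ distTriang _) {i : ℤ} (h₁ : IsTorsAt f T.obj₁ i) (h₃ : IsTorsAt f T.obj₃ i) :
    IsTorsAt f T.obj₂ i := fun x => by
  let H := DerivedCategory.homologyFunctor (ModuleCat.{u} A) i
  obtain ⟨k, hk⟩ := h₃ (H.map T.mor₂ x)
  obtain ⟨y, hy⟩ := (ShortComplex.moduleCat_exact_iff _).1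
    (DerivedCategory.HomologySequence.exact₂ T hT i) (f ^ k • x) ((map_smul _ _ _).trans hk)
  obtain ⟨k', hk'⟩ := h₁ y
  refine ⟨k' + k, ?_⟩
  rw [pow_add, mul_smul, ← hy]
  exact (map_smul (H.map T.mor₁).hom _ _).symm.trans ((congrArg _ hk').trans (map_zero _))

/-- Koszul complexes live in nonpositive degrees. -/
lemma isZero_hd_kz : ∀ (l : List A) (i : ℤ), 0 < i →
    IsZero ((DerivedCategory.homologyFunctor (ModuleCat.{u} A) i).obj (kz l)) := by
  intro l
  induction l with
  | nil =>
    intro i hi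
    obtain ⟨e⟩ := kz_nil (A := A)
    exact (DerivedCategory.isZero_of_isLE ((DerivedCategory.singleFunctor (ModuleCat.{u} A) 0).obj
      (ModuleCat.of A A)) 0 i hi).of_iso ((DerivedCategory.homologyFunctor _ i).mapIso e)
  | cons f l ih =>
    intro i hi
    obtain ⟨a, δ, hT⟩ := koszul_triangle f l
    exact (DerivedCategory.HomologySequence.exact₃ _ hT i (i + 1) rfl).isZero_X₂
      ((ih i hi).eq_of_src _ _) ((ih (i + 1) (by omega)).eq_of_tgt _ _)

variable [PreservesFiniteLimits (tilde.functor A)]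

/-- A torsion class is hit by a shifted Koszul complex of powers. -/
theorem exists_koszul_hit (l : List A) (N : DerivedCategory (ModuleCat.{u} A)) (t : ℤ)
    (x : (DerivedCategory.homologyFunctor (ModuleCat.{u} A) t).obj N)
    (hN : ∀ f ∈ l, ∀ i : ℤ, t - (l.length : ℤ) < i → i ≤ t → IsTorsAt f N i) :
    ∃ (K : DerivedCategory (ModuleCat.{u} A)) (ψ : K ⟶ N), RPerf K ∧ (∀ f ∈ l, IsTorsD f K) ∧
      (∀ i, t < i → IsZero ((DerivedCategory.homologyFunctor (ModuleCat.{u} A) i).obj K)) ∧
      ∃ y, (DerivedCategory.homologyFunctor (ModuleCat.{u} A) t).map ψ y = x := by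
  let H := DerivedCategory.homologyFunctor (ModuleCat.{u} A)
  let eN := hShiftA N t 0 t (add_zero t)
  let x' := eN.inv x
  obtain ⟨ek⟩ := kz_nil (A := A)
  obtain ⟨s₀, hs₀⟩ := (bijective_psiC_A (N⟦t⟧)).2 (ModuleCat.ofHom (LinearMap.toSpanSingleton A _ x'))
  obtain ⟨e, ψ₀, hψ₀⟩ := exists_kUnit_factor (N⟦t⟧) l (fun f hf i h1 h2 =>
    (hN f hf (t + i) (by omega) (by omega)).shift rfl) (ek.hom ≫ s₀)
  let K := (kz (l.map (· ^ e)))⟦-t⟧
  let eK : K⟦t⟧ ≅ kz (l.map (· ^ e)) :=
    (shiftFunctorCompIsoId (DerivedCategory (ModuleCat.{u} A)) (-t) t (by omega)).app _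
  obtain ⟨ψ, hψ⟩ := (shiftFunctor _ t).map_surjective (eK.hom ≫ ψ₀)
  refine ⟨K, ψ, rperf_shift (rperf_kz _) _, fun f hf => ?_, fun i hi => ?_, ?_⟩
  · refine IsTorsD.shift (fun i z => ?_) _
    obtain ⟨k, hk⟩ := isTorsD_kz (l.map (· ^ e)) (f ^ e) (List.mem_map.2 ⟨f, hf, rfl⟩) i z
    exact ⟨e * k, by rwa [pow_mul]⟩
  · exact (isZero_hd_kz _ (-t + i) (by omega)).of_iso (hShiftA _ (-t) i _ rfl)
  · have h1 : (hSingle 0 (ModuleCat.of A A)).inv ≫ (H 0).map s₀ =
        ModuleCat.ofHom (LinearMap.toSpanSingleton A _ x') := hs₀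
    let w := (H 0).map (ek.inv ≫ kUnit (l.map (· ^ e)))
      ((hSingle 0 (ModuleCat.of A A)).inv (1 : A))
    have hw : (H 0).map ψ₀ w = x' := by
      have h2 : (hSingle 0 (ModuleCat.of A A)).inv ≫ (H 0).map (ek.inv ≫ kUnit (l.map (· ^ e))) ≫
          (H 0).map ψ₀ = ModuleCat.ofHom (LinearMap.toSpanSingleton A _ x') := by
        rw [← Functor.map_comp, Category.assoc, hψ₀, Iso.inv_hom_id_assoc, h1]
      exact (ConcreteCategory.congr_hom h2 (1 : A)).trans (one_smul A x')
    refine ⟨(hShiftA K t 0 t (add_zero t)).hom ((H 0).map eK.inv w), ?_⟩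
    have hn : (hShiftA K t 0 t (add_zero t)).hom ≫ (H t).map ψ =
        (H 0).map ((shiftFunctor _ t).map ψ) ≫ eN.hom :=
      (((DerivedCategory.homologyFunctor (ModuleCat.{u} A) 0).shiftIso t 0 t (add_zero t)).hom.naturality
        ψ).symm
    refine (ConcreteCategory.congr_hom hn ((H 0).map eK.inv w)).trans ?_
    change eN.hom ((H 0).map ((shiftFunctor _ t).map ψ) ((H 0).map eK.inv w)) = x
    rw [hψ, Functor.map_comp, ConcreteCategory.comp_apply,
      ← ConcreteCategory.comp_apply ((H 0).map eK.inv), ← Functor.map_comp, Iso.inv_hom_id,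
      CategoryTheory.Functor.map_id, ConcreteCategory.id_apply, hw]
    exact ConcreteCategory.congr_hom eN.inv_hom_id x

/-- Approximation by perfect complexes with torsion cohomology, over a ring. -/
theorem exists_approx_koszul (l : List A) {m : ℤ} : ∀ (k : ℕ) (N : DerivedCategory (ModuleCat.{u} A)),
    RPC m N →
    (∀ i, m + k ≤ i → IsZero ((DerivedCategory.homologyFunctor (ModuleCat.{u} A) i).obj N)) →
    (∀ i, m - (l.length : ℤ) + 1 ≤ i → ∀ f ∈ l, IsTorsAt f N i) →
    ∃ (P : DerivedCategory (ModuleCat.{u} A)) (α : P ⟶ N), RPerf P ∧ (∀ f ∈ l, IsTorsD f P) ∧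
      IsPcMap m α := by
  let H := DerivedCategory.homologyFunctor (ModuleCat.{u} A)
  have hres : ∀ {K N N' : DerivedCategory (ModuleCat.{u} A)} (f : K ⟶ N) (g : N ⟶ N')
      (h : N' ⟶ K⟦(1 : ℤ)⟧), Triangle.mk f g h ∈ distTriang _ → RPerf K → (∀ f ∈ l, IsTorsD f K) →
      (∃ (P : DerivedCategory (ModuleCat.{u} A)) (α : P ⟶ N'), RPerf P ∧ (∀ f ∈ l, IsTorsD f P) ∧
        IsPcMap m α) →
      ∃ (P : DerivedCategory (ModuleCat.{u} A)) (α : P ⟶ N), RPerf P ∧ (∀ f ∈ l, IsTorsD f P) ∧
        IsPcMap m α := by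
    rintro K N N' f g h hT hK hKt ⟨P', α', hP', hP't, hα'⟩
    obtain ⟨P, f', g', h', α, hS, -, hα⟩ := exists_fibre_pcMap hT α' hα'
    exact ⟨P, α, rperf_obj₁ _ (rot_of_distTriang _ hS) hP' (rperf_shift hK 1),
      fun f hf => IsTorsD.of_triangle _ hS (hKt f hf) (hP't f hf), hα⟩
  intro k
  induction k with
  | zero =>
    intro N _ hz _
    obtain ⟨P, g, h, hT⟩ := distinguished_cocone_triangle (𝟙 (kz ([] : List A)))
    have hP : ∀ i, IsZero ((H i).obj P) := fun i => Functor.map_isZero (H i)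
      ((Triangle.isZero₃_iff_isIso₁ _ hT).2 (inferInstanceAs (IsIso (𝟙 (kz ([] : List A))))))
    exact ⟨P, 0, rperf_obj₃ _ hT (rperf_kz []) (rperf_kz []), fun f _ i z => ⟨0, by
      haveI := ModuleCat.subsingleton_of_isZero (hP i)
      exact Subsingleton.elim _ _⟩, isPcMap_zero (fun i _ => hP i) fun i hi => hz i (by simpa using hi)⟩
  | succ k ih =>
    let t : ℤ := m + k
    suffices h : ∀ (n : ℕ) (N : DerivedCategory (ModuleCat.{u} A)), RPC m N →
        (∀ i, t < i → IsZero ((H i).obj N)) →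
        (∀ i, m - (l.length : ℤ) + 1 ≤ i → ∀ f ∈ l, IsTorsAt f N i) →
        ∀ (s : List ((H t).obj N)), s.length = n → Submodule.span A {a | a ∈ s} = ⊤ →
        ∃ (P : DerivedCategory (ModuleCat.{u} A)) (α : P ⟶ N), RPerf P ∧ (∀ f ∈ l, IsTorsD f P) ∧
          IsPcMap m α by
      intro N hN hz ht
      have hzt : ∀ i, t < i → IsZero ((H i).obj N) := fun i hi => hz i (by omega)
      haveI : Module.Finite A ((H t).obj N) :=
        (CAlgOdd.finite_homology N ((isPseudoCoherentD_iff _ _).2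
          ((locPC_of_rpc hN).mono (by omega : m ≤ t)))).1 hzt
      obtain ⟨S, hS⟩ := Module.Finite.fg_top (R := A) (M := (H t).obj N)
      exact h _ N hN hzt ht S.toList rfl (by simpa using hS)
    intro n
    induction n with
    | zero =>
      intro N hN hzt ht s hlen hs
      obtain rfl : s = [] := List.eq_nil_of_length_eq_zero hlen
      have hsub : Subsingleton ((H t).obj N) := by
        refine ⟨fun a b => ?_⟩
        have hm : ∀ a : (H t).obj N, a = 0 := fun a => by
          have : a ∈ Submodule.span A {a : (H t).obj N | a ∈ ([] : List _)} := hs ▸ trivial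
          simpa using this
        rw [hm a, hm b]
      refine ih N hN (fun i hi => ?_) ht
      rcases eq_or_lt_of_le hi with h | h
      · exact h ▸ ModuleCat.isZero_of_subsingleton _
      · exact hzt i (by omega)
    | succ n ihs =>
      intro N hN hzt ht s hlen hs
      obtain ⟨x, s, rfl⟩ := List.exists_cons_of_length_eq_add_one hlen
      obtain ⟨K, ψ, hK, hKt, hKz, y, hy⟩ := exists_koszul_hit l N t x
        (fun f hf i h1 h2 => ht i (by omega) f hf)
      obtain ⟨N', g, h, hT⟩ := distinguished_cocone_triangle ψ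
      have hN' : RPC m N' := (pseudoCoherentD_tildeD_iff m N').1 ((isPseudoCoherentD_iff _ _).2
        ((locPC_two_of_three m _ ((DCoh.tildeD A).map_distinguished _ hT)).1
          (((locSP_tildeD_iff K).2 hK).locPC _) (locPC_of_rpc hN)))
      have hzt' : ∀ i, t < i → IsZero ((H i).obj N') := fun i hi =>
        (DerivedCategory.HomologySequence.exact₃ _ hT i (i + 1) rfl).isZero_X₂
          ((hzt i hi).eq_of_src _ _) ((hKz (i + 1) (by omega)).eq_of_tgt _ _)
      have ht' : ∀ i, m - (l.length : ℤ) + 1 ≤ i → ∀ f ∈ l, IsTorsAt f N' i := fun i hi f hf =>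
        IsTorsAt.of_triangle _ (rot_of_distTriang _ hT) (ht i hi f hf) ((hKt f hf).shift 1 i)
      haveI : Epi ((H t).map g) :=
        (DerivedCategory.HomologySequence.exact₃ _ hT t (t + 1) rfl).epi_f
          ((hKz (t + 1) (by omega)).eq_of_tgt _ _)
      refine hres ψ g h hT hK hKt (ihs N' hN' hzt' ht'
        (s.map ((H t).map g)) (by simpa using hlen) ?_)
      have hg : Function.Surjective ((H t).map g) := (ModuleCat.epi_iff_surjective _).1 inferInstance
      have hx : (H t).map g x = 0 := by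
        rw [← hy, ← ConcreteCategory.comp_apply, ← Functor.map_comp,
          show ψ ≫ g = 0 from comp_distTriang_mor_zero₁₂ _ hT, Functor.map_zero]
        rfl
      rw [eq_top_iff]
      rintro z -
      obtain ⟨z, rfl⟩ := hg z
      have hmem : z ∈ Submodule.span A {a : (H t).obj N | a ∈ x :: s} := hs ▸ trivial
      refine (Submodule.span_le.2 ?_ : Submodule.span A {a : (H t).obj N | a ∈ x :: s} ≤
        (Submodule.span A {a : (H t).obj N' | a ∈ s.map ((H t).map g)}).comap ((H t).map g).hom) hmem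
      intro a ha
      rcases List.mem_cons.1 ha with h | h
      · simp only [SetLike.mem_coe, Submodule.mem_comap]
        rw [h, hx]
        exact Submodule.zero_mem _
      · exact Submodule.subset_span (List.mem_map.2 ⟨a, h, rfl⟩)

end Groth.Agent.PerfD40
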