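import Groth.Agent.PerfD40.ApproxStep

/-!
# Approximation by perfect complexes on quasi-compact quasi-separated schemes
-/

set_option linter.style.haveILetI false

universe u

open CategoryTheory CategoryTheory.Limits Pretriangulated AlgebraicGeometry TopologicalSpace

attribute [local instance] HasDerivedCategory.standard

namespace Groth.Agent.PerfD40

open Groth.Agent.KFlatLib

/-- Approximation is invariant under isomorphisms of schemes. -/
theorem ApproxHolds.of_iso {Z Y : Scheme.{u}} (e : Z ≅ Y) (h : ApproxHolds Y) : ApproxHolds Z := by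
  intro T hT hTr
  let φ := e.inv.base
  have hr : IsRetrocompact (φ ⁻¹' T)ᶜ := fun S hS hSo => by
    rw [e.inv.isOpenEmbedding.isInducing.isCompact_iff]
    change IsCompact (φ '' (φ ⁻¹' Tᶜ ∩ S))
    rw [Set.image_preimage_inter]
    exact hTr (hS.image φ.hom.continuous) (e.inv.isOpenEmbedding.isOpenMap _ hSo)
  obtain ⟨r, hr⟩ := h (φ ⁻¹' T) (hT.preimage φ.hom.continuous) hr
  refine ⟨r, fun m E hq hpc hsupp => ?_⟩
  obtain ⟨P, α, hP, hPT, hiso, hepi⟩ := hr m ((DCoh.restrictD e.inv).obj E) (isQCohD_restrictD _ hq)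
    ((isPseudoCoherentD_iff _ _).2 (((isPseudoCoherentD_iff _ _).1 hpc).restrict e.inv))
    fun i hi w hw => hsupp i hi ((mem_support_hd_restrictD e.inv E i w).1 hw)
  let Φ := restrictDEquiv e.symm
  haveI : (DCoh.restrictD e.inv).Full := inferInstanceAs Φ.functor.Full
  let P' := Φ.inverse.obj P
  let ε : (DCoh.restrictD e.inv).obj P' ≅ P := Φ.counitIso.app P
  obtain ⟨β, hβ⟩ := (DCoh.restrictD e.inv).map_surjective (ε.hom ≫ α)
  have hsurj : ∀ z : Z, ∃ y, φ y = z := fun z =>
    ⟨e.hom.base z, by rw [← Scheme.Hom.comp_apply, Iso.hom_inv_id]; rfl⟩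
  have hβ' : IsPcMap m β := isPcMap_of_cover β fun z => by
    refine ⟨_, e.inv, inferInstance, hsurj z, ?_⟩
    rw [hβ]
    exact (isPcMap_of_isIso m ε.hom).comp ⟨hiso, hepi⟩
  refine ⟨P', β, isPerfect_restrictD e.hom hP, fun i z hz => ?_, hβ'.1, hβ'.2⟩
  obtain ⟨y, rfl⟩ := hsurj z
  exact hPT i ((mem_support_iso ((DerivedCategory.homologyFunctor _ i).mapIso ε) y).1
    ((mem_support_hd_restrictD e.inv P' i y).2 hz))

/-- Approximation holds on the empty scheme. -/
theorem approxHolds_of_isEmpty (Y : Scheme.{u}) [IsEmpty Y] : ApproxHolds Y := fun _ _ _ =>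
  ⟨0, fun m E _ _ _ => ⟨E, 𝟙 E, isPerfect_of_cover E fun y => isEmptyElim y,
    fun _ y => isEmptyElim y, fun _ _ => inferInstance, inferInstance⟩⟩

/-- Approximation holds on quasi-compact quasi-separated schemes. -/
theorem approxHolds (X : Scheme.{u}) [CompactSpace X] [QuasiSeparatedSpace X] : ApproxHolds X := by
  suffices h : ∀ S : X.Opens, IsCompact (S : Set X) → ApproxHolds (S : Scheme.{u}) from
    ApproxHolds.of_iso X.topIso.symm (h ⊤ isCompact_univ)
  intro S hS
  refine compact_open_induction_on (P := fun S => ApproxHolds (S : Scheme.{u})) S hS ?_ ?_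
  · haveI : IsEmpty ((⊥ : X.Opens) : Scheme.{u}) := ⟨fun x => x.2⟩
    exact approxHolds_of_isEmpty _
  intro S hS U hAS
  let W : X.Opens := S ⊔ U.1
  have h1 : W.ι ''ᵁ (W.ι ⁻¹ᵁ S) = S := Opens.ext (Set.image_preimage_eq_of_subset
    (by rw [Scheme.Opens.range_ι]; exact Set.subset_union_left))
  have h2 : W.ι ''ᵁ (W.ι ⁻¹ᵁ U.1) = U.1 := Opens.ext (Set.image_preimage_eq_of_subset
    (by rw [Scheme.Opens.range_ι]; exact Set.subset_union_right))
  refine approxHolds_step (W.ι ⁻¹ᵁ S) (W.ι ⁻¹ᵁ U.1) ?_ ?_ ?_ ?_ ?_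
  · rw [W.ι.isOpenEmbedding.isInducing.isCompact_iff]
    change IsCompact ((W.ι ''ᵁ (W.ι ⁻¹ᵁ S) : X.Opens) : Set X)
    rw [h1]
    exact hS
  · exact (Scheme.Hom.isAffineOpen_iff_of_isOpenImmersion W.ι).1 (by rw [h2]; exact U.2)
  · rw [W.ι.isOpenEmbedding.isInducing.isCompact_iff]
    change IsCompact (W.ι.base '' (W.ι.base ⁻¹' ((S : Set X) ∩ (U.1 : Set X))))
    rw [Set.image_preimage_eq_of_subset (by
      rw [Scheme.Opens.range_ι]; exact Set.inter_subset_left.trans Set.subset_union_left)]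
    exact QuasiSeparatedSpace.inter_isCompact _ _ S.2 hS U.1.2 U.2.isCompact
  · exact top_unique fun w _ => w.2
  · exact ApproxHolds.of_iso (IsOpenImmersion.isoOfRangeEq ((W.ι ⁻¹ᵁ S).ι ≫ W.ι) S.ι (by
      rw [Scheme.Hom.comp_base, TopCat.coe_comp, Set.range_comp, Scheme.Opens.range_ι,
        Scheme.Opens.range_ι]
      exact congrArg (fun O : X.Opens => (O : Set X)) h1)) hAS

end Groth.Agent.PerfD40
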