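import Groth.Agent.PerfD40.Trunc
import Groth.Agent.KFlatLib.Perfect.Retract
import Groth.Agent.KFlatLib.Scheme.PCQCoh
import Groth.Agent.KFlatLib.Scheme.RpushBound

/-!
# Pseudo-coherent objects are bounded above on a quasi-compact scheme
-/

set_option linter.style.haveILetI false

universe u

open CategoryTheory CategoryTheory.Limits AlgebraicGeometry Pretriangulated

attribute [local instance] HasDerivedCategory.standard

namespace Groth.Agent.PerfD40

open Groth.Agent.KFlatLib

variable {X : Scheme.{u}}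

lemma exists_isLE_of_pseudoCoherent [CompactSpace X] {m : ℤ} {K : DCoh.D X}
    (h : DCoh.IsPseudoCoherentD m K) : ∃ b : ℤ, K.IsLE b := by
  choose V hxV hV using h
  choose E α hE hiso hepi using fun x => hV x (DerivedCategory.Q.objPreimage K) ⟨repIso K⟩
  choose a b hb using fun x => (hE x).1
  obtain ⟨t, ht⟩ := isCompact_univ.elim_finite_subcover (fun x : X => (V x : Set X))
    (fun x => (V x).2) fun x _ => Set.mem_iUnion.2 ⟨x, hxV x⟩
  let N : ℕ := m.natAbs + ∑ x ∈ t, (b x).natAbs
  refine ⟨(N : ℤ), (DerivedCategory.isLE_iff _ _).2 fun i hi => isZero_of_isZero_restrict _ fun y => ?_⟩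
  obtain ⟨x, hxt, hy⟩ := Set.mem_iUnion₂.1 (ht (Set.mem_univ y))
  have hle : (b x).natAbs ≤ ∑ x ∈ t, (b x).natAbs :=
    Finset.single_le_sum (f := fun x => (b x).natAbs) (fun _ _ => Nat.zero_le _) hxt
  let H := DerivedCategory.homologyFunctor (V x : Scheme.{u}).Modules i
  haveI : IsIso (H.map (α x)) := hiso x i (by omega)
  haveI : (E x).IsStrictlyLE (b x) := (CochainComplex.isStrictlyLE_iff _ _).2 fun j hj =>
    hb x j (Or.inr hj)
  have hz : IsZero (H.obj (DerivedCategory.Q.obj (E x))) :=
    DerivedCategory.isZero_of_isLE _ (b x) i (by omega)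
  exact ⟨V x, hy, (hz.of_iso (asIso (H.map (α x))).symm).of_iso
    ((restrictHDIso (V x).ι K i).symm ≪≫ H.mapIso ((rho (V x).ι).mapIso (repIso K).symm ≪≫
      (rhoQ (V x).ι).app _))⟩

/-- The cut-off of a pseudo-coherent object below its range is still pseudo-coherent. -/
lemma isPseudoCoherentD_truncGE {n c : ℤ} {K : DCoh.D X} (h : DCoh.IsPseudoCoherentD n K)
    (hc : c ≤ n + 1) : DCoh.IsPseudoCoherentD n (((tS X).truncGE c).obj K) := by
  have hA : LocPC (n + 1) (((tS X).truncLT c).obj K) :=
    locPC_of_isZero _ _ fun i hi => isZero_hd_truncLT K c i (by omega)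
  exact (isPseudoCoherentD_iff _ _).2 ((locPC_two_of_three n _
    ((tS X).triangleLTGE_distinguished c K)).1 hA ((isPseudoCoherentD_iff _ _).1 h))

end Groth.Agent.PerfD40
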