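import Groth.Agent.PerfD40.ExtendOdd
import Groth.Agent.PerfD40.ApproxAffine
import Groth.Agent.PerfD40.PCBound
import Mathlib.Topology.Spectral.Basic

/-!
# Approximation by perfect complexes: adding one affine open
-/

set_option linter.style.haveILetI false

universe u

open CategoryTheory CategoryTheory.Limits Pretriangulated AlgebraicGeometry TopologicalSpace

attribute [local instance] HasDerivedCategory.standard

namespace Groth.Agent.PerfD40

open Groth.Agent.KFlatLib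

/-- Approximation by perfect complexes with supports holds on `Y`. -/
def ApproxHolds (Y : Scheme.{u}) : Prop :=
  ∀ (T : Set Y), IsClosed T → IsRetrocompact Tᶜ → ∃ r : ℤ, ∀ (m : ℤ) (E : DCoh.D Y), DCoh.IsQCohD E →
    DCoh.IsPseudoCoherentD (m - r) E → (∀ i : ℤ, m - r ≤ i → CohB1.support (DCoh.HD E i) ⊆ T) →
    ∃ (P : DCoh.D Y) (α : P ⟶ E), DCoh.IsPerfect P ∧ (∀ i : ℤ, CohB1.support (DCoh.HD P i) ⊆ T) ∧
      (∀ i : ℤ, m < i → IsIso ((DerivedCategory.homologyFunctor _ i).map α)) ∧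
      Epi ((DerivedCategory.homologyFunctor _ m).map α)

variable {X : Scheme.{u}}

/-- The cone of a map which is an approximation on an open is supported off it in high degrees. -/
lemma support_obj₃_subset {m : ℤ} {T : Triangle (DCoh.D X)} (hT : T ∈ distTriang _) (O : X.Opens)
    (h : IsPcMap m ((DCoh.restrictD O.ι).map T.mor₁)) (i : ℤ) (hi : m ≤ i) :
    CohB1.support (DCoh.HD T.obj₃ i) ⊆ (O : Set X)ᶜ := fun x hx hxO =>
  (isZero_iff_support _).1
    ((isPcMap_iff_obj₃ m ((DCoh.restrictD O.ι).map_distinguished _ hT)).1 h i hi) ⟨x, hxO⟩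
    ((mem_support_hd_restrictD O.ι T.obj₃ i ⟨x, hxO⟩).2 hx)

/-- Approximation passes from an open to its union with an affine open. -/
theorem approxHolds_step (U V : X.Opens) (hU : IsCompact (U : Set X)) (hV : IsAffineOpen V)
    (hUV : IsCompact ((U ⊓ V : X.Opens) : Set X)) (hcov : U ⊔ V = ⊤)
    (hAU : ApproxHolds (U : Scheme.{u})) : ApproxHolds X := by
  intro T hT hTr
  haveI : IsAffine (V : Scheme.{u}) := hV
  haveI : CompactSpace (U : Scheme.{u}) := isCompact_iff_compactSpace.1 hU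
  haveI := HasBinaryBiproducts.of_hasBinaryProducts (C := DCoh.D (U : Scheme.{u}))
  have hpre : ∀ (W O : X.Opens), IsCompact ((O : Set X) ∩ W) →
      IsCompact ((W.ι ⁻¹ᵁ O : (W : Scheme.{u}).Opens) : Set (W : Scheme.{u})) := fun W O h => by
    rw [W.ι.isOpenEmbedding.isInducing.isCompact_iff]
    change IsCompact (W.ι.base '' (W.ι.base ⁻¹' (O : Set X)))
    rw [Set.image_preimage_eq_inter_range, Scheme.Opens.range_ι]
    exact h
  let VT : X.Opens := ⟨Tᶜ, hT.isOpen_compl⟩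
  have hVT : ((VT : Set X))ᶜ = T := compl_compl T
  have hOU := hpre V U hUV
  have hOV : IsCompact ((V.ι ⁻¹ᵁ VT : (V : Scheme.{u}).Opens) : Set (V : Scheme.{u})) :=
    hpre V VT (hTr hV.isCompact V.isOpen)
  haveI : CompactSpace (V : Scheme.{u}) := isCompact_iff_compactSpace.1 hV.isCompact
  haveI : QuasiCompact U.ι := by
    refine (IsZariskiLocalAtTarget.iff_of_iSup_eq_top (P := @QuasiCompact)
      (fun b : Bool => if b then U else V) ?_).2 fun b => ?_
    · rw [iSup_bool_eq]; exact hcov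
    · cases b
      · change QuasiCompact (U.ι ∣_ V)
        haveI : CompactSpace ↥((U.ι ⁻¹ᵁ V : (U : Scheme.{u}).Opens) : Scheme.{u}) :=
          isCompact_iff_compactSpace.1 (hpre U V (by rw [Set.inter_comm]; exact hUV))
        exact quasiCompact_of_compactSpace _
      · change QuasiCompact (U.ι ∣_ U)
        refine ⟨fun s _ hs => ?_⟩
        have hr : Set.range (U.ι ∣_ U).base = Set.univ := Set.eq_univ_of_forall fun y =>
          ⟨⟨⟨U.ι.base y, y.2⟩, y.2⟩, U.ι.isOpenEmbedding.injective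
            ((Scheme.Hom.comp_apply _ U.ι _).symm.trans (by rw [morphismRestrict_ι]; rfl))⟩
        rw [(U.ι ∣_ U).isOpenEmbedding.isInducing.isCompact_iff, Set.image_preimage_eq_inter_range, hr,
          Set.inter_univ]
        exact hs
  obtain ⟨l, hl⟩ := exists_eq_outOpen ((V : Scheme.{u}).isoSpec.symm.hom ⁻¹ᵁ (V.ι ⁻¹ᵁ (VT ⊔ U)))
    ((V : Scheme.{u}).isoSpec.symm.hom.homeomorph.isCompact_preimage
      (s := ((V.ι ⁻¹ᵁ (VT ⊔ U) : (V : Scheme.{u}).Opens) : Set (V : Scheme.{u}))) |>.2 (by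
      change IsCompact (((V.ι ⁻¹ᵁ VT : (V : Scheme.{u}).Opens) : Set (V : Scheme.{u})) ∪
        ((V.ι ⁻¹ᵁ U : (V : Scheme.{u}).Opens) : Set (V : Scheme.{u})))
      exact hOV.union hOU))
  obtain ⟨rU, hrU⟩ := hAU (U.ι.base ⁻¹' T) (hT.preimage U.ι.base.hom.continuous) (fun S hS hSo => by
    rw [U.ι.isOpenEmbedding.isInducing.isCompact_iff]
    change IsCompact (U.ι.base '' (U.ι.base ⁻¹' Tᶜ ∩ S))
    rw [Set.image_preimage_inter]
    exact hTr (hS.image U.ι.base.hom.continuous) (U.ι.isOpenEmbedding.isOpenMap _ hSo))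
  refine ⟨max rU 0 + l.length, fun m E hq hpc hsupp => ?_⟩
  rw [isPseudoCoherentD_iff] at hpc
  let m₁ : ℤ := m - l.length
  obtain ⟨P, α, hP, hPT, hiso, hepi⟩ := hrU m₁ ((DCoh.restrictD U.ι).obj E) (isQCohD_restrictD _ hq)
    ((isPseudoCoherentD_iff _ _).2 ((hpc.mono (by omega)).restrict U.ι)) fun i hi w hw =>
      hsupp i (by omega) ((mem_support_hd_restrictD U.ι E i w).1 hw)
  have hPV : IsZero ((DCoh.restrictD (U.ι ⁻¹ᵁ VT).ι).obj P) :=
    (isZero_restrictD_iff_support _ P).2 fun i w hw hw' => hw' (hPT i hw)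
  obtain ⟨b, hb⟩ := exists_isLE_of_pseudoCoherent
    ((isPseudoCoherentD_iff _ _).2 (((isPerfect_iff P).1 hP).locPC m₁))
  obtain ⟨R₀, hR₀, hR₀V, ⟨e⟩⟩ := exists_extension_step_odd X U V VT hcov hV hOU hOV P hP hPV
    (b - m₁).toNat
  have hfst : IsPcMap m₁ (biprod.fst : P ⊞ P⟦(2 * ((b - m₁).toNat : ℤ) + 1 : ℤ)⟧ ⟶ P) :=
    isPcMap_biprod_fst P _ fun i hi =>
      (DerivedCategory.isZero_of_isLE P b (2 * ((b - m₁).toNat : ℤ) + 1 + i) (by omega)).of_iso
        (hdShift P _ i _ rfl)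
  obtain ⟨R, β, γ, hR, hRV, hβ, hγ⟩ := exists_lift_iso X U V VT hcov hV hOU hOV E hq R₀ hR₀ hR₀V
    (e.hom ≫ biprod.fst ≫ α)
  have hγU : IsPcMap m₁ ((DCoh.restrictD U.ι).map γ) := by
    haveI := hβ
    rw [hγ]
    exact (isPcMap_of_isIso _ _).comp ((isPcMap_of_isIso _ _).comp (hfst.comp ⟨hiso, hepi⟩))
  obtain ⟨C, g, δ, hC⟩ := distinguished_cocone_triangle γ
  have hCq : DCoh.IsQCohD C := isQCohD_obj₃ hC (isQCohD_of_isPerfect hR) hq
  have hCpc : LocPC (m - (max rU 0 + l.length)) C :=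
    (locPC_two_of_three _ _ hC).1 (((isPerfect_iff R).1 hR).locPC _) hpc
  have hCT : ∀ i, m - (max rU 0 + l.length) ≤ i → CohB1.support (DCoh.HD C i) ⊆ (VT : Set X)ᶜ :=
    fun i hi => support_obj₃_subset hC VT (isPcMap_restrictD_of_support γ VT.ι
      (fun j _ w h => support_subset_of_isZero_restrictD VT R hRV j h w.2)
      fun j hj w h => w.2 (hsupp j hj h)) i hi
  have hC₂ : ∀ i, m₁ ≤ i → CohB1.support (DCoh.HD C i) ⊆ ((VT ⊔ U : X.Opens) : Set X)ᶜ :=
    fun i hi x hx hx' => (Opens.mem_sup.1 hx').elim (fun h => hCT i (by omega) hx h)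
      (fun h => support_obj₃_subset hC U hγU i hi hx h)
  obtain ⟨P₂, α₂, hP₂, hP₂z, hα₂⟩ := exists_approx_affine (V : Scheme.{u}) l (V.ι ⁻¹ᵁ (VT ⊔ U)) hl (m := m)
    ((DCoh.restrictD V.ι).obj C) (isQCohD_restrictD _ hCq) ((hCpc.mono (by omega)).restrict V.ι)
    fun i hi w hw hw' => hC₂ i (by omega) ((mem_support_hd_restrictD V.ι C i w).1 hw) hw'
  obtain ⟨P₃, α₃, hP₃, hP₃z, hα₃⟩ := exists_approx_extend V (VT ⊔ U)
    (top_unique fun x _ => by
      rcases Opens.mem_sup.1 (show x ∈ U ⊔ V by rw [hcov]; trivial) with h | h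
      · exact Opens.mem_sup.2 (Or.inr (Opens.mem_sup.2 (Or.inr h)))
      · exact Opens.mem_sup.2 (Or.inl h))
    C P₂ α₂ hP₂ hP₂z hα₂ fun i hi => hC₂ i (by omega)
  obtain ⟨Q, f', g', h', αQ, hQ, -, hαQ⟩ := exists_fibre_pcMap hC α₃ hα₃
  have hP₃V : IsZero ((DCoh.restrictD VT.ι).obj P₃) := (isZero_restrictD_iff_support VT P₃).2
    fun i x hx hx' => support_subset_of_isZero_restrictD _ P₃ hP₃z i hx (Opens.mem_sup.2 (Or.inl hx'))
  exact ⟨Q, αQ, (isPerfect_iff _).2 ((locSP_two_of_three _ hQ).2.1 ((isPerfect_iff _).1 hR)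
      ((isPerfect_iff _).1 hP₃)),
    fun i => (support_subset_of_isZero_restrictD VT Q
      (Triangle.isZero₂_of_isZero₁₃ _ ((DCoh.restrictD VT.ι).map_distinguished _ hQ) hRV hP₃V) i).trans
        hVT.subset,
    hαQ.1, hαQ.2⟩

end Groth.Agent.PerfD40
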