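import Groth.Agent.PerfD40.FreeExtend
import Groth.Agent.PerfD40.IsoScheme
import Groth.Agent.H9Misc.DRingPC
import Groth.Agent.KFlatLib.Scheme.RpushCoprodQCoh

/-!
# Compact objects over an affine scheme are perfect
-/

set_option linter.style.haveILetI false

universe u

open CategoryTheory CategoryTheory.Limits AlgebraicGeometry Pretriangulated

attribute [local instance] HasDerivedCategory.standard

namespace Groth.Agent.PerfD40

open Groth.Agent.KFlatLib

lemma SeesFinitely.of_iso {X : Scheme.{u}} {K L : DCoh.D X} (e : K ≅ L) (h : SeesFinitely K) :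
    SeesFinitely L := fun J G _ hG => (h J G hG).of_iso e

/-- Seeing finitely many summands passes to quasi-compact opens. -/
theorem SeesFinitely.restrict {W X : Scheme.{u}} (j : W ⟶ X) [IsOpenImmersion j] [QuasiCompact j]
    {K : DCoh.D X} (h : SeesFinitely K) : SeesFinitely ((DCoh.restrictD j).obj K) := by
  intro J N _ hN φ
  haveI := hasRpush_scheme j
  haveI : (DCoh.Rpush j).Additive :=
    (exists_rightDerived_triangle (Scheme.Modules.pushforward j) _
      (contractible_distinguished ((DCoh.restrictD j).obj K))).1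
  haveI : HasInjectiveResolutions W.Modules := hasInjectiveResolutions_modules
  haveI : HasColimitsOfShape (Discrete J) (DCoh.D X) := TriCat.hasColimitsOfShape_derivedCategory
  haveI : IsIso (sigmaComparison (DCoh.Rpush j) N) := isIso_sigmaDesc_rpush j N hN
  let adj := restrictRpushAdj j
  obtain ⟨F, hF⟩ := h J (fun i => (DCoh.Rpush j).obj (N i)) (fun i => isQCohD_rpush j (hN i))
    (adj.homEquiv _ _ φ ≫ inv (sigmaComparison (DCoh.Rpush j) N))
  refine ⟨F, (adj.homEquiv _ _).injective ?_⟩
  rw [adj.homEquiv_naturality_right]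
  calc adj.homEquiv _ _ φ ≫ (DCoh.Rpush j).map (partProj N F)
      = (adj.homEquiv _ _ φ ≫ inv (sigmaComparison (DCoh.Rpush j) N)) ≫
          sigmaComparison (DCoh.Rpush j) N ≫ (DCoh.Rpush j).map (partProj N F) := by simp
    _ = adj.homEquiv _ _ φ := by
        rw [sigmaComparison_partProj, ← Category.assoc, hF, Category.assoc, IsIso.inv_hom_id,
          Category.comp_id]

variable {A : CommRingCat.{u}} [PreservesFiniteLimits (tilde.functor A)]

/-- Tildes commute with sums. -/
lemma isIso_sigmaComparison_tildeD {J : Type u} (E : J → DerivedCategory (ModuleCat.{u} A))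
    [HasCoproduct E] [HasCoproduct fun j => (DCoh.tildeD A).obj (E j)] :
    IsIso (sigmaComparison (DCoh.tildeD A) E) := by
  obtain ⟨S, ⟨eS⟩⟩ := exists_tildeD_iso
    (isQCohD_sigma (fun j => (DCoh.tildeD A).obj (E j)) fun j => isQCohD_tildeD A (E j))
  choose ι' hι' using fun j => (tildeD_map_bijective (E j) S).2
    (Sigma.ι (fun j => (DCoh.tildeD A).obj (E j)) j ≫ eS.inv)
  let d' : (DCoh.tildeD A).obj (∐ E) ⟶ ∐ fun j => (DCoh.tildeD A).obj (E j) :=
    (DCoh.tildeD A).map (Sigma.desc ι') ≫ eS.hom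
  refine ⟨d', Sigma.hom_ext _ _ fun j => ?_, ?_⟩
  · rw [ι_comp_sigmaComparison_assoc, Category.comp_id, ← Category.assoc, ← Functor.map_comp,
      Sigma.ι_desc, hι', Category.assoc, eS.inv_hom_id, Category.comp_id]
  · obtain ⟨x, hx⟩ := (tildeD_map_bijective _ _).2 (d' ≫ sigmaComparison (DCoh.tildeD A) E)
    suffices x = 𝟙 _ by rw [← hx, this, CategoryTheory.Functor.map_id]
    refine Sigma.hom_ext _ _ fun j => (tildeD_map_bijective _ _).1 ?_
    rw [Functor.map_comp, hx, Category.comp_id, ← Category.assoc, ← Category.assoc, ← Functor.map_comp,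
      Sigma.ι_desc, hι', Category.assoc (Sigma.ι _ j), eS.inv_hom_id, Category.comp_id,
      ι_comp_sigmaComparison]

/-- Compactness descends from tildes to modules. -/
lemma fixAt_of_seesFinitely_tildeD {M : DerivedCategory (ModuleCat.{u} A)}
    (h : SeesFinitely ((DCoh.tildeD A).obj M)) {J : Type u} (E : J → DerivedCategory (ModuleCat.{u} A))
    [HasCoproduct E] : FixAt E M := by
  intro φ
  haveI : HasColimitsOfShape (Discrete J) (DCoh.D (Spec A)) := TriCat.hasColimitsOfShape_derivedCategory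
  haveI := isIso_sigmaComparison_tildeD E
  obtain ⟨F, hF⟩ := h J _ (fun j => isQCohD_tildeD A (E j))
    ((DCoh.tildeD A).map φ ≫ inv (sigmaComparison (DCoh.tildeD A) E))
  refine ⟨F, (tildeD_map_bijective _ _).1 ?_⟩
  rw [Functor.map_comp]
  calc (DCoh.tildeD A).map φ ≫ (DCoh.tildeD A).map (partProj E F)
      = ((DCoh.tildeD A).map φ ≫ inv (sigmaComparison (DCoh.tildeD A) E)) ≫
          sigmaComparison (DCoh.tildeD A) E ≫ (DCoh.tildeD A).map (partProj E F) := by simp
    _ = (DCoh.tildeD A).map φ := by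
        rw [sigmaComparison_partProj, ← Category.assoc, hF, Category.assoc, IsIso.inv_hom_id,
          Category.comp_id]

omit [PreservesFiniteLimits (tilde.functor A)] in
/-- A map from a compact object into a sum of complexes has few nonzero components. -/
lemma exists_finset_component_eq_zero {M : DerivedCategory (ModuleCat.{u} A)} {J : Type u}
    (hfix : ∀ (E : J → DerivedCategory (ModuleCat.{u} A)) [HasCoproduct E], FixAt E M)
    {C : CochainComplex (ModuleCat.{u} A) ℤ} (e : DerivedCategory.Q.obj C ≅ M)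
    (T : J → CochainComplex (ModuleCat.{u} A) ℤ) (π : ∀ j, C ⟶ T j) (φ : C ⟶ ∐ T)
    (p : ∀ j, ∐ T ⟶ T j) (hφ : ∀ j, φ ≫ p j = π j) (hp : ∀ i j, i ≠ j → Sigma.ι T i ≫ p j = 0) :
    ∃ F : Finset J, ∀ j ∉ F, DerivedCategory.Q.map (π j) = 0 := by
  haveI : HasColimitsOfShape (Discrete J) (DerivedCategory (ModuleCat.{u} A)) :=
    TriCat.hasColimitsOfShape_derivedCategory
  haveI := preservesColimit_Q T
  let c := sigmaComparison (DerivedCategory.Q (C := ModuleCat.{u} A)) T
  obtain ⟨F, hF⟩ := hfix (fun j => DerivedCategory.Q.obj (T j))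
    (e.inv ≫ DerivedCategory.Q.map φ ≫ inv c)
  refine ⟨F, fun j hj => ?_⟩
  have h0 : partProj (fun j => DerivedCategory.Q.obj (T j)) F ≫ c ≫ DerivedCategory.Q.map (p j) = 0 :=
    Sigma.hom_ext _ _ fun i => by
      rw [comp_zero]
      by_cases hi : i ∈ F
      · rw [← Category.assoc, ι_partProj_mem _ hi, ι_comp_sigmaComparison_assoc, ← Functor.map_comp,
          hp i j (fun h => hj (h ▸ hi)), Functor.map_zero]
      · rw [← Category.assoc, ι_partProj_not_mem _ hi, zero_comp]
  apply (cancel_epi e.inv).1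
  rw [comp_zero, ← hφ j, Functor.map_comp]
  calc e.inv ≫ DerivedCategory.Q.map φ ≫ DerivedCategory.Q.map (p j)
      = (e.inv ≫ DerivedCategory.Q.map φ ≫ inv c) ≫ c ≫ DerivedCategory.Q.map (p j) := by simp
    _ = 0 := by rw [← hF, Category.assoc, h0, comp_zero]

omit [PreservesFiniteLimits (tilde.functor A)] in
/-- Compact objects are bounded above. -/
theorem exists_isLE_of_fixAt {M : DerivedCategory (ModuleCat.{u} A)}
    (hfix : ∀ (J : Type u) (E : J → DerivedCategory (ModuleCat.{u} A)) [HasCoproduct E], FixAt E M) :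
    ∃ b : ℤ, M.IsLE b := by
  classical
  let C := DerivedCategory.Q.objPreimage M
  let e : DerivedCategory.Q.obj C ≅ M := DerivedCategory.Q.objObjPreimageIso M
  let T : ULift.{u} ℕ → CochainComplex (ModuleCat.{u} A) ℤ := fun n => C.truncGE (n.down : ℤ)
  let π : ∀ n, C ⟶ T n := fun n => C.πTruncGE (n.down : ℤ)
  let g : ∀ i : ℤ, ℕ → (C.X i ⟶ (∐ T).X i) := fun i n => (π ⟨n⟩).f i ≫ (Sigma.ι T ⟨n⟩).f i
  have hg : ∀ (i : ℤ) (n : ℕ), i < (n : ℤ) → (π ⟨n⟩).f i = 0 := fun i n h =>
    ((C.truncGE (n : ℤ)).isZero_of_isStrictlyGE (n : ℤ) i h).eq_of_tgt _ _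
  have hsum : ∀ (i : ℤ) (s : ℕ), i < (s : ℤ) →
      ∑ n ∈ Finset.range (i.toNat + 1), g i n = ∑ n ∈ Finset.range s, g i n := fun i s hs => by
    by_cases h : i.toNat + 1 ≤ s
    · refine Finset.sum_subset (by simpa using h) fun n _ hn => ?_
      simp only [Finset.mem_range] at hn
      simp [g, hg i n (by omega)]
    · refine (Finset.sum_subset (by simp; omega) fun n _ hn => ?_).symm
      simp only [Finset.mem_range] at hn
      simp [g, hg i n (by omega)]
  let φ : C ⟶ ∐ T :=
    { f := fun i => ∑ n ∈ Finset.range (i.toNat + 1), g i n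
      comm' := fun i j (hij : i + 1 = j) => by
        rw [hsum i (i.natAbs + j.natAbs + 1) (by omega), hsum j (i.natAbs + j.natAbs + 1) (by omega),
          Preadditive.sum_comp, Preadditive.comp_sum]
        refine Finset.sum_congr rfl fun n _ => ?_
        simp only [g, Category.assoc]
        rw [(Sigma.ι T ⟨n⟩).comm i j, ← Category.assoc, (π ⟨n⟩).comm i j, Category.assoc] }
  let p : ∀ n, ∐ T ⟶ T n := fun n =>
    Sigma.desc fun m => if h : m = n then eqToHom (congrArg T h) else 0
  obtain ⟨F, hF⟩ := exists_finset_component_eq_zero (hfix _) e T π φ p (fun n => by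
    ext i : 1
    change (∑ m ∈ Finset.range (i.toNat + 1), g i m) ≫ (p n).f i = _
    rw [hsum i (i.natAbs + n.down + 1) (by omega), Preadditive.sum_comp,
      Finset.sum_eq_single n.down (fun m _ hm => by
        simp only [g, Category.assoc, ← HomologicalComplex.comp_f]
        simp [p, show (⟨m⟩ : ULift.{u} ℕ) ≠ n from fun h => hm (congrArg ULift.down h)])
        (fun h => absurd (Finset.mem_range.2 (by omega)) h)]
    simp only [g, Category.assoc, ← HomologicalComplex.comp_f]
    simp [p]) (fun i j hij => by simp [p, hij])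
  obtain ⟨n, hn⟩ : ∃ n : ℕ, (⟨n⟩ : ULift.{u} ℕ) ∉ F := by
    refine ⟨(F.image ULift.down).sup id + 1, fun h => ?_⟩
    have := Finset.le_sup (f := id) (Finset.mem_image_of_mem ULift.down h)
    simp only [id] at this
    omega
  refine ⟨(n : ℤ), (DerivedCategory.isLE_iff _ _).2 fun i hi => ?_⟩
  haveI := C.quasiIsoAt_πTruncGE (n : ℤ) i (by omega)
  let H := DerivedCategory.homologyFunctor (ModuleCat.{u} A) i
  haveI : IsIso (H.map (DerivedCategory.Q.map (π ⟨n⟩))) :=
    (NatIso.isIso_map_iff (DerivedCategory.homologyFunctorFactors (ModuleCat.{u} A) i) _).2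
      ((quasiIsoAt_iff_isIso_homologyMap _ i).1 inferInstance)
  have h0 : H.map (DerivedCategory.Q.map (π ⟨n⟩)) = 0 := by rw [hF _ hn, Functor.map_zero]
  refine IsZero.of_iso ?_ (H.mapIso e.symm)
  exact (IsZero.iff_id_eq_zero _).2 ((cancel_mono (H.map (DerivedCategory.Q.map (π ⟨n⟩)))).1
    (by rw [h0, comp_zero, comp_zero]))

omit [PreservesFiniteLimits (tilde.functor A)] in
/-- Compact objects are bounded complexes of projectives. -/
theorem exists_projective_rep_of_fixAt {M : DerivedCategory (ModuleCat.{u} A)}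
    (hfix : ∀ (J : Type u) (E : J → DerivedCategory (ModuleCat.{u} A)) [HasCoproduct E], FixAt E M) :
    ∃ (P : CochainComplex (ModuleCat.{u} A) ℤ) (a b : ℤ), (∀ i, i < a ∨ b < i → IsZero (P.X i)) ∧
      (∀ i, Projective (P.X i)) ∧ Nonempty (DerivedCategory.Q.obj P ≅ M) := by
  classical
  obtain ⟨b, hb⟩ := exists_isLE_of_fixAt hfix
  haveI := hb
  obtain ⟨C, hC, ⟨eC⟩⟩ := M.exists_iso_Q_obj_of_isLE b
  obtain ⟨L, α, hLb, hLp, -, hα⟩ := TriCat.exists_quasiIso_left_resolution
    (fun X : ModuleCat.{u} A => Projective X)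
    ⟨ModuleCat.of A PUnit.{u + 1}, ModuleCat.isZero_of_subsingleton _,
      (ModuleCat.isZero_of_subsingleton _).projective⟩
    (fun X => ⟨Projective.over X, Projective.π X, inferInstance, inferInstance⟩) C b
  haveI := hLb
  haveI : IsIso (DerivedCategory.Q.map α) := (DerivedCategory.isIso_Q_map_iff_quasiIso (φ := α)).2 hα
  let e : DerivedCategory.Q.obj L ≅ M := asIso (DerivedCategory.Q.map α) ≪≫ eC.symm
  haveI : ∀ i, Projective (L.X i) := hLp
  haveI : L.IsKProjective := CochainComplex.isKProjective_of_projective L b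
  let T : ULift.{u} ℤ → CochainComplex (ModuleCat.{u} A) ℤ := fun n =>
    (HomologicalComplex.single (ModuleCat.{u} A) (ComplexShape.up ℤ) n.down).obj (L.opcycles n.down)
  let π : ∀ n, L ⟶ T n := fun n =>
    HomologicalComplex.mkHomToSingle (L.pOpcycles n.down) fun i _ => L.d_pOpcycles i n.down
  let φ : L ⟶ ∐ T :=
    { f := fun i => L.pOpcycles i ≫
        (HomologicalComplex.singleObjXSelf (ComplexShape.up ℤ) i (L.opcycles i)).inv ≫
          (Sigma.ι T ⟨i⟩).f i
      comm' := fun i j (hij : i + 1 = j) => by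
        rw [Category.assoc, Category.assoc, (Sigma.ι T ⟨i⟩).comm i j]
        simp [T] }
  let p : ∀ n, ∐ T ⟶ T n := fun n =>
    Sigma.desc fun m => if h : m = n then eqToHom (congrArg T h) else 0
  obtain ⟨F, hF⟩ := exists_finset_component_eq_zero (hfix _) e T π φ p (fun n => by
    obtain ⟨k⟩ := n
    refine HomologicalComplex.to_single_hom_ext ?_
    dsimp [φ, π]
    simp only [Category.assoc, ← HomologicalComplex.comp_f]
    simp [p]
    rfl) (fun i j hij => by simp [p, hij])
  have key : ∀ j : ℤ, (⟨j⟩ : ULift.{u} ℤ) ∉ F → IsZero (L.homology j) ∧ Projective (L.opcycles j) := by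
    intro j hj
    let hh : Homotopy (π ⟨j⟩) 0 := HomotopyCategory.homotopyOfEq _ _
      ((CochainComplex.IsKProjective.Qh_map_bijective L _).1 (by
        rw [Functor.map_zero, Functor.map_zero]
        exact ((cancel_mono ((DerivedCategory.quotientCompQhIso _).hom.app (T ⟨j⟩))).1 (by
          rw [zero_comp]
          exact ((DerivedCategory.quotientCompQhIso _).hom.naturality (π ⟨j⟩)).trans (by
            rw [hF _ hj, comp_zero])))))
    let s : L.X (j + 1) ⟶ L.opcycles j :=
      hh.hom (j + 1) j ≫ (HomologicalComplex.singleObjXSelf (ComplexShape.up ℤ) j (L.opcycles j)).hom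
    have hs : L.pOpcycles j = L.d j (j + 1) ≫ s := by
      have := hh.comm j
      rw [dNext_eq _ (show (ComplexShape.up ℤ).Rel j (j + 1) from rfl),
        prevD_eq _ (show (ComplexShape.up ℤ).Rel (j - 1) j by simp)] at this
      simp only [HomologicalComplex.zero_f, add_zero] at this
      rw [show (T ⟨j⟩).d (j - 1) j = 0 from HomologicalComplex.single_obj_d _ _ _ _ _,
        comp_zero, add_zero] at this
      have h' := this =≫ (HomologicalComplex.singleObjXSelf (ComplexShape.up ℤ) j (L.opcycles j)).hom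
      simp only [π, Category.assoc] at h'
      erw [HomologicalComplex.mkHomToSingle_f] at h'
      simpa [s] using h'
    have hret : L.fromOpcycles j (j + 1) ≫ s = 𝟙 _ := by
      rw [← cancel_epi (L.pOpcycles j), HomologicalComplex.p_fromOpcycles_assoc, ← hs, Category.comp_id]
    refine ⟨?_, (Retract.mk (L.fromOpcycles j (j + 1)) s hret).projective⟩
    haveI : Mono (L.fromOpcycles j (j + 1)) := SplitMono.mono ⟨s, hret⟩
    exact (IsZero.iff_id_eq_zero _).2 ((cancel_mono (L.homologyι j)).1
      ((cancel_mono (L.fromOpcycles j (j + 1))).1 (by simp)))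
  obtain ⟨m, hm⟩ : ∃ m : ℤ, ∀ j ≤ m, (⟨j⟩ : ULift.{u} ℤ) ∉ F := by
    obtain ⟨m, hm⟩ := (F.image ULift.down).bddBelow
    refine ⟨m - 1, fun j hj h => ?_⟩
    have := hm (Finset.mem_coe.2 (Finset.mem_image_of_mem ULift.down h))
    simp only at this
    omega
  haveI : L.IsGE m := (CochainComplex.isGE_iff L m).2 fun i hi =>
    (HomologicalComplex.exactAt_iff_isZero_homology _ _).2 (key i (hm i (by omega))).1
  haveI : QuasiIso (L.πTruncGE m) := (L.quasiIso_πTruncGE_iff m).2 inferInstance
  refine ⟨L.truncGE m, m, max b m, fun i hi => ?_, fun i => ?_,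
    ⟨(asIso (DerivedCategory.Q.map (L.πTruncGE m))).symm ≪≫ e⟩⟩
  · rcases hi with hi | hi
    · exact (L.truncGE m).isZero_of_isStrictlyGE m i hi
    · exact (L.isZero_of_isStrictlyLE b i (by omega)).of_iso (L.truncGEXIso m i (by omega))
  · rcases lt_trichotomy i m with hi | rfl | hi
    · exact ((L.truncGE m).isZero_of_isStrictlyGE m i hi).projective
    · haveI := (key i (hm i le_rfl)).2
      exact Projective.of_iso (L.truncGEXIsoOpcycles i).symm inferInstance
    · exact Projective.of_iso (L.truncGEXIso m i hi).symm inferInstance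

/-- A retract of a perfect complex is perfect. -/
lemma RPerf.of_retract {M R : DerivedCategory (ModuleCat.{u} A)} (ρ : Retract M R) (h : RPerf R) :
    RPerf M := by
  obtain ⟨C, g, δ, hT⟩ := distinguished_cocone_triangle ρ.i
  haveI : Mono ρ.i := SplitMono.mono ⟨ρ.r, ρ.retract⟩
  obtain ⟨e, -, -⟩ := exists_iso_binaryBiproduct_of_distTriang _ hT
    ((Triangle.mor₃_eq_zero_iff_mono₁ _ hT).2 (show Mono ρ.i from inferInstance))
  have h' : DRing.IsPerfect A R := h
  exact (H9Misc.DRingPC.isPerfect_summand (H9Misc.DRingPC.isPerfect_of_iso e h')).1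

/-- Compact objects of `D_QCoh` of an affine scheme are perfect. -/
theorem rperf_of_seesFinitely {M : DerivedCategory (ModuleCat.{u} A)}
    (h : SeesFinitely ((DCoh.tildeD A).obj M)) : RPerf M := by
  obtain ⟨P, a, b, hz, hp, ⟨eP⟩⟩ := exists_projective_rep_of_fixAt
    fun J E _ => fixAt_of_seesFinitely_tildeD h E
  let e : ((⊤ : (Spec A).Opens) : Scheme.{u}) ≅ Spec A := (Spec A).topIso
  have hU : IsCompact ((⊤ : (Spec A).Opens) : Set (Spec A)) := isCompact_univ
  let Q₀ := (DCoh.restrictD (⊤ : (Spec A).Opens).ι).obj ((DCoh.tildeD A).obj M)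
  haveI : QuasiCompact (⊤ : (Spec A).Opens).ι := inferInstanceAs (QuasiCompact e.hom)
  have hbd₀ : HomBddAt a b Q₀ := by
    refine HomBddAt.of_schemeIso e.symm ?_
    exact (homBddAt_tildeD P a b hz hp _ ((DCoh.tildeD A).mapIso eP)).of_iso
      ((restrictDId _).symm.app _ ≪≫
        (restrictDComp e.inv e.hom (𝟙 _) e.inv_hom_id).symm.app ((DCoh.tildeD A).obj M))
  have hLE : Q₀.IsLE b := (DerivedCategory.isLE_iff _ _).2 fun i hi => by
    haveI : P.IsStrictlyLE b := (CochainComplex.isStrictlyLE_iff _ _).2 fun j hj => hz j (Or.inr hj)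
    exact ((Scheme.Modules.restrictFunctor (⊤ : (Spec A).Opens).ι).map_isZero
      (((tilde.functor A).map_isZero ((DerivedCategory.isZero_of_isLE (DerivedCategory.Q.obj P) b i hi).of_iso
        ((DerivedCategory.homologyFunctor _ i).mapIso eP.symm))).of_iso
          ((mapDCHomologyIso (tilde.functor A) i).app M))).of_iso (hdRestrictIso _ _ i)
  obtain ⟨R, hR, ⟨ρ⟩⟩ := exists_retract_free_of hU (isQCohD_toU ⊤ M)
    (h.restrict (⊤ : (Spec A).Opens).ι) b hLE a b hbd₀
  haveI : (DCoh.restrictD (⊤ : (Spec A).Opens).ι).Full := inferInstanceAs (restrictDEquiv e).functor.Full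
  haveI : (DCoh.restrictD (⊤ : (Spec A).Opens).ι).Faithful :=
    inferInstanceAs (restrictDEquiv e).functor.Faithful
  obtain ⟨i₁, hi₁⟩ := (DCoh.restrictD (⊤ : (Spec A).Opens).ι).map_surjective ρ.i
  obtain ⟨r₁, hr₁⟩ := (DCoh.restrictD (⊤ : (Spec A).Opens).ι).map_surjective ρ.r
  obtain ⟨i₂, rfl⟩ := (tildeD_map_bijective _ _).2 i₁
  obtain ⟨r₂, rfl⟩ := (tildeD_map_bijective _ _).2 r₁
  refine RPerf.of_retract ⟨i₂, r₂, (tildeD_map_bijective _ _).1 ?_⟩ hR
  apply (DCoh.restrictD (⊤ : (Spec A).Opens).ι).map_injective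
  rw [Functor.map_comp, Functor.map_comp, hi₁, hr₁, CategoryTheory.Functor.map_id,
    CategoryTheory.Functor.map_id]
  exact ρ.retract

/-- Compact objects of `D_QCoh` of an affine scheme are perfect. -/
theorem isPerfect_of_seesFinitely_spec {K : DCoh.D (Spec A)} (hq : DCoh.IsQCohD K) (h : SeesFinitely K) :
    DCoh.IsPerfect K := by
  obtain ⟨M, ⟨eM⟩⟩ := exists_tildeD_iso hq
  exact (isPerfect_iff _).2 (((isPerfect_iff _).1
    ((perfect_tildeD_iff M).2 (rperf_of_seesFinitely (h.of_iso eM.symm)))).of_iso eM)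

end Groth.Agent.PerfD40
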