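import Groth.Agent.MorLib.FlatBC
import Groth.Agent.KFlatLib.Scheme.Exact
import Groth.Agent.KFlatLib.Scheme.PullCx
import Groth.Agent.FlatMisc.RingPullback

/-!
# Pullback along a base change is exact on sequences with quotient flat over the base
-/

set_option linter.style.haveILetI false
set_option backward.isDefEq.respectTransparency false
set_option backward.isDefEq.respectTransparency.types false

universe u

open CategoryTheory CategoryTheory.Limits AlgebraicGeometry TensorProduct

namespace Groth.Agent.PerfD40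

theorem injective_core {R A R' B' L O N₁ N₂ N₃ : Type u} [CommRing R] [CommRing A] [CommRing R']
    [CommRing B'] [CommRing L] [CommRing O] [Algebra R A] [Algebra R R'] [Algebra A B'] [Algebra R' B']
    [Algebra R B'] [IsScalarTower R A B'] [IsScalarTower R R' B'] [Algebra.IsPushout R R' A B']
    [Algebra B' L] [Algebra A L] [IsScalarTower A B' L] [Module.Flat B' L]
    [Algebra A O] (S : Submonoid A) [IsLocalization S O] [Algebra O L] [IsScalarTower A O L]
    [AddCommGroup N₁] [Module O N₁] [Module A N₁] [IsScalarTower A O N₁] [Module R N₁] [IsScalarTower R A N₁]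
    [AddCommGroup N₂] [Module O N₂] [Module A N₂] [IsScalarTower A O N₂] [Module R N₂] [IsScalarTower R A N₂]
    [AddCommGroup N₃] [Module O N₃] [Module A N₃] [IsScalarTower A O N₃] [Module R N₃] [IsScalarTower R A N₃]
    [Module.Flat R N₃] (i : N₁ →ₗ[O] N₂) (p : N₂ →ₗ[O] N₃) (hi : Function.Injective i)
    (hp : Function.Surjective p) (h : Function.Exact i p) :
    Function.Injective (i.lTensor L) := by
  let iA : N₁ →ₗ[A] N₂ := i.restrictScalars A
  have h1 : Function.Injective ((iA.restrictScalars R).lTensor R') :=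
    LinearMap.lTensor_injective_of_exact_of_flat ((p.restrictScalars A).restrictScalars R) hp _ hi h R'
  have h2 : Function.Injective (iA.baseChange B') := by
    let eK := Algebra.IsPushout.cancelBaseChange R R' A B' N₁
    let eF := Algebra.IsPushout.cancelBaseChange R R' A B' N₂
    have hcomm : ∀ x, iA.baseChange B' (eK.symm x) = eF.symm ((iA.restrictScalars R).lTensor R' x) :=
      fun x => by
        induction x with
        | zero => simp
        | add x y hx hy => simp only [map_add, hx, hy]
        | tmul a m => simp [eK, eF]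
    intro x y hxy
    rw [← eK.symm_apply_apply x, ← eK.symm_apply_apply y, hcomm, hcomm] at hxy
    exact eK.injective (h1 (eF.symm.injective hxy))
  have h3 : Function.Injective ((iA.baseChange B').lTensor L) :=
    Module.Flat.lTensor_preserves_injective_linearMap _ h2
  have h4 : Function.Injective (iA.lTensor L) := by
    let eK := AlgebraTensorModule.cancelBaseChange A B' L L N₁
    let eF := AlgebraTensorModule.cancelBaseChange A B' L L N₂
    have hcomm : ∀ x, iA.lTensor L (eK x) = eF ((iA.baseChange B').lTensor L x) := fun x => by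
      induction x using TensorProduct.induction_on with
      | zero => simp
      | add x y hx hy => simp only [map_add, hx, hy]
      | tmul l w =>
        induction w using TensorProduct.induction_on with
        | zero => simp
        | add a b ha hb => simp only [tmul_add, map_add, ha, hb]
        | tmul b n => simp [eK, eF]
    intro x y hxy
    rw [← eK.apply_symm_apply x, ← eK.apply_symm_apply y, hcomm, hcomm] at hxy
    exact eK.symm.injective (h3 (eF.injective hxy))
  haveI := IsLocalization.tensorProduct_compatibleSMul S O L N₁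
  haveI := IsLocalization.tensorProduct_compatibleSMul S O L N₂
  let eK := equivOfCompatibleSMul A O L L N₁
  let eF := equivOfCompatibleSMul A O L L N₂
  have hcomm : ∀ x, eF (i.lTensor L x) = iA.lTensor L (eK x) := fun x => by
    induction x using TensorProduct.induction_on with
    | zero => simp
    | add x y hx hy => simp only [map_add, hx, hy]
    | tmul l n => rfl
  intro x y hxy
  exact eK.injective (h4 (by rw [← hcomm, ← hcomm, hxy]))

variable {X S X' S' : Scheme.{u}}

set_option maxHeartbeats 800000 in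
theorem injective_stalk_baseChange (f : X ⟶ S) (f' : X' ⟶ S') (g' : X' ⟶ X)
    (g : S' ⟶ S) (hc : IsPullback g' f' f g) {F G H : X.Modules} (x' : X')
    (i : F.presheaf.stalk (g' x') →ₗ[X.presheaf.stalk (g' x')] G.presheaf.stalk (g' x'))
    (p : G.presheaf.stalk (g' x') →ₗ[X.presheaf.stalk (g' x')] H.presheaf.stalk (g' x'))
    (hi : Function.Injective i) (hp : Function.Surjective p) (hex : Function.Exact i p)
    (h : FlatMod.IsFlatOverAt f H (g' x')) :
    letI : Algebra (X.presheaf.stalk (g' x')) (X'.presheaf.stalk x') := (g'.stalkMap x').hom.toAlgebra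
    Function.Injective (i.lTensor (X'.presheaf.stalk x')) := by
  obtain ⟨U, hU, hxU, -⟩ := exists_isAffineOpen_mem_and_subset (x := f (g' x')) (U := ⊤) trivial
  obtain ⟨V, hV, hxV, hVU'⟩ := exists_isAffineOpen_mem_and_subset (x := g' x') (U := f ⁻¹ᵁ U) hxU
  have hVU : V ≤ f ⁻¹ᵁ U := hVU'
  have hyU : f' x' ∈ g ⁻¹ᵁ U := by
    show g (f' x') ∈ U
    rw [← Scheme.Hom.comp_apply, ← hc.w]; exact hxU
  obtain ⟨U', hU', hyU', hU'U'⟩ := exists_isAffineOpen_mem_and_subset (x := f' x') (U := g ⁻¹ᵁ U) hyU
  have hU'U : U' ≤ g ⁻¹ᵁ U := hU'U'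
  let W : X'.Opens := g' ⁻¹ᵁ V ⊓ f' ⁻¹ᵁ U'
  have hxW : x' ∈ W := ⟨hxV, hyU'⟩
  have hW : IsAffineOpen W := by
    haveI : IsAffine _ := hU
    haveI : IsAffine _ := hU'
    haveI : IsAffine _ := hV
    exact .of_isIso (Scheme.Hom.isPullback_resLE hc hU'U hVU (UY := W) rfl).isoPullback.hom
  have hpo := (isIso_pushoutSection_iff hc hU'U hVU (UY := W) rfl).mp
    (isIso_pushoutSection_of_isAffineOpen hc hU'U hVU rfl hU hU' hV)
  letI : Algebra Γ(S, U) Γ(X, V) := (f.appLE U V hVU).hom.toAlgebra
  letI : Algebra Γ(S, U) Γ(S', U') := (g.appLE U U' hU'U).hom.toAlgebra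
  letI : Algebra Γ(X, V) Γ(X', W) := (g'.appLE V W inf_le_left).hom.toAlgebra
  letI : Algebra Γ(S', U') Γ(X', W) := (f'.appLE U' W inf_le_right).hom.toAlgebra
  letI : Algebra Γ(S, U) Γ(X', W) := (f.appLE U V hVU ≫ g'.appLE V W inf_le_left).hom.toAlgebra
  haveI : IsScalarTower Γ(S, U) Γ(X, V) Γ(X', W) := .of_algebraMap_eq fun _ => rfl
  haveI : IsScalarTower Γ(S, U) Γ(S', U') Γ(X', W) := .of_algebraMap_eq fun r => congr($(hpo.w).hom r)
  haveI : Algebra.IsPushout Γ(S, U) Γ(S', U') Γ(X, V) Γ(X', W) :=
    CommRingCat.isPushout_iff_isPushout.mp hpo.flip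
  letI : Algebra Γ(X', W) (X'.presheaf.stalk x') := (X'.presheaf.germ W x' hxW).hom.toAlgebra
  letI : Algebra Γ(X, V) (X'.presheaf.stalk x') :=
    (g'.appLE V W inf_le_left ≫ X'.presheaf.germ W x' hxW).hom.toAlgebra
  haveI : IsScalarTower Γ(X, V) Γ(X', W) (X'.presheaf.stalk x') := .of_algebraMap_eq fun _ => rfl
  haveI : Module.Flat Γ(X', W) (X'.presheaf.stalk x') :=
    haveI := hW.isLocalization_stalk ⟨x', hxW⟩
    IsLocalization.flat (X'.presheaf.stalk x') (hW.primeIdealOf ⟨x', hxW⟩).asIdeal.primeCompl
  letI : Algebra Γ(X, V) (X.presheaf.stalk (g' x')) := (X.presheaf.germ V (g' x') hxV).hom.toAlgebra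
  haveI := hV.isLocalization_stalk ⟨g' x', hxV⟩
  letI : Algebra (X.presheaf.stalk (g' x')) (X'.presheaf.stalk x') := (g'.stalkMap x').hom.toAlgebra
  haveI : IsScalarTower Γ(X, V) (X.presheaf.stalk (g' x')) (X'.presheaf.stalk x') :=
    .of_algebraMap_eq fun a => by
      show X'.presheaf.germ W x' hxW (g'.appLE V W inf_le_left a) =
        g'.stalkMap x' (X.presheaf.germ V (g' x') hxV a)
      rw [Scheme.Hom.germ_stalkMap_apply g' V x' hxV a]
      exact X'.presheaf.germ_res_apply (homOfLE inf_le_left) x' hxW _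
  letI mA : ∀ M : X.Modules, Module Γ(X, V) (M.presheaf.stalk (g' x')) :=
    fun M => Module.compHom _ (X.presheaf.germ V (g' x') hxV).hom
  haveI : ∀ M : X.Modules, IsScalarTower Γ(X, V) (X.presheaf.stalk (g' x')) (M.presheaf.stalk (g' x')) :=
    fun M => .of_algebraMap_smul fun _ _ => rfl
  letI mR : ∀ M : X.Modules, Module Γ(S, U) (M.presheaf.stalk (g' x')) :=
    fun M => Module.compHom _ ((f.appLE U V hVU) ≫ X.presheaf.germ V (g' x') hxV).hom
  haveI : ∀ M : X.Modules, IsScalarTower Γ(S, U) Γ(X, V) (M.presheaf.stalk (g' x')) :=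
    fun M => .of_algebraMap_smul fun _ _ => rfl
  haveI : Module.Flat Γ(S, U) (H.presheaf.stalk (g' x')) :=
    (QCoh.isFlatOverAt_iff f hU hVU hxV).mp h
  exact injective_core (R := Γ(S, U)) (R' := Γ(S', U')) (A := Γ(X, V)) (B' := Γ(X', W))
    (hV.primeIdealOf ⟨g' x', hxV⟩).asIdeal.primeCompl i p hi hp hex

/-- Pullback along a base change preserves short exact sequences with quotient flat over the base. -/
theorem shortExact_pullback_of_flatOver (f : X ⟶ S) (f' : X' ⟶ S') (g' : X' ⟶ X) (g : S' ⟶ S)
    (hc : IsPullback g' f' f g) {T : ShortComplex X.Modules} (hT : T.ShortExact)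
    (hC : FlatMod.IsFlatOver f T.X₃) : (T.map (Scheme.Modules.pullback g')).ShortExact := by
  rw [KFlatLib.shortExact_iff_stalk]
  intro x'
  refine ShortComplex.shortExact_of_iso (T.mapNatIso (KFlatLib.stalkPullbackIso g' x')).symm ?_
  have hs := (KFlatLib.shortExact_iff_stalk T).1 hT (g' x')
  haveI := (ModuleCat.extendRestrictScalarsAdj (g'.stalkMap x').hom).leftAdjoint_preservesColimits
  haveI := hs.epi_g
  have hex := hs.exact.map_of_epi_of_preservesCokernel
    (ModuleCat.extendScalars (g'.stalkMap x').hom) hs.epi_g inferInstance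
  have hinj := injective_stalk_baseChange f f' g' g hc x' ((T.map (DerSch.stalkFunctor X (g' x'))).f.hom)
    ((T.map (DerSch.stalkFunctor X (g' x'))).g.hom) hs.moduleCat_injective_f hs.moduleCat_surjective_g
    ((ShortComplex.ShortExact.moduleCat_exact_iff_function_exact _).1 hs.exact) (hC (g' x'))
  refine ShortComplex.ShortExact.mk' hex ?_ ?_
  · refine (ModuleCat.mono_iff_injective _).2 ?_
    intro a b hab
    exact hinj hab
  · exact Functor.map_epi (ModuleCat.extendScalars (g'.stalkMap x').hom) (T.map (DerSch.stalkFunctor X (g' x'))).g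

end Groth.Agent.PerfD40
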