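import Groth.Agent.CExt24.Models
import Groth.Agent.Pic13Lib.ConstEuler
import Groth.Agent.QCoh.Support
import Groth.Prelude.Def_PerfAux

/-!
# Semicontinuity and constancy of Euler characteristics of fibres of proper flat families
-/

set_option linter.style.haveILetI false
set_option backward.isDefEq.respectTransparency false
set_option backward.isDefEq.respectTransparency.types false

universe u

open CategoryTheory CategoryTheory.Limits AlgebraicGeometry TopologicalSpace Opposite

noncomputable section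

namespace Groth.Agent.PerfD40

variable {X S : Scheme.{u}} (f : X ⟶ S) (F : X.Modules)

/-- The two fibre ranks agree. -/
theorem betti_eq_fiberRank (s : S) (i : ℕ) : PerfAux.betti f F s i = CohIII.fiberRank f F i s := rfl

variable [IsProper f] [LocallyOfFinitePresentation f] {F}
  (hfp : CohB1.IsFP F) (hfl : FlatMod.IsFlatOver f F)
include hfp hfl

/-- Local models of the fibre cohomology. -/
theorem exists_local_dRank (y : S) :
    ∃ (V : S.Opens) (hV : IsAffineOpen V) (P : ChainComplex (ModuleCat.{u} Γ(S, V)) ℤ),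
      y ∈ V ∧ CExt24.IsFinModel P ∧
        ∀ (z : S) (hz : z ∈ V) (p : ℕ), PerfAux.betti f F z p =
          CohIII.dRank P (-(p : ℤ)) (hV.primeIdealOf ⟨z, hz⟩) := by
  obtain ⟨V, hV, hy, -⟩ := exists_isAffineOpen_mem_and_subset (x := y) (U := ⊤) trivial
  obtain ⟨P, hP⟩ := CExt24.hasModels f (QCoh.isQCoh_of_isFP hfp) hfp hfl V hV
  exact ⟨V, hV, P, hy, hP.1, fun z hz p => (betti_eq_fiberRank f F z p).trans
    (CExt24.fiberRank_eq_dRank f hV hz (QCoh.isQCoh_of_isFP hfp) hP.2 p)⟩

/-- Fibre cohomology is upper semicontinuous. -/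
theorem isOpen_betti_fibre_lt (i n : ℕ) : IsOpen {s : S | PerfAux.betti f F s i < n} := by
  refine isOpen_iff_eventually.2 fun y hy => ?_
  obtain ⟨V, hV, P, hyV, hP, he⟩ := exists_local_dRank f hfp hfl y
  have hfpP : ∀ j, Module.FinitePresentation Γ(S, V) (P.X j) := fun j =>
    haveI := hP.free j
    haveI := hP.finite j
    Module.finitePresentation_of_projective _ _
  have ho : IsOpen {x | CohIII.dRank P (-(i : ℤ)) x < n} :=
    upperSemicontinuous_iff_isOpen_preimage.1 (FlatCxLib.upperSemicontinuous_dRank P hfpP hP.flat _) n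
  have hcont : Continuous fun z : V => hV.primeIdealOf z := by
    show Continuous fun z : V => hV.isoSpec.hom z
    exact hV.isoSpec.hom.continuous
  have hy' : CohIII.dRank P (-(i : ℤ)) (hV.primeIdealOf ⟨y, hyV⟩) < n := he y hyV i ▸ hy
  have h2 := ((ho.preimage hcont).mem_nhds (x := (⟨y, hyV⟩ : V)) hy')
  rw [nhds_subtype_eq_comap, Filter.mem_comap] at h2
  obtain ⟨W, hW, hWsub⟩ := h2
  filter_upwards [hW, V.2.mem_nhds hyV] with z hz hzV
  show PerfAux.betti f F z i < n
  rw [he z hzV]
  exact hWsub (show (⟨z, hzV⟩ : V).1 ∈ W from hz)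

/-- The Euler characteristic of the fibres is locally constant. -/
theorem isLocallyConstant_eulerChar_fibre :
    IsLocallyConstant fun s : S => PerfAux.eulerChar f F s := by
  refine IsLocallyConstant.iff_eventually_eq _ |>.2 fun y => ?_
  obtain ⟨V, hV, P, hyV, hP, he⟩ := exists_local_dRank f hfp hfl y
  obtain ⟨c, hc⟩ := hP.bdd
  have h := Pic13Lib.eventually_sum_dRank hP.finite hP.free hc hP.pos (d := (1 - c).toNat) (by omega)
    (hV.primeIdealOf ⟨y, hyV⟩)
  have hcont : Continuous fun z : V => hV.primeIdealOf z := by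
    show Continuous fun z : V => hV.isoSpec.hom z
    exact hV.isoSpec.hom.continuous
  have h2 := (hcont.tendsto (⟨y, hyV⟩ : V)).eventually h
  rw [nhds_subtype_eq_comap, Filter.eventually_comap] at h2
  have hsum : ∀ z (hz : z ∈ V), PerfAux.eulerChar f F z = ∑ p ∈ Finset.range (1 - c).toNat,
      (-1 : ℤ) ^ p * (CohIII.dRank P (-(p : ℤ)) (hV.primeIdealOf ⟨z, hz⟩) : ℤ) := fun z hz => by
    unfold PerfAux.eulerChar
    rw [finsum_eq_sum_of_support_subset _ (s := Finset.range (1 - c).toNat) ?_]
    · exact Finset.sum_congr rfl fun p _ => by rw [he z hz p]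
    · intro p hp
      by_contra hp'
      refine hp ?_
      simp only [Finset.coe_range, Set.mem_Iio, not_lt] at hp'
      show (-1 : ℤ) ^ p * (PerfAux.betti f F z p : ℤ) = 0
      rw [he z hz p, Pic13Lib.dRank_eq_zero_of_isZero P hP.finite _ (hc _ (by omega)),
        Nat.cast_zero, mul_zero]
  filter_upwards [h2, V.2.mem_nhds hyV] with z hz hzV
  rw [hsum z hzV, hsum y hyV]
  exact hz ⟨z, hzV⟩ rfl

end Groth.Agent.PerfD40
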