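import Groth.Agent.PerfD40.FPSupport
import Groth.Agent.CExt24.Models
import Groth.Agent.CExt24.BCCore
import Groth.Agent.CExt24.PushEdge
import Groth.Agent.S6366
import Groth.Agent.QCoh.ProperOver

/-!
# Cohomology of finitely presented flat families over a coherent ring
-/

set_option autoImplicit false
set_option linter.style.haveILetI false
set_option backward.isDefEq.respectTransparency false
set_option backward.isDefEq.respectTransparency.types false
set_option maxHeartbeats 800000

universe u

open CategoryTheory CategoryTheory.Limits AlgebraicGeometry TopologicalSpace Opposite MonoidalCategory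

noncomputable section

namespace Groth.Agent.PerfD40

/-- Over a coherent ring the homology of finitely presented modules is finitely presented. -/
theorem finitePresentation_homology {R : Type u} [CommRing R]
    (hR : ∀ I : Ideal R, I.FG → Module.FinitePresentation R I) (S : ShortComplex (ModuleCat.{u} R))
    [Module.Finite R S.X₁] [Module.FinitePresentation R S.X₂] [Module.FinitePresentation R S.X₃] :
    Module.FinitePresentation R S.homology := by
  haveI hr : Module.FinitePresentation R (LinearMap.range S.g.hom) :=
    ((S6366.result R hR S.X₃).2 inferInstance).2 _ (Module.Finite.iff_fg.1 (Module.Finite.range _))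
  have hk : (LinearMap.ker S.g.hom).FG := by
    rw [← LinearMap.ker_rangeRestrict]
    exact Module.FinitePresentation.fg_ker _ (LinearMap.surjective_rangeRestrict _)
  haveI : Module.FinitePresentation R (LinearMap.ker S.g.hom) :=
    ((S6366.result R hR S.X₂).2 inferInstance).2 _ hk
  haveI this : Module.FinitePresentation R (LinearMap.ker S.g.hom ⧸ LinearMap.range S.moduleCatToCycles) :=
    Module.finitePresentation_of_surjective (LinearMap.range S.moduleCatToCycles).mkQ
      (Submodule.mkQ_surjective _) (by
        rw [Submodule.ker_mkQ]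
        exact Module.Finite.iff_fg.1 (Module.Finite.range _))
  haveI : Module.FinitePresentation R S.moduleCatLeftHomologyData.H := this
  exact Module.FinitePresentation.of_equiv S.moduleCatHomologyIso.toLinearEquiv.symm

/-- Cohomology of a proper flat finitely presented family over a coherent ring is finitely presented. -/
theorem finitePresentation_of_model {R : Type u} [CommRing R]
    (hR : ∀ I : Ideal R, I.FG → Module.FinitePresentation R I) {Z : Scheme.{u}}
    (p : Z ⟶ Spec (CommRingCat.of R)) [IsProper p] [LocallyOfFinitePresentation p] {G : Z.Modules}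
    (hG : CohB1.IsFP G) (hfl : FlatMod.IsFlatOver p G) (i : ℕ) :
    letI := Module.compHom (Coh.HH Z G i) (Coh.toGlobal p)
    Module.FinitePresentation R (Coh.HH Z G i) := by
  letI := Module.compHom (Coh.HH Z G i) (Coh.toGlobal p)
  obtain ⟨P, hP, hM⟩ := CExt24.exists_model_of_proper p (QCoh.isQCoh_of_isFP hG) hG hfl
  have hsq : IsPullback (𝟙 Z) p p (Spec.map (CommRingCat.ofHom (algebraMap R R))) := by
    rw [show CommRingCat.ofHom (algebraMap R R) = 𝟙 (CommRingCat.of R) from rfl, Spec.map_id]
    exact IsPullback.of_horiz_isIso ⟨by simp⟩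
  obtain ⟨θ, -, h1, -, -⟩ := CExt24.exists_bc_core hsq (QCoh.isQCoh_of_isFP hG) hM i
  let l : Coh.HH Z G i ≃ₗ[R] CohIII.T P (-(i : ℤ)) (ModuleCat.of R R) :=
    { θ with map_smul' := fun a x => h1 a x }
  let K := CohIII.tensorObj P (ModuleCat.of R R)
  have hX : ∀ j, Module.FinitePresentation R (K.X j) := fun j => by
    haveI := hP.finite j
    haveI := hP.free j
    haveI := Module.finitePresentation_of_projective R (P.X j)
    exact Module.FinitePresentation.of_equiv (ρ_ (P.X j)).symm.toLinearEquiv
  haveI := hX
  haveI : Module.FinitePresentation R (K.sc (-(i : ℤ))).X₂ := hX _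
  haveI : Module.FinitePresentation R (K.sc (-(i : ℤ))).X₁ := hX _
  haveI : Module.FinitePresentation R (K.sc (-(i : ℤ))).X₃ := hX _
  haveI : Module.FinitePresentation R (CohIII.T P (-(i : ℤ)) (ModuleCat.of R R)) :=
    finitePresentation_homology hR (K.sc (-(i : ℤ)))
  exact Module.FinitePresentation.of_equiv l.symm

/-- Cohomology of finitely presented flat modules with proper support over a coherent ring is finitely
presented. -/
theorem finitePresentation_HH {R : Type u} [CommRing R]
    (hR : ∀ I : Ideal R, I.FG → Module.FinitePresentation R I) {X : Scheme.{u}}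
    (q : X ⟶ Spec (CommRingCat.of R)) [LocallyOfFinitePresentation q] [QuasiSeparated q]
    {F : X.Modules} (hF : CohB1.IsFP F) (hflat : FlatMod.IsFlatOver q F)
    (hsupp : ClSub.IsProperOver q (CohB1.support F)) (i : ℕ) :
    letI := Module.compHom (Coh.HH X F i) (Coh.toGlobal q)
    Module.FinitePresentation R (Coh.HH X F i) := by
  letI := Module.compHom (Coh.HH X F i) (Coh.toGlobal q)
  obtain ⟨Z, j, G, hj, hjf, hr, hG, ⟨e⟩⟩ := exists_fp_closed_model hF
  haveI := hj
  haveI := hjf
  haveI : IsProper (j ≫ q) :=
    QCoh.isProper_comp_of_isProperOver (f := q) j hsupp hr.le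
  letI := Module.compHom (Coh.HH Z G i) (Coh.toGlobal (j ≫ q))
  haveI := finitePresentation_of_model hR (j ≫ q) hG (isFlatOver_of_push q j e hflat) i
  letI := Module.compHom (Coh.HH X ((Scheme.Modules.pushforward j).obj G) i) (Coh.toGlobal q)
  have hE : Function.Bijective (CohPull.pushEdge j G i) :=
    CExt24.bijective_pushEdge j G (fun k hk => by
      obtain ⟨k', rfl⟩ := Nat.exists_eq_succ_of_ne_zero hk.ne'
      exact CExt24.isZero_Rpush_of_affine j G (QCoh.isQCoh_of_isFP hG) k') i
  let eN := AddEquiv.ofBijective (CohPull.pushEdge j G i) hE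
  let ρ := Coh.toGlobal (j ≫ q)
  let N' := (Scheme.Modules.pushforward j).obj G
  have hend : ∀ a : R, (CExt24.endP ρ j G a : Coh.toAb N' ⟶ Coh.toAb N') =
      (QCoh.smulAbHom N' (Coh.toGlobal q a) : Coh.toAb N' ⟶ Coh.toAb N') := fun a => by
    refine Sheaf.hom_ext (NatTrans.ext (funext fun W => AddCommGrpCat.ext fun y => ?_))
    induction W using Opposite.rec with | _ W => ?_
    show ((CExt24.endP ρ j G a).hom.app (op W)) y = _
    rw [CExt24.endP_app]
    refine Eq.trans ?_ (Coh.smulAb_app ((Scheme.Modules.pushforward j).obj G) (Coh.toGlobal q a) (op W) y).symm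
    show _ = (j.app W (X.presheaf.map (homOfLE le_top).op (Coh.toGlobal q a)) • (show Γ(G, j ⁻¹ᵁ W) from y) : Γ(G, j ⁻¹ᵁ W))
    congr 1
    show Z.presheaf.map (homOfLE le_top).op ((j ≫ q).appTop ((Scheme.ΓSpecIso _).inv a)) =
      j.app W (X.presheaf.map (homOfLE le_top).op (q.appTop ((Scheme.ΓSpecIso _).inv a)))
    rw [Scheme.Hom.comp_appTop]
    exact (ConcreteCategory.congr_hom (j.naturality (homOfLE (le_top (a := W))).op) _).symm
  let l : Coh.HH X ((Scheme.Modules.pushforward j).obj G) i ≃ₗ[R] Coh.HH Z G i :=
    { eN with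
      map_smul' := fun a y => by
        show CohPull.pushEdge j G i
            (Sheaf.H.map (QCoh.smulAbHom ((Scheme.Modules.pushforward j).obj G) (Coh.toGlobal q a)) i y) =
          Sheaf.H.map (QCoh.smulAbHom G (ρ a)) i (CohPull.pushEdge j G i y)
        rw [← hend, CExt24.pushEdge_eq_pm, CExt24.pushEdge_eq_pm]
        exact CExt24.pmMod_endP (pB := j ≫ q) (g := j) a i y }
  haveI : Module.FinitePresentation R (Coh.HH X ((Scheme.Modules.pushforward j).obj G) i) :=
    Module.FinitePresentation.of_equiv l.symm
  let l' : Coh.HH X ((Scheme.Modules.pushforward j).obj G) i ≃ₗ[R] Coh.HH X F i :=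
    { CExt24.mapHEquiv e i with
      map_smul' := fun a y => by
        show CohPull.mapH e.hom i
            (Sheaf.H.map (QCoh.smulAbHom ((Scheme.Modules.pushforward j).obj G) (Coh.toGlobal q a)) i y) =
          Sheaf.H.map (QCoh.smulAbHom F (Coh.toGlobal q a)) i (CohPull.mapH e.hom i y)
        exact CExt24.map_smul_mapH e.hom (Coh.toGlobal q a) i y }
  exact Module.FinitePresentation.of_equiv l'

end Groth.Agent.PerfD40
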