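import Groth.Agent.PerfD40.CompactPerfect
import Groth.Agent.PerfD40.Generator

/-!
# Compact objects among the objects supported in a closed set are perfect
-/

set_option linter.style.haveILetI false

universe u

open CategoryTheory CategoryTheory.Limits AlgebraicGeometry Pretriangulated TopologicalSpace

attribute [local instance] HasDerivedCategory.standard

namespace Groth.Agent.PerfD40

open Groth.Agent.KFlatLib

/-- Compactness among objects vanishing on a quasi-compact open implies compactness. -/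
theorem seesFinitely_of_supported {X : Scheme.{u}} [CompactSpace X] [QuasiSeparatedSpace X] (V : X.Opens)
    (hV : IsCompact (V : Set X)) {K : DCoh.D X} (hKV : IsZero ((DCoh.restrictD V.ι).obj K))
    (h : ∀ (J : Type u) (C : J → DCoh.D X) [HasCoproduct C], (∀ j, DCoh.IsQCohD (C j)) →
      (∀ j, IsZero ((DCoh.restrictD V.ι).obj (C j))) → FixAt C K) : SeesFinitely K := by
  intro J N _ hN φ
  haveI : CompactSpace (V : Scheme.{u}) := isCompact_iff_compactSpace.1 hV
  haveI : QuasiSeparatedSpace (V : Scheme.{u}) := .of_isOpenEmbedding V.ι.isOpenEmbedding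
  haveI : QuasiCompact V.ι := quasiCompact_of_compactSpace _
  haveI : HasInjectiveResolutions (V : Scheme.{u}).Modules := hasInjectiveResolutions_modules
  haveI := hasRpush_scheme V.ι
  haveI : (DCoh.Rpush V.ι).Additive :=
    (exists_rightDerived_triangle (Scheme.Modules.pushforward V.ι) _
      (contractible_distinguished ((DCoh.restrictD V.ι).obj K))).1
  haveI : HasColimitsOfShape (Discrete J) (DCoh.D X) := TriCat.hasColimitsOfShape_derivedCategory
  haveI : HasColimitsOfShape (Discrete J) (DCoh.D (V : Scheme.{u})) :=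
    TriCat.hasColimitsOfShape_derivedCategory
  let adj := restrictRpushAdj V.ι
  have hu : ∀ j, IsIso ((DCoh.restrictD V.ι).map (adj.unit.app (N j))) := fun j => by
    obtain ⟨cc⟩ := nonempty_rpush_restrictD_self V.ι
    haveI : (DCoh.Rpush V.ι).Full := (adj.fullyFaithfulROfCompIsoId cc).full
    haveI : (DCoh.Rpush V.ι).Faithful := (adj.fullyFaithfulROfCompIsoId cc).faithful
    infer_instance
  choose C ι δ hT using fun j => distinguished_cocone_triangle₁ (adj.unit.app (N j))
  let G := fun j => (DCoh.Rpush V.ι).obj ((DCoh.restrictD V.ι).obj (N j))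
  let u : ∀ j, N j ⟶ G j := fun j => adj.unit.app (N j)
  let S : Triangle (DCoh.D X) := Triangle.mk (Limits.Sigma.map ι) (Limits.Sigma.map u)
    (Sigma.desc fun j => δ j ≫ (Sigma.ι C j)⟦(1 : ℤ)⟧')
  have hS : S ∈ distTriang (DCoh.D X) := TriCat.distinguished_of_isSum
    (fun j => Triangle.mk (ι j) (u j) (δ j)) hT S
    (fun j =>
      { hom₁ := Sigma.ι C j
        hom₂ := Sigma.ι N j
        hom₃ := Sigma.ι G j
        comm₁ := (Limits.Sigma.ι_map ι j).symm
        comm₂ := (Limits.Sigma.ι_map u j).symm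
        comm₃ := (Sigma.ι_desc (fun j => δ j ≫ (Sigma.ι C j)⟦(1 : ℤ)⟧') j).symm })
    (TriCat.isSum_sigma C) (TriCat.isSum_sigma N) (TriCat.isSum_sigma G)
  have hzero : ∀ χ : K ⟶ ∐ G, χ = 0 := fun χ => by
    let M := fun j => (DCoh.restrictD V.ι).obj (N j)
    haveI : IsIso (sigmaComparison (DCoh.Rpush V.ι) M) :=
      isIso_sigmaDesc_rpush V.ι M fun j => isQCohD_restrictD _ (hN j)
    apply (cancel_mono (sigmaComparison (DCoh.Rpush V.ι) M)).1
    exact (adj.homEquiv _ _).symm.injective ((hKV.eq_of_src _ _))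
  obtain ⟨χ, hχ⟩ : ∃ χ : K ⟶ ∐ C, φ = χ ≫ Limits.Sigma.map ι :=
    Triangle.coyoneda_exact₂ _ hS φ (hzero _)
  obtain ⟨F, hF⟩ := h J C
    (fun j => isQCohD_obj₁ (hT j) (hN j) (isQCohD_rpush _ (isQCohD_restrictD _ (hN j))))
    (fun j => (Triangle.isZero₁_iff_isIso₂ _ ((DCoh.restrictD V.ι).map_distinguished _ (hT j))).2 (hu j)) χ
  refine ⟨F, ?_⟩
  rw [hχ, Category.assoc, show Limits.Sigma.map ι ≫ partProj N F = partProj C F ≫ Limits.Sigma.map ι from
    (sigmaMap_partProj C (fun j => ι j) F).symm, ← Category.assoc, hF]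

/-- Compact objects of `D_QCoh,T` are perfect. -/
theorem isPerfect_of_isCompactObjRel_supported {X : Scheme.{u}} [CompactSpace X] [QuasiSeparatedSpace X]
    (T : Set X) (hT : IsClosed T) (hTc : IsCompact Tᶜ) {K : DCoh.D X} (hK : DCoh.IsQCohD K)
    (hKT : ∀ i : ℤ, CohB1.support (DCoh.HD K i) ⊆ T)
    (h : PerfAux.IsCompactObjRel.{u}
      (fun L : DCoh.D X => DCoh.IsQCohD L ∧ ∀ i : ℤ, CohB1.support (DCoh.HD L i) ⊆ T) K) :
    DCoh.IsPerfect K := by
  let V : X.Opens := ⟨Tᶜ, hT.isOpen_compl⟩
  refine isPerfect_of_seesFinitely hK (seesFinitely_of_supported V hTc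
    (isZero_restrictD_of_support V K T hKT fun x hx => hx) fun J C _ hCq hCV φ => ?_)
  classical
  obtain ⟨x, rfl⟩ := (h J C fun j => ⟨hCq j, fun i y hy =>
    not_not.1 (support_subset_of_isZero_restrictD V _ (hCV j) i hy)⟩).2 φ
  induction x using DirectSum.induction_on with
  | zero => exact ⟨∅, by simp⟩
  | of i g =>
    refine ⟨{i}, ?_⟩
    have : PerfAux.homSumToHomCoprod K C (DirectSum.of _ i g) = g ≫ Sigma.ι C i := by
      simp [PerfAux.homSumToHomCoprod, Preadditive.rightComp]
    rw [this, Category.assoc, ι_partProj_mem C (Finset.mem_singleton_self i)]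
  | add a b ha hb =>
    obtain ⟨F, hF⟩ := ha
    obtain ⟨F', hF'⟩ := hb
    exact ⟨F ∪ F', by rw [map_add, Preadditive.add_comp, fix_mono Finset.subset_union_left hF,
      fix_mono Finset.subset_union_right hF']⟩

end Groth.Agent.PerfD40
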