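import Groth.Agent.PicFRel.UnivH0
import Groth.Agent.PicFRel.ProperModel
import Groth.Agent.InvX.Tensor
import Groth.Agent.S1297
import Mathlib.RingTheory.Artinian.Module
import Mathlib.RingTheory.Flat.FaithfullyFlat.Algebra
import Mathlib.RingTheory.LocalRing.ResidueField.Defs
import Mathlib.FieldTheory.IsAlgClosed.AlgebraicClosure

/-!
# Functions of proper flat families with constant functions on the fibres, over any base
-/

set_option autoImplicit false
set_option linter.style.haveILetI false
set_option backward.isDefEq.respectTransparency false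
set_option backward.isDefEq.respectTransparency.types false

universe u

open CategoryTheory CategoryTheory.Limits AlgebraicGeometry TopologicalSpace TensorProduct

noncomputable section

namespace Groth.Agent.PerfD40.ConstFibres

open Groth.Agent Groth.Agent.H23

/-- Transport along a cartesian square. -/
theorem bijective_of_isPullback {V X S T : Scheme.{u}} {g' : V ⟶ X} {f' : V ⟶ T} {f : X ⟶ S} {g : T ⟶ S}
    (H : IsPullback g' f' f g) (h : Function.Bijective (pullback.snd f g).appTop) :
    Function.Bijective f'.appTop := by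
  rw [← H.isoPullback_hom_snd, Scheme.Hom.comp_appTop]
  exact (SeesawGlobal.bijective_appTop_iso H.isoPullback).comp h

/-- Constancy of functions descends along field extensions. -/
theorem bijective_appTop_descent {k K : Type u} [Field k] [Field K] {V V' : Scheme.{u}}
    {v : V ⟶ Spec (CommRingCat.of k)} [QuasiCompact v] [QuasiSeparated v]
    {ψ : CommRingCat.of k ⟶ CommRingCat.of K} {q : V' ⟶ V} {v' : V' ⟶ Spec (CommRingCat.of K)}
    (H : IsPullback q v' v (Spec.map ψ)) (h : Function.Bijective v'.appTop) : Function.Bijective v.appTop := by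
  have : CompactSpace V := (quasiCompact_iff_compactSpace v).mp inferInstance
  have : QuasiSeparatedSpace V := (quasiSeparated_iff_quasiSeparatedSpace v).mp inferInstance
  letI := ψ.hom.toAlgebra
  letI := ((Scheme.ΓSpecIso (CommRingCat.of k)).inv ≫ v.appTop).hom.toAlgebra
  have hflat : Flat (Spec.map ψ) := by
    rw [HasRingHomProperty.Spec_iff (P := @Flat)]
    exact (inferInstance : Module.Flat k K)
  haveI := hflat
  have hiso := isIso_pushoutSection_of_isQuasiSeparated_of_flat_right H
    (US := ⊤) (UT := ⊤) (UX := ⊤) (UY := ⊤) le_top le_top (by simp) (isAffineOpen_top _) (isAffineOpen_top _)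
    isCompact_univ isQuasiSeparated_univ
  rw [isIso_pushoutSection_iff] at hiso
  simp only [show v.appLE ⊤ ⊤ le_top = v.appTop by simp [Scheme.Hom.appLE],
    show (Spec.map ψ).appLE ⊤ ⊤ le_top = (Spec.map ψ).appTop by simp [Scheme.Hom.appLE],
    show q.appLE ⊤ ⊤ (by simp) = q.appTop by simp [Scheme.Hom.appLE],
    show v'.appLE ⊤ ⊤ (by simp) = v'.appTop by simp [Scheme.Hom.appLE]] at hiso
  have hsq : IsPushout ψ ((Scheme.ΓSpecIso (CommRingCat.of k)).inv ≫ v.appTop)
      ((Scheme.ΓSpecIso (CommRingCat.of K)).inv ≫ v'.appTop) q.appTop :=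
    hiso.flip.of_iso (Scheme.ΓSpecIso _) (Scheme.ΓSpecIso _) (Iso.refl _) (Iso.refl _)
      (Scheme.ΓSpecIso_naturality ψ) (by simp) (by simp) (by simp)
  letI := ((Scheme.ΓSpecIso (CommRingCat.of K)).inv ≫ v'.appTop).hom.toAlgebra
  letI := q.appTop.hom.toAlgebra
  letI : Algebra k Γ(V', ⊤) := (ψ ≫ (Scheme.ΓSpecIso (CommRingCat.of K)).inv ≫ v'.appTop).hom.toAlgebra
  haveI : IsScalarTower k K Γ(V', ⊤) := .of_algebraMap_eq' rfl
  haveI : IsScalarTower k Γ(V, ⊤) Γ(V', ⊤) := .of_algebraMap_eq' (by
    show (ψ ≫ (Scheme.ΓSpecIso (CommRingCat.of K)).inv ≫ v'.appTop).hom = _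
    rw [hsq.w]
    rfl)
  haveI : Algebra.IsPushout k K Γ(V, ⊤) Γ(V', ⊤) := CommRingCat.isPushout_iff_isPushout.1 hsq
  let e := Algebra.IsPushout.equiv k K Γ(V, ⊤) Γ(V', ⊤)
  have hb : Function.Bijective ((Algebra.linearMap k Γ(V, ⊤)).lTensor K) := by
    have h2 : Function.Bijective (algebraMap K Γ(V', ⊤)) :=
      h.comp (ConcreteCategory.bijective_of_isIso (Scheme.ΓSpecIso (CommRingCat.of K)).inv)
    have h3 : ⇑((Algebra.linearMap k Γ(V, ⊤)).lTensor K) =
        e.symm ∘ algebraMap K Γ(V', ⊤) ∘ TensorProduct.rid k K := by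
      funext x
      induction x using TensorProduct.induction_on with
      | zero => simp
      | add a b ha hb => simp only [Function.comp_apply, map_add] at ha hb ⊢; rw [ha, hb]
      | tmul b r =>
        simp only [LinearMap.lTensor_tmul, Algebra.linearMap_apply, Function.comp_apply, TensorProduct.rid_tmul]
        rw [eq_comm, AlgEquiv.symm_apply_eq, Algebra.IsPushout.equiv_tmul, ← IsScalarTower.algebraMap_apply,
          Algebra.smul_def, map_mul, ← IsScalarTower.algebraMap_apply, mul_comm]
    rw [h3]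
    exact e.symm.bijective.comp (h2.comp (TensorProduct.rid k K).bijective)
  have h4 : Function.Bijective (Algebra.linearMap k Γ(V, ⊤)) :=
    (Module.FaithfullyFlat.lTensor_bijective_iff_bijective k K _).1 hb
  exact (Function.Bijective.of_comp_iff _
    (ConcreteCategory.bijective_of_isIso (Scheme.ΓSpecIso (CommRingCat.of k)).inv)).1 h4

/-- Over any base, constant functions on all fibres give only functions from the base. -/
theorem bijective_app_of_fibres {X S : Scheme.{u}} (f : X ⟶ S) [IsProper f] [Flat f]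
    [LocallyOfFinitePresentation f]
    (h : ∀ s : S, Function.Bijective (f.fiberToSpecResidueField s).appTop) (V : S.Opens) :
    Function.Bijective (f.app V) := by
  refine PicFRel.UnivH0.bijective_app_of_isBasis f (Bs := {W : S.Opens | IsAffineOpen W}) S.isBasis_affineOpens
    (fun W hW => ?_) V
  haveI : IsAffine (W : Scheme.{u}) := hW
  refine PicFRel.UnivH0.bijective_app_of_morphismRestrict f W ?_
  let fW := f ∣_ W
  have hWsq : IsPullback (f ⁻¹ᵁ W).ι fW f W.ι := (isPullback_morphismRestrict f W).flip
  haveI : Flat fW := MorphismProperty.of_isPullback hWsq inferInstance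
  obtain ⟨S₀, X₀, π, f₀, q, -, hN, -, hp, hfl, hsq, -, -⟩ :=
    PicFRel.ProperModel.exists_model fW _ InvX.isInvertible_structureModule
  haveI := hN; haveI := hp; haveI := hfl
  have key : ∀ s : (W : Scheme.{u}),
      Function.Bijective (pullback.snd f₀ (S₀.fromSpecResidueField (π s))).appTop := fun s => by
    let ι := (W : Scheme.{u}).fromSpecResidueField s
    let a₀ := S₀.fromSpecResidueField (π s)
    let ψ := π.residueFieldMap s
    have hb : Spec.map ψ ≫ a₀ = ι ≫ π := Scheme.Hom.SpecMap_residueFieldMap_fromSpecResidueField π s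
    have hs := PicFRel.UnivH0.fieldH0_of_fibre f (W.ι s) (h (W.ι s)) ((W : Scheme.{u}).residueField s)
      (ι ≫ W.ι) (congrArg W.ι (Scheme.fromSpecResidueField_apply s _))
    have H1 := IsPullback.of_hasPullback fW ι
    have hbij := bijective_of_isPullback (H1.paste_horiz hWsq) hs
    have H2 : IsPullback (pullback.fst fW ι ≫ q) (pullback.snd fW ι) f₀ (Spec.map ψ ≫ a₀) := by
      rw [hb]; exact H1.paste_horiz hsq
    have H3 := IsPullback.of_hasPullback f₀ a₀
    let m := H3.lift (pullback.fst fW ι ≫ q) (pullback.snd fW ι ≫ Spec.map ψ) (by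
      rw [H2.w, Category.assoc])
    have H4 : IsPullback m (pullback.snd fW ι) (pullback.snd f₀ a₀) (Spec.map ψ) :=
      IsPullback.of_right (by rw [H3.lift_fst]; exact H2) (H3.lift_snd _ _ _) H3
    exact bijective_appTop_descent (k := S₀.residueField (π s)) (K := (W : Scheme.{u}).residueField s) H4 hbij
  choose U hy hU using fun s => PicFRel.UnivH0.exists_nhd f₀ (π s) (key s)
  have hall : ∀ W' : (W : Scheme.{u}).Opens, Function.Bijective ((pullback.snd f₀ π).app W') := by
    refine PicFRel.UnivH0.bijective_app_of_isBasis _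
      (Bs := {O : (W : Scheme.{u}).Opens | IsAffineOpen O ∧ ∃ s, O ≤ π ⁻¹ᵁ U s}) ?_
      fun O ⟨hO, s, hOs⟩ => hU s _ π O hO fun t ht => hOs ht
    refine Opens.isBasis_iff_nbhd.2 fun {O x} hx => ?_
    obtain ⟨_, ⟨O', hO', rfl⟩, hxO, hle⟩ := (W : Scheme.{u}).isBasis_affineOpens.exists_subset_of_mem_open
      (show x ∈ (O ⊓ π ⁻¹ᵁ U x : (W : Scheme.{u}).Opens) from ⟨hx, hy _⟩) (O ⊓ π ⁻¹ᵁ U x).isOpen
    exact ⟨O', ⟨hO', x, fun t ht => (hle ht).2⟩, hxO, fun t ht => (hle ht).1⟩
  exact bijective_of_isPullback hsq (hall ⊤)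

/-- Proper, reduced and connected over an algebraically closed field: constant functions. -/
theorem bijective_appTop_of_connected {K : Type u} [Field K] [IsAlgClosed K] {P : Scheme.{u}}
    (p : P ⟶ Spec (CommRingCat.of K)) [IsProper p] [IsReduced P] [ConnectedSpace P] :
    Function.Bijective p.appTop := by
  let φ : CommRingCat.of K ⟶ Γ(P, ⊤) := (Scheme.ΓSpecIso _).inv ≫ p.appTop
  have hfin : φ.hom.Finite := (S1297.finite_appTop p).comp (RingHom.Finite.of_surjective _
    (ConcreteCategory.bijective_of_isIso (Scheme.ΓSpecIso (CommRingCat.of K)).inv).2)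
  letI := φ.hom.toAlgebra
  haveI : Module.Finite K Γ(P, ⊤) := hfin
  haveI : IsArtinianRing Γ(P, ⊤) := IsArtinianRing.of_finite K Γ(P, ⊤)
  obtain ⟨x₀⟩ := (inferInstance : Nonempty P)
  haveI : Nontrivial Γ(P, ⊤) := (P.presheaf.germ ⊤ x₀ trivial).hom.domain_nontrivial
  have hidem : ∀ e : Γ(P, ⊤), IsIdempotentElem e → e = 0 ∨ e = 1 := fun e he => by
    have hcov : ∀ x : P, x ∈ P.basicOpen e ∨ x ∈ P.basicOpen (1 - e) := fun x => by
      rw [P.mem_basicOpen_top e x, P.mem_basicOpen_top (1 - e) x]
      refine IsLocalRing.isUnit_or_isUnit_of_add_one ?_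
      rw [← map_add, add_sub_cancel, map_one]
    have hdisj : P.basicOpen e ⊓ P.basicOpen (1 - e) = ⊥ := by
      rw [← Scheme.basicOpen_mul, mul_sub, mul_one, he, sub_self, Scheme.basicOpen_zero]
    have hclopen : IsClopen (P.basicOpen e : Set P) := by
      refine ⟨⟨?_⟩, (P.basicOpen e).2⟩
      have hEq : (P.basicOpen e : Set P)ᶜ = (P.basicOpen (1 - e) : Set P) := by
        ext x
        refine ⟨fun hx => (hcov x).resolve_left hx, fun hx hx' => ?_⟩
        exact (show x ∈ (⊥ : P.Opens) from hdisj ▸ ⟨hx', hx⟩)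
      rw [hEq]
      exact (P.basicOpen (1 - e)).2
    rcases isClopen_iff.1 hclopen with h | h
    · left
      exact eq_zero_of_basicOpen_eq_bot e (SetLike.coe_injective h)
    · right
      refine (sub_eq_zero.1 (eq_zero_of_basicOpen_eq_bot (1 - e) ?_)).symm
      rw [← hdisj, show P.basicOpen e = ⊤ from SetLike.coe_injective h, top_inf_eq]
  have hdom : IsDomain Γ(P, ⊤) := by
    refine @NoZeroDivisors.to_isDomain _ _ _ ⟨fun {a b} hab => ?_⟩
    obtain ⟨n, y, hy⟩ := IsArtinian.exists_pow_succ_smul_dvd a (1 : Γ(P, ⊤))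
    simp only [smul_eq_mul, mul_one, pow_succ] at hy
    have hpow : ∀ m : ℕ, a ^ n = a ^ n * (a * y) ^ m := fun m => by
      induction m with
      | zero => simp
      | succ m ih =>
        calc a ^ n = a ^ n * (a * y) ^ m := ih
          _ = (a ^ n * a * y) * (a * y) ^ m := by rw [hy]
          _ = _ := by ring
    rcases hidem ((a * y) ^ n) (by
      show (a * y) ^ n * (a * y) ^ n = (a * y) ^ n
      calc (a * y) ^ n * (a * y) ^ n = y ^ n * (a ^ n * (a * y) ^ n) := by ring
        _ = _ := by rw [← hpow n]; ring) with h0 | h1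
    · left
      have : a ^ n = 0 := by rw [hpow n, h0, mul_zero]
      exact (IsReduced.eq_zero _ ⟨n, this⟩)
    · right
      rcases Nat.eq_zero_or_pos n with hn | hn
      · subst hn
        simp only [pow_zero, one_mul] at hy
        calc b = (a * y) * b := by rw [hy, one_mul]
          _ = 0 := by rw [mul_right_comm, hab, zero_mul]
      · calc b = (a * y) ^ n * b := by rw [h1, one_mul]
          _ = (a * y) ^ (n - 1) * y * (a * b) := by
            rw [show n = n - 1 + 1 by omega, pow_succ]; simp only [add_tsub_cancel_right]; ring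
          _ = 0 := by rw [hab, mul_zero]
  haveI := hdom
  have hφ : Function.Bijective φ.hom :=
    IsAlgClosed.algebraMap_bijective_of_isIntegral (k := K) (K := Γ(P, ⊤))
  exact (Function.Bijective.of_comp_iff _
    (ConcreteCategory.bijective_of_isIso (Scheme.ΓSpecIso (CommRingCat.of K)).inv)).1 hφ

/-- Geometrically reduced connected fibres have constant functions. -/
theorem bijective_fibre_of_geometric {X S : Scheme.{u}} (f : X ⟶ S) [IsProper f]
    (h : ∀ (K : Type u) [Field K] [IsAlgClosed K] (g : Spec (CommRingCat.of K) ⟶ S),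
      IsReduced (pullback f g) ∧ ConnectedSpace ↥(pullback f g)) (s : S) :
    Function.Bijective (f.fiberToSpecResidueField s).appTop := by
  let K := AlgebraicClosure (S.residueField s)
  let ψ : S.residueField s ⟶ CommRingCat.of K := CommRingCat.ofHom (algebraMap (S.residueField s) K)
  let a := S.fromSpecResidueField s
  let g := Spec.map ψ ≫ a
  obtain ⟨hr, hc⟩ := h K g
  haveI := hr; haveI := hc
  have H3 := IsPullback.of_hasPullback f a
  let m := H3.lift (pullback.fst f g) (pullback.snd f g ≫ Spec.map ψ) (by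
    rw [pullback.condition, Category.assoc])
  have H4 : IsPullback m (pullback.snd f g) (pullback.snd f a) (Spec.map ψ) :=
    IsPullback.of_right (by rw [H3.lift_fst]; exact IsPullback.of_hasPullback f g) (H3.lift_snd _ _ _) H3
  show Function.Bijective (pullback.snd f a).appTop
  exact bijective_appTop_descent (k := S.residueField s) (K := K) H4
    (bijective_appTop_of_connected (pullback.snd f g))

end Groth.Agent.PerfD40.ConstFibres
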