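import Mathlib.Algebra.Category.ModuleCat.Abelian
import Mathlib.Algebra.Homology.ShortComplex.ModuleCat
import Mathlib.Algebra.Homology.ShortComplex.HomologicalComplex
import Mathlib.RingTheory.Spectrum.Prime.FreeLocus
import Mathlib.RingTheory.Ideal.MinimalPrime.Basic
import Mathlib.RingTheory.LocalRing.Module
import Mathlib.Algebra.Module.Projective
import Mathlib.Algebra.Ring.NegOnePow

/-!
# The Euler characteristic of a bounded exact complex of finite projective modules
-/

set_option linter.style.haveILetI false

universe u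

open CategoryTheory CategoryTheory.Limits

namespace Groth.Agent.PerfD40

theorem alternating_finrank_eq_zero {R : Type u} [CommRing R] [IsLocalRing R]
    (L : ℤ → Type u) [∀ i, AddCommGroup (L i)] [∀ i, Module R (L i)]
    [∀ i, Module.Finite R (L i)] [∀ i, Module.Projective R (L i)]
    (D : ∀ i, L i →ₗ[R] L (i + 1)) (hexact : ∀ i, Function.Exact (D i) (D (i + 1)))
    (b : ℤ) (hb : ∀ i, b < i → Subsingleton (L i)) (n : ℕ) :
    (∀ k : ℕ, Module.Finite R (LinearMap.ker (D (b - k))) ∧
      Module.Projective R (LinearMap.ker (D (b - k)))) ∧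
    ((Finset.range (n + 1)).sum fun k : ℕ => ((b - k).negOnePow : ℤ) * (Module.finrank R (L (b - k)) : ℤ)) =
      ((b - n).negOnePow : ℤ) * (Module.finrank R (LinearMap.ker (D (b - n))) : ℤ) := by
  have split : ∀ i j (h : i + 1 = j), Module.Finite R (LinearMap.ker (D j)) →
      Module.Projective R (LinearMap.ker (D j)) →
      (Module.Finite R (LinearMap.ker (D i)) ∧ Module.Projective R (LinearMap.ker (D i))) ∧
      Module.finrank R (L i) = Module.finrank R (LinearMap.ker (D i)) + Module.finrank R (LinearMap.ker (D j)) := by
    rintro i j rfl hf hp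
    let g : L i →ₗ[R] LinearMap.ker (D (i + 1)) :=
      (D i).codRestrict _ fun x => (hexact i _).2 ⟨x, rfl⟩
    have hg : Function.Surjective g := fun y => by
      obtain ⟨x, hx⟩ := (hexact i y.1).1 y.2
      exact ⟨x, Subtype.ext hx⟩
    obtain ⟨s, hs⟩ := Module.projective_lifting_property g LinearMap.id hg
    let p : L i →ₗ[R] LinearMap.ker (D i) := (LinearMap.id - s ∘ₗ g).codRestrict _ fun x => by
      have := LinearMap.congr_fun hs (g x)
      have h2 : D i (s (g x)) = D i x := congrArg Subtype.val this
      simp [LinearMap.mem_ker, h2]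
    have hp' : p ∘ₗ (LinearMap.ker (D i)).subtype = LinearMap.id := LinearMap.ext fun x => by
      have : g x.1 = 0 := Subtype.ext (LinearMap.mem_ker.1 x.2)
      exact Subtype.ext (by simp [p, this])
    have hps : Function.Surjective p := fun x => ⟨x.1, LinearMap.congr_fun hp' x⟩
    haveI := Module.Finite.of_surjective p hps
    haveI : Module.Projective R (LinearMap.ker (D i)) := Module.Projective.of_split _ p hp'
    let e : L i ≃ₗ[R] LinearMap.ker (D i) × LinearMap.ker (D (i + 1)) :=
      LinearEquiv.ofBijective (p.prod g) ⟨fun x y h => by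
        have h1 : x - s (g x) = y - s (g y) := congrArg (fun z => (z.1 : L i)) h
        have h2 : g x = g y := congrArg Prod.snd h
        rw [h2] at h1
        simpa using h1, fun ⟨z, y⟩ => ⟨z.1 + s y, Prod.ext (Subtype.ext (by
          have hz : g z.1 = 0 := Subtype.ext (LinearMap.mem_ker.1 z.2)
          have : g (s y) = y := LinearMap.congr_fun hs y
          simp [p, map_add, hz, this])) (by
          have hz : g z.1 = 0 := Subtype.ext (LinearMap.mem_ker.1 z.2)
          have : g (s y) = y := LinearMap.congr_fun hs y
          simp [map_add, hz, this])⟩⟩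
    haveI := Module.free_of_flat_of_isLocalRing (R := R) (P := LinearMap.ker (D i))
    haveI := Module.free_of_flat_of_isLocalRing (R := R) (P := LinearMap.ker (D (i + 1)))
    exact ⟨⟨inferInstance, inferInstance⟩, by rw [e.finrank_eq, Module.finrank_prod]⟩
  have ktop : ∀ i, b < i → Subsingleton (LinearMap.ker (D i)) := fun i hi =>
    haveI := hb i hi
    inferInstance
  have all : ∀ k : ℕ, Module.Finite R (LinearMap.ker (D (b - k))) ∧
      Module.Projective R (LinearMap.ker (D (b - k))) := by
    intro k
    induction k with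
    | zero =>
      haveI := ktop (b + 1) (by omega)
      exact (split (b - ((0 : ℕ) : ℤ)) (b + 1) (by simp) inferInstance inferInstance).1
    | succ k ih => exact (split _ _ (by push_cast; omega) ih.1 ih.2).1
  refine ⟨all, ?_⟩
  induction n with
  | zero =>
    haveI := ktop (b + 1) (by omega)
    have := (split (b - ((0 : ℕ) : ℤ)) (b + 1) (by simp) inferInstance inferInstance).2
    rw [Module.finrank_zero_of_subsingleton (M := LinearMap.ker (D (b + 1))), add_zero] at this
    rw [Finset.sum_range_one, this]
  | succ n ih =>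
    have := (split (b - (n + 1 : ℕ)) (b - n) (by push_cast; omega) (all n).1 (all n).2).2
    rw [Finset.sum_range_succ, ih, this, show (b - (n : ℤ)) = b - ((n + 1 : ℕ) : ℤ) + 1 by push_cast; omega,
      Int.negOnePow_succ]
    push_cast
    ring

theorem euler_rank_eq_zero {A : Type u} [CommRing A]
    (P : CochainComplex (ModuleCat.{u} A) ℤ) (s : Finset ℤ)
    (hP : ∀ i : ℤ, Module.Finite A (P.X i) ∧ Module.Projective A (P.X i))
    (hs : ∀ i : ℤ, i ∉ s → IsZero (P.X i)) (q : PrimeSpectrum A)
    (hq : ∀ i : ℤ, Subsingleton (LocalizedModule q.asIdeal.primeCompl (P.homology i))) :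
    (s.sum fun i => ((i.negOnePow : ℤˣ) : ℤ) * (Module.rankAtStalk (R := A) (P.X i) q : ℤ)) = 0 := by
  let S := q.asIdeal.primeCompl
  haveI := fun i => (hP i).1
  haveI := fun i => (hP i).2
  let D : ∀ i, LocalizedModule S (P.X i) →ₗ[Localization S] LocalizedModule S (P.X (i + 1)) :=
    fun i => LocalizedModule.map S (P.d i (i + 1)).hom
  have key : ∀ i j k (hi : i + 1 = j) (hk : j + 1 = k) (x : P.X j), (P.d j k).hom x = 0 →
      ∃ t : S, ∃ y : P.X i, (P.d i j).hom y = (t : A) • x := by
    intro i j k hi hk x hx
    let T := P.sc' i j k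
    let e : P.homology j ≅ T.moduleCatLeftHomologyData.H :=
      P.homologyIsoSc' i j k (by simp; omega) (by simp; omega) ≪≫ T.moduleCatHomologyIso
    haveI := hq j
    let c : T.moduleCatLeftHomologyData.H := (LinearMap.range T.moduleCatToCycles).mkQ ⟨x, hx⟩
    obtain ⟨t, ht⟩ : ∃ t : S, t • e.inv.hom c = 0 := by
      obtain ⟨t, ht⟩ := (LocalizedModule.mk_eq (S := S) (s := 1) (s' := 1) (m := e.inv.hom c) (m' := 0)).1
        (Subsingleton.elim _ _)
      exact ⟨t, by simpa using ht⟩
    have hc : (t : A) • c = 0 := by
      have := congrArg e.hom.hom ht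
      rw [Submonoid.smul_def, map_smul, map_zero] at this
      have hec : e.hom.hom (e.inv.hom c) = c := congrArg (fun f => f.hom c) e.inv_hom_id
      rwa [hec] at this
    have hc' : (t : A) • (⟨x, hx⟩ : LinearMap.ker T.g.hom) ∈ LinearMap.range T.moduleCatToCycles := by
      rw [← Submodule.Quotient.mk_eq_zero, Submodule.Quotient.mk_smul]
      exact hc
    obtain ⟨y, hy⟩ := hc'
    exact ⟨t, y, congrArg Subtype.val hy⟩
  have hexact : ∀ i, Function.Exact (D i) (D (i + 1)) := by
    intro i z
    induction z using LocalizedModule.induction_on with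
    | h x t =>
      constructor
      · intro hz
        simp only [D, LocalizedModule.map_mk] at hz
        obtain ⟨t', ht'⟩ := LocalizedModule.mk_eq.1 (hz.trans (LocalizedModule.zero_mk t).symm)
        simp only [smul_zero] at ht'
        obtain ⟨t'', y, hy⟩ := key i (i + 1) (i + 1 + 1) rfl rfl (((t' : A) * t) • x) (by
          rw [map_smul, mul_smul]
          simpa [Submonoid.smul_def] using ht')
        refine ⟨LocalizedModule.mk y (t'' * (t' * t) * t), ?_⟩
        simp only [D, LocalizedModule.map_mk]
        rw [LocalizedModule.mk_eq]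
        refine ⟨1, ?_⟩
        simp only [one_smul, Submonoid.smul_def, hy, smul_smul, Submonoid.coe_mul]
        ring_nf
      · rintro ⟨w, hw⟩
        rw [← hw]
        clear hw
        induction w using LocalizedModule.induction_on with
        | h y t' =>
          simp only [D, LocalizedModule.map_mk]
          have : (P.d (i + 1) (i + 1 + 1)).hom ((P.d i (i + 1)).hom y) = 0 :=
            congrArg (fun f => f.hom y) (P.d_comp_d i (i + 1) (i + 1 + 1))
          rw [this, LocalizedModule.zero_mk]
  haveI : ∀ i, Module.Projective (Localization S) (LocalizedModule S (P.X i)) := fun i =>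
    Module.projective_of_isLocalizedModule S (LocalizedModule.mkLinearMap S (P.X i))
  obtain ⟨b, hb⟩ := s.bddAbove
  obtain ⟨a, ha⟩ := s.bddBelow
  have hbz : ∀ i, b < i → Subsingleton (LocalizedModule S (P.X i)) := fun i hi => by
    haveI := ModuleCat.subsingleton_of_isZero (hs i fun h => absurd (hb h) (by omega))
    infer_instance
  let n : ℕ := (b - a + 1).toNat
  have h := (alternating_finrank_eq_zero (fun i => LocalizedModule S (P.X i)) D hexact b hbz n).2
  haveI : Subsingleton (LocalizedModule S (P.X (b - n))) := by
    haveI := ModuleCat.subsingleton_of_isZero (hs (b - n) fun h => absurd (ha h) (by omega))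
    infer_instance
  rw [Module.finrank_zero_of_subsingleton (M := LinearMap.ker (D (b - n))), Nat.cast_zero, mul_zero] at h
  refine Eq.trans ?_ h
  let φ : ℕ ↪ ℤ := ⟨fun k => b - k, fun k l hkl => by simpa using hkl⟩
  refine Eq.trans (Finset.sum_subset (s₂ := (Finset.range (n + 1)).map φ) ?_ ?_) ?_
  · intro i hi
    have := hb hi
    have := ha hi
    exact Finset.mem_map.2 ⟨(b - i).toNat, Finset.mem_range.2 (by omega), by
      change b - ((b - i).toNat : ℤ) = i
      omega⟩
  · intro i _ hi
    haveI := ModuleCat.subsingleton_of_isZero (hs i hi)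
    simp
  · rw [Finset.sum_map]
    rfl

end Groth.Agent.PerfD40
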