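import Groth.Agent.PerfD40.LiftSupport
import Groth.Agent.PerfD40.SumShift

/-!
# Extending a perfect object plus an odd shift over one affine open
-/

set_option linter.style.haveILetI false

universe u

open CategoryTheory CategoryTheory.Limits Pretriangulated AlgebraicGeometry TopologicalSpace

attribute [local instance] HasDerivedCategory.standard

namespace Groth.Agent.PerfD40

open Groth.Agent.KFlatLib

variable (Y : Scheme.{u})

/-- A perfect object on an open plus any odd positive shift of it extends, keeping supports. -/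
theorem exists_extension_step_odd (U O V : Y.Opens) (hUO : U ⊔ O = ⊤) (hO : IsAffineOpen O)
    [QuasiCompact U.ι] (hOU : IsCompact ((O.ι ⁻¹ᵁ U : (O : Scheme.{u}).Opens) : Set (O : Scheme.{u})))
    (hOV : IsCompact ((O.ι ⁻¹ᵁ V : (O : Scheme.{u}).Opens) : Set (O : Scheme.{u})))
    (P : DCoh.D (U : Scheme.{u})) [∀ A B : DCoh.D (U : Scheme.{u}), HasBinaryBiproduct A B]
    (hP : DCoh.IsPerfect P) (hPV : IsZero ((DCoh.restrictD (U.ι ⁻¹ᵁ V).ι).obj P)) (k : ℕ) :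
    ∃ R : DCoh.D Y, DCoh.IsPerfect R ∧ IsZero ((DCoh.restrictD V.ι).obj R) ∧
      Nonempty ((DCoh.restrictD U.ι).obj R ≅ P ⊞ P⟦(2 * k + 1 : ℤ)⟧) := by
  obtain ⟨G₀, hG₀, hG₀V, ⟨e₀⟩⟩ := exists_extension_step Y U O V hUO hO hOU hOV P hP hPV
  induction k with
  | zero => exact ⟨G₀, hG₀, hG₀V, ⟨e₀⟩⟩
  | succ k ih =>
    obtain ⟨G, hG, hGV, ⟨e⟩⟩ := ih
    obtain ⟨n, hn⟩ : ∃ n : ℤ, n = 2 * k + 1 := ⟨_, rfl⟩
    rw [← hn] at e
    let F := DCoh.restrictD U.ι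
    let s := shiftFunctor (DCoh.D (U : Scheme.{u})) n
    let eS : F.obj (G₀⟦n⟧) ≅ (P ⊞ P⟦(1 : ℤ)⟧)⟦n⟧ := (F.commShiftIso n).app G₀ ≪≫ s.mapIso e₀
    let f : F.obj (G₀⟦n⟧) ⟶ F.obj G :=
      eS.hom ≫ s.map biprod.fst ≫ (biprod.inr : P⟦n⟧ ⟶ P ⊞ P⟦n⟧) ≫ e.inv
    let f' : F.obj G ⟶ F.obj (G₀⟦n⟧) :=
      e.hom ≫ (biprod.snd : P ⊞ P⟦n⟧ ⟶ P⟦n⟧) ≫ s.map biprod.inl ≫ eS.inv
    let ρ : Retract P (F.obj G) := ⟨biprod.inl ≫ e.inv, e.hom ≫ biprod.fst, by simp⟩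
    let σ : Retract (P⟦(1 : ℤ)⟧⟦n⟧) (F.obj (G₀⟦n⟧)) :=
      ⟨s.map biprod.inr ≫ eS.inv, eS.hom ≫ s.map biprod.snd, by simp [← Functor.map_comp]; rfl⟩
    obtain ⟨R₁, b, γ, hR₁, hR₁V, hb, hγ⟩ := exists_lift_iso Y U O V hUO hO hOU hOV G
      (isQCohD_of_isPerfect hG) (G₀⟦n⟧) ((isPerfect_iff _).2 (((isPerfect_iff _).1 hG₀).shift n))
      ((Functor.map_isZero (shiftFunctor _ n) hG₀V).of_iso
        (((DCoh.restrictD V.ι).commShiftIso n).app G₀)) f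
    obtain ⟨G₂, g, h, hT⟩ := distinguished_cocone_triangle γ
    obtain ⟨Z, g', h', hZ⟩ := distinguished_cocone_triangle f
    have h₁ : f' ≫ f = 𝟙 _ - ρ.r ≫ ρ.i := by
      have htot : (biprod.snd : P ⊞ P⟦n⟧ ⟶ P⟦n⟧) ≫ (biprod.inr : P⟦n⟧ ⟶ P ⊞ P⟦n⟧) =
          𝟙 _ - biprod.fst ≫ biprod.inl := eq_sub_of_add_eq' biprod.total
      simp only [f, f', ρ, Category.assoc, Iso.inv_hom_id_assoc]
      rw [← Functor.map_comp_assoc, biprod.inl_fst, CategoryTheory.Functor.map_id, Category.id_comp,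
        reassoc_of% htot]
      simp [Preadditive.sub_comp, Preadditive.comp_sub]
    have h₂ : f ≫ f' = 𝟙 _ - σ.r ≫ σ.i := by
      have htot : s.map (biprod.fst : P ⊞ P⟦(1 : ℤ)⟧ ⟶ P) ≫ s.map biprod.inl =
          𝟙 _ - s.map biprod.snd ≫ s.map biprod.inr := by
        rw [← Functor.map_comp, ← Functor.map_comp, ← CategoryTheory.Functor.map_id, ← Functor.map_sub,
          eq_sub_of_add_eq (biprod.total (X := P) (Y := P⟦(1 : ℤ)⟧))]
      simp only [f, f', σ, Category.assoc, Iso.inv_hom_id_assoc]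
      erw [biprod.inr_snd_assoc]
      erw [reassoc_of% htot]
      simp [Preadditive.sub_comp, Preadditive.comp_sub]
    obtain ⟨eZ⟩ := nonempty_cone_split f f' g' h' hZ ρ σ (by simp [f, ρ])
      (by simp [f, σ, ← Functor.map_comp_assoc]) h₁ h₂
    haveI := hb
    let eT := isoTriangleOfIso₁₂ _ _ (F.map_distinguished _ hT) hZ (@asIso _ _ _ _ _ hb)
      (Iso.refl _) ((Category.comp_id _).trans hγ)
    refine ⟨G₂, (isPerfect_iff _).2 ((locSP_two_of_three _ hT).1 ((isPerfect_iff _).1 hR₁)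
      ((isPerfect_iff _).1 hG)),
      Triangle.isZero₃_of_isZero₁₂ _ ((DCoh.restrictD V.ι).map_distinguished _ hT) hR₁V hGV,
      ⟨Triangle.π₃.mapIso eT ≪≫ eZ ≪≫ biprod.mapIso (Iso.refl _) ?_⟩⟩
    exact ((shiftFunctorAdd' (DCoh.D (U : Scheme.{u})) n 1 (n + 1) rfl).app (P⟦(1 : ℤ)⟧)).symm ≪≫
      ((shiftFunctorAdd' (DCoh.D (U : Scheme.{u})) 1 (n + 1) _ (by subst hn; push_cast; ring)).app P).symm

end Groth.Agent.PerfD40
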