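import Groth.Agent.FittX.Sheaf
import Groth.Agent.MorLib.IdealFG2
import Groth.Agent.ModStLib.FibGrpd
import Groth.Agent.QCoh.ProperOver
import Groth.Agent.H23.SpClosed

/-!
# Finitely presented modules live on finitely presented closed subschemes
-/

set_option backward.isDefEq.respectTransparency false
set_option backward.isDefEq.respectTransparency.types false
set_option linter.style.haveILetI false
set_option autoImplicit false

universe u

open CategoryTheory CategoryTheory.Limits AlgebraicGeometry TopologicalSpace Opposite

noncomputable section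

namespace Groth.Agent.PerfD40

variable {X S : Scheme.{u}}

/-- Flatness over the base of a module on a closed subscheme. -/
theorem isFlatOver_of_push {Z : Scheme.{u}} (f : X ⟶ S) (i : Z ⟶ X) [IsClosedImmersion i]
    {G : Z.Modules} {F : X.Modules} (e : (Scheme.Modules.pushforward i).obj G ≅ F)
    (hF : FlatMod.IsFlatOver f F) : FlatMod.IsFlatOver (i ≫ f) G := by
  intro z
  have h := hF (i z)
  unfold FlatMod.IsFlatOverAt at h ⊢
  letI := FlatMod.moduleStalkOver f F (i z)
  letI := FlatMod.moduleStalkOver (i ≫ f) G z
  letI := FlatMod.moduleStalkOver f ((Scheme.Modules.pushforward i).obj G) (i z)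
  letI : Module (X.presheaf.stalk (i z)) (G.presheaf.stalk z) := Module.compHom _ (i.stalkMap z).hom
  letI : Module (S.presheaf.stalk (f (i z))) (G.presheaf.stalk z) := FlatMod.moduleStalkOver (i ≫ f) G z
  show Module.Flat (S.presheaf.stalk (f (i z))) (G.presheaf.stalk z)
  obtain ⟨e1⟩ := H23.SpClosed.nonempty_stalkEquiv i G z
  let φ : ((Scheme.Modules.pushforward i).obj G).presheaf.stalk (i z) ≃ₗ[X.presheaf.stalk (i z)] F.presheaf.stalk (i z) :=
    ((DerSch.stalkFunctor X (i z)).mapIso e).toLinearEquiv
  exact Module.Flat.of_linearEquiv (R := S.presheaf.stalk (f (i z)))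
    { toFun := fun m => φ (e1.symm m)
      invFun := fun m => e1 (φ.symm m)
      map_add' := fun a b => by rw [map_add, map_add]
      map_smul' := fun r m => by
        have h1 : (r • m : G.presheaf.stalk z) = (f.stalkMap (i z)).hom r • m := by
          show ((i ≫ f).stalkMap z).hom r • m = (i.stalkMap z).hom ((f.stalkMap (i z)).hom r) • m
          rw [Scheme.Hom.stalkMap_comp]
          rfl
        show φ (e1.symm (r • m)) = (f.stalkMap (i z)).hom r • φ (e1.symm m)
        rw [h1, e1.symm.map_smul, φ.map_smul]
      left_inv := fun m => by simp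
      right_inv := fun m => by simp }

/-- A finitely presented module comes from a finitely presented closed subscheme with the same
underlying set as its support. -/
theorem exists_fp_closed_model {F : X.Modules} (hF : CohB1.IsFP F) :
    ∃ (Z : Scheme.{u}) (i : Z ⟶ X) (G : Z.Modules), IsClosedImmersion i ∧ LocallyOfFinitePresentation i ∧
      Set.range i = CohB1.support F ∧ CohB1.IsFP G ∧
      Nonempty ((Scheme.Modules.pushforward i).obj G ≅ F) := by
  have hq := QCoh.isQCoh_of_isFP hF
  have hft := QCoh.isFT_of_isFP hF
  let I := Fitt.sheafIdeal F 0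
  let i := I.subschemeι
  let G := (Scheme.Modules.pullback i).obj F
  have hiso : IsIso ((Scheme.Modules.pullbackPushforwardAdjunction i).unit.app F) :=
    (QCoh.isIso_unit_closed_iff i hq).2 fun U a ha s => by
      rw [Scheme.IdealSheafData.ker_subschemeι] at ha
      haveI := QCoh.finite_of_isFT hq hft U.2
      have ha' : a ∈ Fitt.ideal Γ(X, U.1) Γ(F, U.1) 0 := by
        rw [← FittX.sheafIdeal_ideal hq hft 0 U]; exact ha
      exact Module.mem_annihilator.1 (FittX.ideal_annihilator ha') s
  refine ⟨I.subscheme, i, G, inferInstance,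
    MorLib.IdealFG.lfp_subschemeι fun U => FittX.isFiniteTypeIdeal hF 0 U, ?_,
    ModStLib.isFP_pullback i hF,
    ⟨(@asIso _ _ _ _ ((Scheme.Modules.pullbackPushforwardAdjunction i).unit.app F) hiso).symm⟩⟩
  rw [Scheme.IdealSheafData.range_subschemeι]
  exact FittX.support_sheafIdeal_zero hq hft

end Groth.Agent.PerfD40
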