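import Groth.Agent.PerfD40.ApproxMain

/-!
# Maps from perfect objects into objects with support factor through perfect objects with support
-/

set_option linter.style.haveILetI false

universe u

open CategoryTheory CategoryTheory.Limits Pretriangulated AlgebraicGeometry TopologicalSpace

attribute [local instance] HasDerivedCategory.standard

namespace Groth.Agent.PerfD40

open Groth.Agent.KFlatLib

/-- Maps from perfect objects into objects vanishing on a quasi-compact open factor through perfect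
objects vanishing there. -/
def FactorHolds (Y : Scheme.{u}) : Prop :=
  ∀ (V : Y.Opens), IsCompact (V : Set Y) → ∀ (R N : DCoh.D Y) (s : R ⟶ N), DCoh.IsPerfect R →
    DCoh.IsQCohD N → IsZero ((DCoh.restrictD V.ι).obj N) →
    ∃ (R' : DCoh.D Y) (a : R ⟶ R') (α : R' ⟶ N), DCoh.IsPerfect R' ∧
      IsZero ((DCoh.restrictD V.ι).obj R') ∧ a ≫ α = s

variable (Y : Scheme.{u}) [CompactSpace Y] [QuasiSeparatedSpace Y]

/-- Factoring passes from an open to its union with an affine open. -/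
theorem factorHolds_step (W O : Y.Opens) (hWO : W ⊔ O = ⊤) (hW : IsCompact (W : Set Y))
    (hO : IsAffineOpen O) (hFW : FactorHolds (W : Scheme.{u})) : FactorHolds Y := by
  intro V hV R N s hR hN hNV
  haveI : IsAffine (O : Scheme.{u}) := hO
  haveI : CompactSpace (W : Scheme.{u}) := isCompact_iff_compactSpace.1 hW
  haveI : QuasiCompact W.ι := quasiCompact_of_compactSpace _
  haveI : CompactSpace (O : Scheme.{u}) := isCompact_iff_compactSpace.1 hO.isCompact
  haveI : QuasiCompact O.ι := quasiCompact_of_compactSpace _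
  haveI : HasInjectiveResolutions (W : Scheme.{u}).Modules := hasInjectiveResolutions_modules
  haveI := hasRpush_scheme W.ι
  haveI := hasRpush_scheme O.ι
  obtain ⟨R', a, α, hR', hR'V, ha⟩ := hFW (W.ι ⁻¹ᵁ V) (W.ι.isCompact_preimage hV)
    ((DCoh.restrictD W.ι).obj R) ((DCoh.restrictD W.ι).obj N) ((DCoh.restrictD W.ι).map s)
    (isPerfect_restrictD _ hR) (isQCohD_restrictD _ hN)
    ((isZero_restrictD_of_factor ((W.ι ⁻¹ᵁ V).ι ≫ W.ι) V (fun z => z.2) N hNV).of_iso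
      ((restrictDComp _ W.ι _ rfl).app N))
  obtain ⟨R₁, β, ρ, hR₁, hR₁V, hρ⟩ := exists_lift_step Y W O V hWO hW hO hV N hN R' hR' hR'V α
  obtain ⟨C, g, δ, hT⟩ := distinguished_cocone_triangle β
  have hCq : DCoh.IsQCohD C := isQCohD_obj₃ hT (isQCohD_of_isPerfect hR₁) hN
  have hCV : IsZero ((DCoh.restrictD V.ι).obj C) :=
    Triangle.isZero₃_of_isZero₁₂ _ ((DCoh.restrictD V.ι).map_distinguished _ hT) hR₁V hNV
  let adj := restrictRpushAdj W.ι
  have hsW : (DCoh.restrictD W.ι).map (s ≫ g) = 0 := by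
    rw [Functor.map_comp, ← ha, ← hρ, Category.assoc, Category.assoc, ← Functor.map_comp,
      show β ≫ g = 0 from comp_distTriang_mor_zero₁₂ _ hT, Functor.map_zero, comp_zero, comp_zero]
  have hsu : (s ≫ g) ≫ adj.unit.app C = 0 :=
    (adj.unit.naturality (s ≫ g)).trans (by
      haveI : (DCoh.Rpush W.ι).Additive :=
        (exists_rightDerived_triangle (Scheme.Modules.pushforward W.ι) _
          (contractible_distinguished R')).1
      rw [Functor.comp_map, hsW, Functor.map_zero, comp_zero])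
  obtain ⟨C', ι₀, δ₀, hT'⟩ := distinguished_cocone_triangle₁ (adj.unit.app C)
  obtain ⟨t, ht⟩ : ∃ t : R ⟶ C', s ≫ g = t ≫ ι₀ := Triangle.coyoneda_exact₂ _ hT' (s ≫ g) hsu
  have hC'q : DCoh.IsQCohD C' := isQCohD_obj₁ hT' hCq (isQCohD_rpush _ (isQCohD_restrictD _ hCq))
  have hC'W : IsZero ((DCoh.restrictD W.ι).obj C') := by
    refine (Triangle.isZero₁_iff_isIso₂ _ ((DCoh.restrictD W.ι).map_distinguished _ hT')).2 ?_
    obtain ⟨cc⟩ := nonempty_rpush_restrictD_self W.ι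
    haveI : (DCoh.Rpush W.ι).Full := (adj.fullyFaithfulROfCompIsoId cc).full
    haveI : (DCoh.Rpush W.ι).Faithful := (adj.fullyFaithfulROfCompIsoId cc).faithful
    exact inferInstanceAs (IsIso ((DCoh.restrictD W.ι).map (adj.unit.app C)))
  have hC'V : IsZero ((DCoh.restrictD V.ι).obj C') := by
    haveI := hasRpush_scheme (W.ι ∣_ V)
    haveI : (DCoh.Rpush (W.ι ∣_ V)).Additive :=
      (exists_rightDerived_triangle (Scheme.Modules.pushforward (W.ι ∣_ V)) _
        (contractible_distinguished ((DCoh.restrictD (W.ι ⁻¹ᵁ V).ι).obj ((DCoh.restrictD W.ι).obj C)))).1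
    refine Triangle.isZero₁_of_isZero₂₃ _ ((DCoh.restrictD V.ι).map_distinguished _ hT') hCV ?_
    exact (Functor.map_isZero (DCoh.Rpush (W.ι ∣_ V))
      ((isZero_restrictD_of_factor ((W.ι ⁻¹ᵁ V).ι ≫ W.ι) V (fun z => z.2) C hCV).of_iso
        ((restrictDComp _ W.ι _ rfl).app C))).of_iso
      ((nonempty_rpush_restrictD_iso W.ι V).some.app ((DCoh.restrictD W.ι).obj C))
  have hC'WV : IsZero ((DCoh.restrictD (W ⊔ V).ι).obj C') := (isZero_restrictD_iff_support _ C').2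
    fun i x hx hx' => (Opens.mem_sup.1 hx').elim (support_subset_of_isZero_restrictD W C' hC'W i hx)
      (support_subset_of_isZero_restrictD V C' hC'V i hx)
  have hc : ((W ⊔ V : Y.Opens) : Set Y)ᶜ ⊆ (O : Set Y) := fun y hy =>
    (Opens.mem_sup.1 (show y ∈ W ⊔ O by rw [hWO]; trivial)).resolve_left
      fun h => hy (Opens.mem_sup.2 (Or.inl h))
  obtain ⟨θ⟩ := nonempty_iso_rpush_restrict O ((W ⊔ V : Y.Opens) : Set Y)ᶜ
    (W ⊔ V).isOpen.isClosed_compl hc C' fun i => support_subset_of_isZero_restrictD _ C' hC'WV i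
  let adjO := restrictRpushAdj O.ι
  have hWV : IsCompact ((W ⊔ V : Y.Opens) : Set Y) := by rw [Opens.coe_sup]; exact hW.union hV
  obtain ⟨R₂, i₂, φ₂, hR₂, hi₂, hR₂z, -⟩ := exists_factor_affine (O : Scheme.{u}) (O.ι ⁻¹ᵁ (W ⊔ V))
    (O.ι ⁻¹ᵁ (W ⊔ V)) (O.ι.isCompact_preimage hWV) (O.ι.isCompact_preimage hWV)
    ((DCoh.restrictD O.ι).obj R) ((DCoh.restrictD O.ι).obj C') (isPerfect_restrictD _ hR)
    (isQCohD_restrictD _ hC'q)
    ((isZero_restrictD_of_factor ((O.ι ⁻¹ᵁ (W ⊔ V)).ι ≫ O.ι) (W ⊔ V) (fun z => z.2) C' hC'WV).of_iso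
      ((restrictDComp _ O.ι _ rfl).app C'))
    ((adjO.homEquiv _ _).symm (t ≫ θ.hom))
  let Q := (DCoh.Rpush O.ι).obj R₂
  have hQ : DCoh.IsPerfect Q := by
    refine isPerfect_rpush_of_support O R₂ hR₂ _ ?_ (support_subset_of_isZero_restrictD _ R₂ hR₂z)
    convert (W ⊔ V).isOpen.isClosed_compl using 1
    ext y
    exact ⟨fun ⟨x, hx, hxy⟩ => hxy ▸ hx, fun hy => ⟨⟨y, hc hy⟩, hy, rfl⟩⟩
  have hQV : IsZero ((DCoh.restrictD V.ι).obj Q) := by
    haveI := hasRpush_scheme (O.ι ∣_ V)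
    haveI : (DCoh.Rpush (O.ι ∣_ V)).Additive :=
      (exists_rightDerived_triangle (Scheme.Modules.pushforward (O.ι ∣_ V)) _
        (contractible_distinguished ((DCoh.restrictD (O.ι ⁻¹ᵁ V).ι).obj R₂))).1
    exact (Functor.map_isZero (DCoh.Rpush (O.ι ∣_ V))
      ((isZero_restrictD_iff_support _ R₂).2 fun i x hx hx' =>
        support_subset_of_isZero_restrictD _ R₂ hR₂z i hx (Opens.mem_sup.2 (Or.inr hx')))).of_iso
      ((nonempty_rpush_restrictD_iso O.ι V).some.app R₂)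
  let iQ : R ⟶ Q := adjO.homEquiv _ _ i₂
  let φQ : Q ⟶ C := (DCoh.Rpush O.ι).map φ₂ ≫ θ.inv ≫ ι₀
  have hiQ : iQ ≫ φQ = s ≫ g := by
    have h1 : iQ ≫ (DCoh.Rpush O.ι).map φ₂ = t ≫ θ.hom := by
      rw [← adjO.homEquiv_naturality_right, hi₂, Equiv.apply_symm_apply]
    simp only [φQ, reassoc_of% h1, Iso.hom_inv_id_assoc, ht]
  obtain ⟨R₃, f', g', hS⟩ := distinguished_cocone_triangle₂ (φQ ≫ δ)
  have hcomm : (φQ ≫ δ) ≫ (shiftFunctor (DCoh.D Y) (1 : ℤ)).map (𝟙 R₁) = φQ ≫ δ := by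
    rw [CategoryTheory.Functor.map_id, Category.comp_id]
  obtain ⟨α₃, hα₁', hα₂'⟩ : ∃ α₃ : R₃ ⟶ N, f' ≫ α₃ = β ∧ g' ≫ φQ = α₃ ≫ g := by
    obtain ⟨α₃, hα₁, hα₂⟩ := complete_distinguished_triangle_morphism₂
      (Triangle.mk f' g' (φQ ≫ δ)) (Triangle.mk β g δ) hS hT (𝟙 R₁) φQ hcomm
    exact ⟨α₃, hα₁.trans (Category.id_comp β), hα₂⟩
  have h0 : iQ ≫ φQ ≫ δ = 0 := by
    rw [← Category.assoc, hiQ, Category.assoc,
      show g ≫ δ = 0 from comp_distTriang_mor_zero₂₃ _ hT, comp_zero]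
  obtain ⟨a₀, ha₀⟩ : ∃ a₀ : R ⟶ R₃, iQ = a₀ ≫ g' := Triangle.coyoneda_exact₃ _ hS iQ h0
  obtain ⟨z, hz⟩ : ∃ z : R ⟶ R₁, s - a₀ ≫ α₃ = z ≫ β := Triangle.coyoneda_exact₂ _ hT _ (by
    change (s - a₀ ≫ α₃) ≫ g = 0
    rw [Preadditive.sub_comp, Category.assoc, ← hα₂', ← reassoc_of% ha₀, hiQ, sub_self])
  refine ⟨R₃, a₀ + z ≫ f', α₃, (isPerfect_iff _).2 ((locSP_two_of_three _ hS).2.1
    ((isPerfect_iff _).1 hR₁) ((isPerfect_iff _).1 hQ)),
    Triangle.isZero₂_of_isZero₁₃ _ ((DCoh.restrictD V.ι).map_distinguished _ hS) hR₁V hQV, ?_⟩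
  rw [Preadditive.add_comp, Category.assoc, hα₁', ← hz]
  abel

omit [CompactSpace Y] [QuasiSeparatedSpace Y] in
/-- Factoring is invariant under isomorphisms of schemes. -/
theorem FactorHolds.of_iso {Z : Scheme.{u}} (e : Z ≅ Y) (h : FactorHolds Y) : FactorHolds Z := by
  intro V hV R N s hR hN hNV
  let Φ := restrictDEquiv e.symm
  haveI : (DCoh.restrictD e.inv).Full := inferInstanceAs Φ.functor.Full
  haveI : (DCoh.restrictD e.inv).Faithful := inferInstanceAs Φ.functor.Faithful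
  obtain ⟨R', a, α, hR', hR'V, ha⟩ := h (e.inv ⁻¹ᵁ V) (e.inv.homeomorph.isCompact_preimage.2 hV)
    ((DCoh.restrictD e.inv).obj R) ((DCoh.restrictD e.inv).obj N) ((DCoh.restrictD e.inv).map s)
    (isPerfect_restrictD _ hR) (isQCohD_restrictD _ hN) (isZero_restrictD_preimage e.symm V hNV)
  let R'' := Φ.inverse.obj R'
  let ε : (DCoh.restrictD e.inv).obj R'' ≅ R' := Φ.counitIso.app R'
  obtain ⟨a', ha'⟩ := (DCoh.restrictD e.inv).map_surjective (a ≫ ε.inv)
  obtain ⟨α', hα'⟩ := (DCoh.restrictD e.inv).map_surjective (ε.hom ≫ α)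
  refine ⟨R'', a', α', isPerfect_restrictD e.hom hR',
    isZero_restrictD_of_preimage e.symm V (hR'V.of_iso ((DCoh.restrictD _).mapIso ε)),
    (DCoh.restrictD e.inv).map_injective ?_⟩
  rw [Functor.map_comp, ha', hα', Category.assoc, Iso.inv_hom_id_assoc, ha]

omit [CompactSpace Y] [QuasiSeparatedSpace Y] in
/-- Factoring on the empty scheme. -/
theorem factorHolds_of_isEmpty [IsEmpty Y] : FactorHolds Y := fun _ _ _ N s _ _ hNV =>
  ⟨N, s, 𝟙 N, isPerfect_of_cover N fun y => isEmptyElim y, hNV, Category.comp_id s⟩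

/-- Factoring holds on quasi-compact quasi-separated schemes. -/
theorem factorHolds : FactorHolds Y := by
  suffices h : ∀ S : Y.Opens, IsCompact (S : Set Y) → FactorHolds (S : Scheme.{u}) from
    FactorHolds.of_iso _ Y.topIso.symm (h ⊤ isCompact_univ)
  intro S hS
  refine compact_open_induction_on (P := fun S => FactorHolds (S : Scheme.{u})) S hS ?_ ?_
  · haveI : IsEmpty ((⊥ : Y.Opens) : Scheme.{u}) := ⟨fun x => x.2⟩
    exact factorHolds_of_isEmpty _
  intro S hS U hAS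
  let W : Y.Opens := S ⊔ U.1
  have hWc : IsCompact (W : Set Y) := by
    rw [Opens.coe_sup]; exact (show IsCompact (S : Set Y) from hS).union U.2.isCompact
  haveI : CompactSpace (W : Scheme.{u}) := isCompact_iff_compactSpace.1 hWc
  haveI : QuasiSeparatedSpace (W : Scheme.{u}) := .of_isOpenEmbedding W.ι.isOpenEmbedding
  have h1 : W.ι ''ᵁ (W.ι ⁻¹ᵁ S) = S := Opens.ext (Set.image_preimage_eq_of_subset
    (by rw [Scheme.Opens.range_ι]; exact Set.subset_union_left))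
  have h2 : W.ι ''ᵁ (W.ι ⁻¹ᵁ U.1) = U.1 := Opens.ext (Set.image_preimage_eq_of_subset
    (by rw [Scheme.Opens.range_ι]; exact Set.subset_union_right))
  refine factorHolds_step (W : Scheme.{u}) (W.ι ⁻¹ᵁ S) (W.ι ⁻¹ᵁ U.1) ?_ ?_ ?_ ?_
  · exact top_unique fun w _ => w.2
  · rw [W.ι.isOpenEmbedding.isInducing.isCompact_iff]
    change IsCompact ((W.ι ''ᵁ (W.ι ⁻¹ᵁ S) : Y.Opens) : Set Y)
    rw [h1]
    exact hS
  · exact (Scheme.Hom.isAffineOpen_iff_of_isOpenImmersion W.ι).1 (by rw [h2]; exact U.2)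
  · exact FactorHolds.of_iso _ (IsOpenImmersion.isoOfRangeEq ((W.ι ⁻¹ᵁ S).ι ≫ W.ι) S.ι (by
      rw [Scheme.Hom.comp_base, TopCat.coe_comp, Set.range_comp, Scheme.Opens.range_ι,
        Scheme.Opens.range_ι]
      exact congrArg (fun O : Y.Opens => (O : Set Y)) h1)) hAS

end Groth.Agent.PerfD40
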