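import Groth.Agent.PerfD40.Compact
import Groth.Agent.KFlatLib.Scheme.TildePerf
import Groth.Agent.KFlatLib.Scheme.Coproducts
import Mathlib.Algebra.Homology.HomologicalComplexLimits

/-!
# Maps from perfect objects into bounded complexes of free modules see finitely many basis vectors
-/

set_option linter.style.haveILetI false

universe u

open CategoryTheory CategoryTheory.Limits AlgebraicGeometry Pretriangulated

attribute [local instance] HasDerivedCategory.standard

namespace Groth.Agent.PerfD40

open Groth.Agent.KFlatLib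

/-- All maps into direct sums of objects with quasi-coherent cohomology have finite support. -/
def SeesFinitely {X : Scheme.{u}} (K : DCoh.D X) : Prop :=
  ∀ (J : Type u) (G : J → DCoh.D X) [HasCoproduct G], (∀ j, DCoh.IsQCohD (G j)) → FixAt G K

lemma seesFinitely_of_isPerfect {X : Scheme.{u}} [CompactSpace X] [QuasiSeparatedSpace X] {K : DCoh.D X}
    (hK : DCoh.IsPerfect K) : SeesFinitely K := fun _ G _ hG => fixAt_of_isQCohD hK G hG

variable {A : CommRingCat.{u}} [PreservesFiniteLimits (tilde.functor A)] (U : (Spec A).Opens)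

/-- Restriction of tildes of modules to an open. -/
noncomputable abbrev toU : DerivedCategory (ModuleCat.{u} A) ⥤ DCoh.D (U : Scheme.{u}) :=
  DCoh.tildeD A ⋙ DCoh.restrictD U.ι

lemma isQCohD_toU (N : DerivedCategory (ModuleCat.{u} A)) : DCoh.IsQCohD ((toU U).obj N) :=
  isQCohD_restrictD _ (isQCohD_tildeD A N)

/-- The free module on a type, in one degree, as an object over `U`. -/
noncomputable abbrev freeU (i : ℤ) (σ : Type u) : DCoh.D (U : Scheme.{u}) :=
  (toU U).obj (DerivedCategory.Q.obj
    ((HomologicalComplex.single (ModuleCat.{u} A) (ComplexShape.up ℤ) i).obj (ModuleCat.of A (σ →₀ A))))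

/-- The projection of a free module away from a set of basis vectors. -/
noncomputable def freeAway {σ : Type u} (S : Set σ) :
    ModuleCat.of A (σ →₀ A) ⟶ ModuleCat.of A ({s // s ∉ S} →₀ A) :=
  ModuleCat.ofHom (Finsupp.lcomapDomain Subtype.val Subtype.val_injective)

/-- The cofan exhibiting a free module as a sum of lines. -/
noncomputable def freeCofan (σ : Type u) : Cofan fun _ : σ => ModuleCat.of A A :=
  Cofan.mk (ModuleCat.of A (σ →₀ A)) fun s => ModuleCat.ofHom (Finsupp.lsingle s)

/-- A free module is a sum of lines. -/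
noncomputable def isColimitFreeCofan (σ : Type u) : IsColimit (freeCofan (A := A) σ) :=
  Cofan.IsColimit.mk _ (fun t => ModuleCat.ofHom (Finsupp.lsum A fun s => (t.inj s).hom))
    (fun t s => ModuleCat.hom_ext (LinearMap.ext fun a => by simp [freeCofan]))
    (fun t m hm => ModuleCat.hom_ext (Finsupp.lhom_ext fun s a => by
      exact (LinearMap.congr_fun (congrArg ModuleCat.Hom.hom (hm s)) a).trans
        (by erw [Finsupp.lsum_single])))

/-- Restricted tildes of single modules are single restricted tildes. -/
noncomputable def singleToUIso (i : ℤ) :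
    HomologicalComplex.single (ModuleCat.{u} A) (ComplexShape.up ℤ) i ⋙ DerivedCategory.Q ⋙ toU U ≅
      (tilde.functor A ⋙ Scheme.Modules.restrictFunctor U.ι) ⋙
        HomologicalComplex.single (U : Scheme.{u}).Modules (ComplexShape.up ℤ) i ⋙ DerivedCategory.Q :=
  Functor.isoWhiskerLeft _ ((Functor.associator _ _ _).symm ≪≫
    Functor.isoWhiskerRight (tilde.functor A).mapDerivedCategoryFactors _ ≪≫
    Functor.associator _ _ _ ≪≫
    Functor.isoWhiskerLeft _ (Scheme.Modules.restrictFunctor U.ι).mapDerivedCategoryFactors) ≪≫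
  (Functor.associator _ _ _).symm ≪≫
  Functor.isoWhiskerRight (HomologicalComplex.singleMapHomologicalComplex (tilde.functor A)
    (ComplexShape.up ℤ) i) _ ≪≫
  Functor.associator _ _ _ ≪≫
  Functor.isoWhiskerLeft _ ((Functor.associator _ _ _).symm ≪≫
    Functor.isoWhiskerRight (HomologicalComplex.singleMapHomologicalComplex
      (Scheme.Modules.restrictFunctor U.ι) (ComplexShape.up ℤ) i) _ ≪≫
    Functor.associator _ _ _) ≪≫
  (Functor.associator _ _ _).symm

variable {U}

/-- A map from a compact object into a free module in one degree involves finitely many basis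
vectors. -/
theorem exists_finset_freeAway (hU : IsCompact (U : Set (Spec A))) {P : DCoh.D (U : Scheme.{u})}
    (hP : SeesFinitely P) (i : ℤ) {σ : Type u} (φ : P ⟶ freeU U i σ) :
    ∃ S : Finset σ, φ ≫ (toU U).map (DerivedCategory.Q.map
      ((HomologicalComplex.single (ModuleCat.{u} A) (ComplexShape.up ℤ) i).map
        (freeAway (S : Set σ)))) = 0 := by
  classical
  haveI : CompactSpace (U : Scheme.{u}) := isCompact_iff_compactSpace.1 hU
  haveI : QuasiSeparatedSpace (U : Scheme.{u}) := .of_isOpenEmbedding U.ι.isOpenEmbedding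
  let F : ModuleCat.{u} A ⥤ (U : Scheme.{u}).Modules :=
    tilde.functor A ⋙ Scheme.Modules.restrictFunctor U.ι
  let s := HomologicalComplex.single (U : Scheme.{u}).Modules (ComplexShape.up ℤ) i
  haveI : PreservesColimitsOfSize.{u, u} F := by
    haveI : (tilde.functor A).IsLeftAdjoint := (tilde.adjunction (R := A)).isLeftAdjoint
    infer_instance
  haveI := preservesColimit_Q fun _ : σ => s.obj (F.obj (ModuleCat.of A A))
  haveI : PreservesColimit (Discrete.functor (fun _ : σ => ModuleCat.of A A) ⋙ F ⋙ s)
      (DerivedCategory.Q : _ ⥤ DerivedCategory (U : Scheme.{u}).Modules) :=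
    preservesColimit_of_iso_diagram _
      (Discrete.natIso fun _ => Iso.refl _ :
        Discrete.functor (fun _ : σ => s.obj (F.obj (ModuleCat.of A A))) ≅
          Discrete.functor (fun _ : σ => ModuleCat.of A A) ⋙ F ⋙ s)
  let hc := isColimitOfPreserves (DerivedCategory.Q (C := (U : Scheme.{u}).Modules))
    (isColimitOfPreserves (F ⋙ s) (isColimitFreeCofan (A := A) σ))
  let G : σ → DCoh.D (U : Scheme.{u}) := fun _ => DerivedCategory.Q.obj (s.obj (F.obj (ModuleCat.of A A)))
  haveI : HasColimitsOfShape (Discrete σ) (DCoh.D (U : Scheme.{u})) :=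
    TriCat.hasColimitsOfShape_derivedCategory
  let cmp : ∀ (M : ModuleCat.{u} A), (toU U).obj (DerivedCategory.Q.obj
      ((HomologicalComplex.single (ModuleCat.{u} A) (ComplexShape.up ℤ) i).obj M)) ≅
      DerivedCategory.Q.obj (s.obj (F.obj M)) := fun M => (singleToUIso U i).app M
  have hcmp : ∀ {M M' : ModuleCat.{u} A} (g : M ⟶ M'),
      (toU U).map (DerivedCategory.Q.map
        ((HomologicalComplex.single (ModuleCat.{u} A) (ComplexShape.up ℤ) i).map g)) ≫ (cmp M').hom =
      (cmp M).hom ≫ DerivedCategory.Q.map (s.map (F.map g)) := fun g =>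
    (singleToUIso U i).hom.naturality g
  let e : ∐ G ≅ DerivedCategory.Q.obj (s.obj (F.obj (ModuleCat.of A (σ →₀ A)))) :=
    (coproductIsCoproduct G).coconePointsIsoOfNatIso hc (Discrete.natIso fun _ => Iso.refl _)
  have he : ∀ x, Sigma.ι G x ≫ e.hom =
      DerivedCategory.Q.map (s.map (F.map (ModuleCat.ofHom (Finsupp.lsingle x)))) := fun x => by
    have := (coproductIsCoproduct G).comp_coconePointsIsoOfNatIso_hom hc
      (Discrete.natIso fun _ => Iso.refl _) ⟨x⟩
    simpa [e, freeCofan] using this
  have hq : ∀ x, DCoh.IsQCohD (G x) := fun x =>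
    isQCohD_of_iso (cmp (ModuleCat.of A A)) (isQCohD_toU U _)
  obtain ⟨S, hS⟩ := hP _ G hq (φ ≫ (cmp _).hom ≫ e.inv)
  refine ⟨S, (cancel_mono (cmp _).hom).1 ?_⟩
  rw [zero_comp, Category.assoc, hcmp]
  have hkill : partProj G S ≫ e.hom ≫
      DerivedCategory.Q.map (s.map (F.map (freeAway (A := A) (S : Set σ)))) = 0 :=
    Sigma.hom_ext _ _ fun x => by
      rw [comp_zero]
      by_cases hx : x ∈ S
      · rw [← Category.assoc, ι_partProj_mem G hx, ← Category.assoc, he, ← Functor.map_comp,
          ← Functor.map_comp, ← Functor.map_comp]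
        have hz : ModuleCat.ofHom (Finsupp.lsingle (R := A) x) ≫ freeAway (A := A) (S : Set σ) = 0 := by
          refine ModuleCat.hom_ext (LinearMap.ext fun a => Finsupp.ext fun t => ?_)
          simp only [freeAway, ModuleCat.hom_comp, ModuleCat.hom_ofHom, LinearMap.comp_apply,
            Finsupp.lcomapDomain_apply, Finsupp.comapDomain_apply, Finsupp.lsingle_apply]
          rw [Finsupp.single_eq_of_ne]
          · rfl
          · intro h; exact t.2 (h ▸ hx)
        rw [hz, Functor.map_zero, Functor.map_zero, Functor.map_zero]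
      · rw [← Category.assoc, ι_partProj_not_mem G hx, zero_comp]
  calc φ ≫ (cmp _).hom ≫ DerivedCategory.Q.map (s.map (F.map (freeAway (A := A) (S : Set σ))))
      = (φ ≫ (cmp _).hom ≫ e.inv) ≫ e.hom ≫
          DerivedCategory.Q.map (s.map (F.map (freeAway (A := A) (S : Set σ)))) := by
        rw [Category.assoc, Category.assoc, Iso.inv_hom_id_assoc]
    _ = 0 := by rw [← hS, Category.assoc, hkill, comp_zero]

end Groth.Agent.PerfD40
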