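import Groth.Agent.PerfD40.RelAmpLocal
import Groth.Agent.PerfD40.AmpApprox
import Groth.Agent.RelPC13.FlatBase
import Groth.Agent.RelPC65.FlatTerms
import Groth.Agent.KFlatLib.Perfect.Corollaries
import Groth.Agent.KFlatLib.Perfect.FiniteType

/-!
# Relatively perfect objects as bounded complexes of finitely presented modules flat over the base
-/

set_option linter.style.haveILetI false
set_option backward.isDefEq.respectTransparency false

universe u

open CategoryTheory CategoryTheory.Limits AlgebraicGeometry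

attribute [local instance] HasDerivedCategory.standard

namespace Groth.Agent.PerfD40

open Groth.Agent.KFlatLib Groth.Agent.RelPC13

variable {X S : Scheme.{u}}

/-- For a flat morphism locally of finite presentation relative pseudo-coherence is
pseudo-coherence. -/
theorem rel_iff_locPC (g : X ⟶ S) [Flat g] [LocallyOfFinitePresentation g] (m : ℤ) (E : DCoh.D X) :
    DerSch.IsPseudoCoherentRel g m E ↔ LocPC m E := by
  let eid : (pD (𝟙 X)).obj E ≅ E :=
    (pD (𝟙 X)).mapIso (repIso E).symm ≪≫ pDQ _ _ ≪≫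
      DerivedCategory.Q.mapIso ((NatIso.mapHomologicalComplex
        (Scheme.Modules.pushforwardId X) (ComplexShape.up ℤ)).app _ ≪≫
          (Functor.mapHomologicalComplexIdIso X.Modules (ComplexShape.up ℤ)).app _) ≪≫ repIso E
  have h := rel_closedImm_iff (𝟙 X) g m E
  rw [Category.id_comp] at h
  exact h.trans ⟨fun h => h.of_iso eid, fun h => h.of_iso eid.symm⟩

/-- Bounded complexes of finitely presented modules flat over the base are pseudo-coherent. -/
theorem locPC_of_flat_fp_terms (g : X ⟶ S) [Flat g] [LocallyOfFinitePresentation g]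
    (G : CochainComplex X.Modules ℤ) (b : ℤ) (hb : ∀ i, b < i → IsZero (G.X i))
    (hfl : ∀ i, FlatMod.IsFlatOver g (G.X i)) (hfp : ∀ i, CohB1.IsFP (G.X i)) (m : ℤ) :
    LocPC m (DCoh.toD X G) :=
  (rel_iff_locPC g m _).1 (RelPC65.relAll_of_terms G b hb hfl
    (fun i => (rel_iff_locPC g (-1) _).2 (locPC_of_isFP _ (hfp i))) m)

lemma isFP_of_flf_presentation {A B M : X.Modules} (d : A ⟶ B) (e : cokernel d ≅ M)
    (hA : FlatMod.IsFinLocFree A) (hB : FlatMod.IsFinLocFree B) : CohB1.IsFP M :=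
  isFP_of_free fun x => by
    obtain ⟨V, i, _, a, b, hxV, hij, ⟨eA⟩, ⟨eB⟩⟩ := exists_free_pair (𝟙 X) hA hB (x := x) ⟨x, rfl⟩
    let R := Scheme.Modules.restrictFunctor i
    exact ⟨V, a, b, eA.inv ≫ R.map d ≫ eB.hom, hxV,
      ⟨cokernel.mapIso _ (R.map d) eA.symm eB.symm (by simp) ≪≫
        (PreservesCokernel.iso R d).symm ≪≫ R.mapIso e ≪≫
          (Scheme.Modules.restrictFunctorCongr ((Category.comp_id i).symm.trans hij)).app _⟩⟩

open Pretriangulated in
/-- A relatively perfect object is locally a bounded complex of finitely presented modules flat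
over the base. -/
theorem exists_flat_fp_model (f : X ⟶ S) [Flat f] (E : DCoh.D X) (hpc : ∀ m, LocPC m E)
    (htor : DCoh.LocHasFiniteRelTorDim f E) (x : X) :
    ∃ (W : X.Opens) (G : CochainComplex (W : Scheme.{u}).Modules ℤ) (a b : ℤ), x ∈ W ∧
      G.IsStrictlyGE a ∧ G.IsStrictlyLE b ∧
      (∀ i, CohB1.IsFP (G.X i) ∧ FlatMod.IsFlatOver (W.ι ≫ f) (G.X i)) ∧
      Nonempty (DerivedCategory.Q.obj G ≅ (rho W.ι).obj E) := by
  obtain ⟨V, a, b, hx, hV⟩ := (locRelTor_iff f E).1 htor x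
  obtain ⟨U, j, _, hU, P₀, α₀, hP₀, hα₀⟩ := (hpc (a - 3)).restrict V.ι ⟨x, hx⟩
  let k := j ≫ V.ι
  let i : (k.opensRange : Scheme.{u}) ⟶ U := rangeHom k
  let W := k.opensRange
  let ji : (W : Scheme.{u}) ⟶ V := i ≫ j
  have hji : ji ≫ V.ι = W.ι := (Category.assoc _ _ _).trans (rangeHom_fac k)
  have hW : HasAmp (FlatMod.IsFlatOver (W.ι ≫ f)) a b ((rho W.ι).obj E) :=
    (hV.restrict (V.ι ≫ f) ji _ (by rw [← Category.assoc, hji])).of_iso (rhoComp ji V.ι W.ι hji E)
  let P := (rCx i).obj P₀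
  have hP : DCoh.IsStrictlyPerfect P := isStrictlyPerfect_restrict i hP₀
  let α : DerivedCategory.Q.obj P ⟶ (rho W.ι).obj E :=
    ((rhoQ i).app P₀).inv ≫ (rho i).map α₀ ≫
      (rhoComp i j ji rfl ((rho V.ι).obj E) ≪≫ rhoComp ji V.ι W.ι hji E).hom
  have hα : IsPcMap (a - 3) α :=
    (isPcMap_comp_iso_iff _ _ _).2 (hα₀.map_exact (Scheme.Modules.restrictFunctor i))
  obtain ⟨⟨c, d, hcd⟩, hPf⟩ := hP
  let b' := max (max b d) (a - 3)
  haveI : CochainComplex.IsStrictlyLE P b' :=
    (CochainComplex.isStrictlyLE_iff _ _).2 fun l hl => hcd l (Or.inr (by omega))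
  obtain ⟨G, hG1, hG2, hG3, ⟨en⟩, eGX, eG⟩ :=
    (ampClass_isFlatOver (W.ι ≫ f)).exists_model_of_isPcMap (n := a - 1)
      (fun l => isFlatOver_of_isFlat _ (isFlat_of_isFinLocFree (hPf l))) α hα
      (hW.mono le_rfl (by omega : b ≤ b')) (by omega) (by omega) (by omega)
  have hfp : ∀ l, CohB1.IsFP (G.X l) := fun l => by
    rcases lt_trichotomy l (a - 1) with h | h | h
    · refine isFP_of_flf_presentation (0 : P.X c ⟶ G.X l) cokernelZeroIsoTarget (hPf c) ?_
      exact isFinLocFree_of_isZero (G.isZero_of_isStrictlyGE _ _ h)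
    · subst h
      exact isFP_of_flf_presentation (P.d (a - 1 - 1) (a - 1))
        ((cokernelIsCokernel _).coconePointUniqueUpToIso
          (P.opcyclesIsCokernel (a - 1 - 1) (a - 1) (by simp)) ≪≫ en.symm) (hPf _) (hPf _)
    · obtain ⟨el⟩ := eGX l h
      exact isFP_of_flf_presentation (0 : P.X l ⟶ P.X l) (cokernelZeroIsoTarget ≪≫ el.symm)
        (hPf l) (hPf l)
  exact ⟨W, G, a - 1, b', by obtain ⟨u', hu⟩ := hU; exact ⟨u', congrArg V.ι.base hu⟩, hG1, hG2,
    fun l => ⟨hfp l, hG3 l⟩, eG⟩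

end Groth.Agent.PerfD40
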