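import Groth.Agent.PerfD40.AmpClass
import Groth.Agent.KFlatLib.Perfect.Retract
import Groth.Agent.KFlatLib.Perfect.LocFree
import Groth.Agent.GrFlat5.AtPrime
import Groth.Agent.GrFlat5.FlatAtIso
import Groth.Agent.FlatMisc.RingPullback
import Groth.Agent.FlatFunHx.Flat
import Groth.Prelude.Def_DCoh3

/-!
# Finite tor dimension relative to the base, representative form

For flat `f : X ⟶ S` the modules flat over `S` form an `AmpClass`, so that the objects of
`D(O_X)` which locally have finite tor dimension relative to `S` form a thick subcategory.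
-/

set_option linter.style.haveILetI false
set_option backward.isDefEq.respectTransparency false

universe u

open CategoryTheory CategoryTheory.Limits AlgebraicGeometry CategoryTheory.Pretriangulated

attribute [local instance] HasDerivedCategory.standard

namespace Groth.Agent.PerfD40

open Groth.Agent.KFlatLib

variable {X S : Scheme.{u}} (f : X ⟶ S)

/-- The stalk as a module over the local ring of the base. -/
noncomputable abbrev stalkBase (x : X) : X.Modules ⥤ ModuleCat.{u} (S.presheaf.stalk (f.base x)) :=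
  DerSch.stalkFunctor X x ⋙ ModuleCat.restrictScalars (f.stalkMap x).hom

lemma isFlatOverAt_iff_stalkBase (M : X.Modules) (x : X) :
    FlatMod.IsFlatOverAt f M x ↔ Module.Flat (S.presheaf.stalk (f.base x)) ((stalkBase f x).obj M) :=
  Iff.rfl

lemma shortExact_stalkBase (x : X) {T : ShortComplex X.Modules} (hT : T.ShortExact) :
    (T.map (stalkBase f x)).ShortExact := by
  haveI : (DerSch.stalkFunctor X x).PreservesHomology :=
    Functor.preservesHomology_of_map_exact _ fun T hT => (exact_iff_stalk T).1 hT x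
  haveI := hT.mono_f
  haveI := hT.epi_g
  exact hT.map_of_exact (stalkBase f x)

/-- For a flat morphism, flat modules are flat over the base. -/
lemma isFlatOver_of_isFlat [Flat f] {M : X.Modules} (h : FlatMod.IsFlat M) :
    FlatMod.IsFlatOver f M := by
  intro y
  unfold FlatMod.IsFlatOverAt
  letI := FlatMod.moduleStalkOver f M y
  letI : Algebra (S.presheaf.stalk (f.base y)) (X.presheaf.stalk y) := (f.stalkMap y).hom.toAlgebra
  haveI : IsScalarTower (S.presheaf.stalk (f.base y)) (X.presheaf.stalk y) (M.presheaf.stalk y) :=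
    IsScalarTower.of_algebraMap_smul fun _ _ => rfl
  haveI : Module.Flat (S.presheaf.stalk (f.base y)) (X.presheaf.stalk y) := Flat.stalkMap f y
  haveI : Module.Flat (X.presheaf.stalk y) (M.presheaf.stalk y) := h y
  exact Module.Flat.trans _ (X.presheaf.stalk y) _

/-- The modules flat over the base of a flat morphism form an `AmpClass`. -/
lemma ampClass_isFlatOver [Flat f] : AmpClass (C := X.Modules) (FlatMod.IsFlatOver f) where
  of_iso e h x := GrFlat5.isFlatOverAt_of_iso f e x (h x)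
  of_isZero h x := by
    rw [isFlatOverAt_iff_stalkBase]
    haveI := ModuleCat.subsingleton_of_isZero ((stalkBase f x).map_isZero h)
    infer_instance
  ext {T} hT h1 h3 x := by
    have h := shortExact_stalkBase f x hT
    rw [isFlatOverAt_iff_stalkBase]
    haveI : Module.Flat (S.presheaf.stalk (f.base x)) (T.map (stalkBase f x)).X₁ := h1 x
    haveI : Module.Flat (S.presheaf.stalk (f.base x)) (T.map (stalkBase f x)).X₃ := h3 x
    exact GrFlat5.flat_of_exact h.moduleCat_injective_f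
      ((ShortComplex.ShortExact.moduleCat_exact_iff_function_exact _).1 h.exact)
      h.moduleCat_surjective_g
  ker {T} hT h2 h3 x := by
    have h := shortExact_stalkBase f x hT
    rw [isFlatOverAt_iff_stalkBase]
    haveI : Module.Flat (S.presheaf.stalk (f.base x)) (T.map (stalkBase f x)).X₂ := h2 x
    haveI : Module.Flat (S.presheaf.stalk (f.base x)) (T.map (stalkBase f x)).X₃ := h3 x
    exact FlatMisc.flat_of_exact _ _ h.moduleCat_injective_f h.moduleCat_surjective_g
      ((ShortComplex.ShortExact.moduleCat_exact_iff_function_exact _).1 h.exact)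
  summand i r hir h x := by
    rw [isFlatOverAt_iff_stalkBase]
    haveI := (isFlatOverAt_iff_stalkBase f _ x).1 (h x)
    refine Module.Flat.of_retract ((stalkBase f x).map i).hom ((stalkBase f x).map r).hom ?_
    rw [← ModuleCat.hom_comp, ← Functor.map_comp, hir, CategoryTheory.Functor.map_id]
    rfl
  resolve K b _ := by
    obtain ⟨R, ρ, hρ, hflat, hz⟩ := (flatCover X).exists_bounded_resolution K b fun m hm =>
      (K.exactAt_of_isLE b m hm).isZero_homology
    exact ⟨R, ρ, hρ, (CochainComplex.isStrictlyLE_iff _ _).2 hz,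
      fun n => isFlatOver_of_isFlat f (hflat n)⟩

/-- Restriction to an open subscheme keeps modules flat over the base. -/
lemma isFlatOver_restrict {U : Scheme.{u}} (j : U ⟶ X) [IsOpenImmersion j] {M : X.Modules}
    (h : FlatMod.IsFlatOver f M) : FlatMod.IsFlatOver (j ≫ f) (M.restrict j) := fun y =>
  GrFlat5.isFlatOverAt_of_iso _ ((Scheme.Modules.restrictFunctorIsoPullback j).symm.app M) y
    (FlatFunHx.isFlatOverAt_pullback_of_flat f j M y (Flat.stalkMap j y) (h (j.base y)))

lemma HasAmp.restrict {U : Scheme.{u}} (j : U ⟶ X) [IsOpenImmersion j] (k : U ⟶ S) (hk : j ≫ f = k)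
    {a b : ℤ} {K : DCoh.D X} (h : HasAmp (FlatMod.IsFlatOver f) a b K) :
    HasAmp (FlatMod.IsFlatOver k) a b ((rho j).obj K) := by
  subst hk
  obtain ⟨P, h1, h2, h3, ⟨e⟩⟩ := h
  exact ⟨(rCx j).obj P,
    (CochainComplex.isStrictlyGE_iff _ _).2 fun i hi =>
      (Scheme.Modules.restrictFunctor j).map_isZero (P.isZero_of_isStrictlyGE a i hi),
    (CochainComplex.isStrictlyLE_iff _ _).2 fun i hi =>
      (Scheme.Modules.restrictFunctor j).map_isZero (P.isZero_of_isStrictlyLE b i hi),
    fun n => isFlatOver_restrict f j (h3 n),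
    ⟨((rhoQ j).app P).symm ≪≫ (rho j).mapIso e⟩⟩

lemma hasAmp_iff (a b : ℤ) (K : DCoh.D X) :
    DCoh.HasRelFlatAmplitudeIn f a b K ↔ HasAmp (FlatMod.IsFlatOver f) a b K := by
  constructor
  · rintro ⟨E, hE, hf, e⟩
    exact ⟨E, (CochainComplex.isStrictlyGE_iff _ _).2 fun i hi => hE i (Or.inl hi),
      (CochainComplex.isStrictlyLE_iff _ _).2 fun i hi => hE i (Or.inr hi), hf, e⟩
  · rintro ⟨E, h1, h2, hf, e⟩
    refine ⟨E, fun i hi => ?_, hf, e⟩
    rcases hi with hi | hi
    · exact E.isZero_of_isStrictlyGE a i hi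
    · exact E.isZero_of_isStrictlyLE b i hi

lemma locRelTor_iff (K : DCoh.D X) :
    DCoh.LocHasFiniteRelTorDim f K ↔ ∀ x : X, ∃ (V : X.Opens) (a b : ℤ), x ∈ V ∧
      HasAmp (FlatMod.IsFlatOver (V.ι ≫ f)) a b ((rho V.ι).obj K) := by
  refine forall_congr' fun x => exists_congr fun V => exists_congr fun a => exists_congr fun b =>
    and_congr_right fun _ => ⟨fun h => ?_, fun h F ⟨e⟩ => ?_⟩
  · exact ((hasAmp_iff _ a b _).1 (h _ ⟨repIso K⟩)).of_iso
      (((rhoQ V.ι).app _).symm ≪≫ (rho V.ι).mapIso (repIso K))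
  · exact (hasAmp_iff _ a b _).2 (h.of_iso ((rho V.ι).mapIso e.symm ≪≫ (rhoQ V.ι).app F))

/-- Two local amplitude bounds on a common neighbourhood. -/
lemma exists_common_amp {K L : DCoh.D X} (hK : DCoh.LocHasFiniteRelTorDim f K)
    (hL : DCoh.LocHasFiniteRelTorDim f L) (x : X) :
    ∃ (V : X.Opens) (a b : ℤ), x ∈ V ∧
      HasAmp (FlatMod.IsFlatOver (V.ι ≫ f)) a b ((rho V.ι).obj K) ∧
      HasAmp (FlatMod.IsFlatOver (V.ι ≫ f)) a b ((rho V.ι).obj L) := by
  obtain ⟨V, a, b, hx, hV⟩ := (locRelTor_iff f K).1 hK x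
  obtain ⟨W, c, d, hx', hW⟩ := (locRelTor_iff f L).1 hL x
  refine ⟨V ⊓ W, min a c, max b d, ⟨hx, hx'⟩, ?_, ?_⟩
  · exact (((hV.mono (min_le_left a c) (le_max_left b d)).restrict (V.ι ≫ f)
      (X.homOfLE inf_le_left) _ (by rw [X.homOfLE_ι_assoc])).of_iso
      (rhoComp (X.homOfLE inf_le_left) V.ι (V ⊓ W).ι (X.homOfLE_ι _) K))
  · exact (((hW.mono (min_le_right a c) (le_max_right b d)).restrict (W.ι ≫ f)
      (X.homOfLE inf_le_right) _ (by rw [X.homOfLE_ι_assoc])).of_iso
      (rhoComp (X.homOfLE inf_le_right) W.ι (V ⊓ W).ι (X.homOfLE_ι _) L))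

variable [Flat f]

lemma locRelTor_of_isZero {K : DCoh.D X} (h : IsZero K) : DCoh.LocHasFiniteRelTorDim f K :=
  (locRelTor_iff f K).2 fun x => ⟨⊤, 0, 0, trivial,
    (ampClass_isFlatOver ((⊤ : X.Opens).ι ≫ f)).hasAmp_of_isZero ((rho _).map_isZero h) 0 0⟩

omit [Flat f] in
lemma locRelTor_of_iso {K L : DCoh.D X} (h : DCoh.LocHasFiniteRelTorDim f K) (e : K ≅ L) :
    DCoh.LocHasFiniteRelTorDim f L := (locRelTor_iff f L).2 fun x => by
  obtain ⟨V, a, b, hx, hV⟩ := (locRelTor_iff f K).1 h x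
  exact ⟨V, a, b, hx, hV.of_iso ((rho V.ι).mapIso e)⟩

omit [Flat f] in
lemma locRelTor_shift {K : DCoh.D X} (h : DCoh.LocHasFiniteRelTorDim f K) (k : ℤ) :
    DCoh.LocHasFiniteRelTorDim f (K⟦k⟧) := (locRelTor_iff f _).2 fun x => by
  obtain ⟨V, a, b, hx, hV⟩ := (locRelTor_iff f K).1 h x
  exact ⟨V, a - k, b - k, hx, (hV.shift k _ _ (by omega) (by omega)).of_iso
    (((rho V.ι).commShiftIso k).app K).symm⟩

lemma locRelTor_obj₂ (T : Triangle (DCoh.D X)) (hT : T ∈ distTriang _)
    (h₁ : DCoh.LocHasFiniteRelTorDim f T.obj₁) (h₃ : DCoh.LocHasFiniteRelTorDim f T.obj₃) :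
    DCoh.LocHasFiniteRelTorDim f T.obj₂ := (locRelTor_iff f _).2 fun x => by
  obtain ⟨V, a, b, hx, hV₁, hV₃⟩ := exists_common_amp f h₁ h₃ x
  exact ⟨V, _, _, hx, (ampClass_isFlatOver (V.ι ≫ f)).amp_obj₂ ((rho V.ι).mapTriangle.obj T)
    ((rho V.ι).map_distinguished T hT) hV₁ hV₃⟩

lemma locRelTor_retract {K L : DCoh.D X} (h : DCoh.LocHasFiniteRelTorDim f L) (i : K ⟶ L)
    (r : L ⟶ K) (hir : i ≫ r = 𝟙 K) : DCoh.LocHasFiniteRelTorDim f K :=
  (locRelTor_iff f _).2 fun x => by
    obtain ⟨V, a, b, hx, hV⟩ := (locRelTor_iff f L).1 h x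
    exact ⟨V, _, _, hx, (ampClass_isFlatOver (V.ι ≫ f)).amp_retract ((rho V.ι).map i)
      ((rho V.ι).map r) (by rw [← Functor.map_comp, hir, CategoryTheory.Functor.map_id]) hV⟩

/-- Pseudo-coherence passes to retracts. -/
lemma locPC_retract {m : ℤ} {K L : DCoh.D X} (h : LocPC m L) (i : K ⟶ L) (r : L ⟶ K)
    (hir : i ≫ r = 𝟙 K) : LocPC m K := by
  obtain ⟨K', p, δ, hT⟩ := distinguished_cocone_triangle i
  have hδ : δ = 0 := by
    have h0 : δ ≫ i⟦(1 : ℤ)⟧' = 0 := comp_distTriang_mor_zero₃₁ _ hT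
    have := h0 =≫ r⟦(1 : ℤ)⟧'
    rwa [Category.assoc, ← Functor.map_comp, hir, CategoryTheory.Functor.map_id, Category.comp_id,
      zero_comp] at this
  obtain ⟨e, -, -⟩ := exists_iso_binaryBiproduct_of_distTriang _ hT hδ
  exact (locPC_summand m K K' (h.of_iso e)).1

end Groth.Agent.PerfD40
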