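import Groth.Agent.PerfD40.TensorPC
import Groth.Agent.PerfD40.RelAmp
import Groth.Agent.KFlatLib.Perfect.Tensor
import Mathlib.Algebra.Category.ModuleCat.Products

/-!
# Tensor products with perfect objects, locally

Locally the derived tensor product with a perfect object is the tensor product with a strictly
perfect complex; it preserves pseudo-coherence and finite tor dimension relative to a base.
-/

set_option linter.style.haveILetI false
set_option backward.isDefEq.respectTransparency false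

universe u

open CategoryTheory CategoryTheory.Limits AlgebraicGeometry CategoryTheory.Pretriangulated
  TensorProduct

attribute [local instance] HasDerivedCategory.standard

namespace Groth.Agent.PerfD40

open Groth.Agent.KFlatLib

/-- A module flat over `R` tensored over `B` with a `B`-flat module is flat over `R`. -/
theorem flat_tensor_module {R B L P : Type u} [CommRing R] [CommRing B] [Algebra R B]
    [AddCommGroup L] [Module B L] [Module R L] [IsScalarTower R B L] [Module.Flat B L]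
    [AddCommGroup P] [Module B P] [Module R P] [IsScalarTower R B P] [Module.Flat R P] :
    Module.Flat R (L ⊗[B] P) := by
  rw [Module.Flat.iff_lTensor_injectiveₛ]
  intro Q _ _ K
  have h1 := Module.Flat.lTensor_preserves_injective_linearMap (M := P) K.subtype Subtype.val_injective
  have h2 : Function.Injective ((AlgebraTensorModule.lTensor B P K.subtype).lTensor L) :=
    Module.Flat.lTensor_preserves_injective_linearMap _ h1
  have hcomm : ∀ z, (K.subtype.lTensor (L ⊗[B] P)) z =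
      (AlgebraTensorModule.assoc R B B L P Q).symm
        ((AlgebraTensorModule.lTensor B P K.subtype).lTensor L
          (AlgebraTensorModule.assoc R B B L P K z)) := fun z => by
    induction z using TensorProduct.induction_on with
    | zero => simp
    | add a b ha hb => simp only [map_add, ha, hb]
    | tmul w k =>
      induction w using TensorProduct.induction_on with
      | zero => simp
      | add a b ha hb => simp only [TensorProduct.add_tmul, map_add, ha, hb]
      | tmul l p => simp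
  intro a b hab
  rw [hcomm, hcomm] at hab
  exact (AlgebraTensorModule.assoc R B B L P K).injective
    (h2 ((AlgebraTensorModule.assoc R B B L P Q).symm.injective hab))

variable {X S : Scheme.{u}} (f : X ⟶ S)

/-- A flat module tensored with a module flat over the base is flat over the base. -/
lemma isFlatOver_tensorBi {N M : X.Modules} (hN : FlatMod.IsFlat N)
    (hM : FlatMod.IsFlatOver f M) : FlatMod.IsFlatOver f ((DCoh.tensorBi.obj N).obj M) := fun x => by
  unfold FlatMod.IsFlatOverAt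
  letI := FlatMod.moduleStalkOver f M x
  letI := FlatMod.moduleStalkOver f N x
  letI := FlatMod.moduleStalkOver f ((DCoh.tensorBi.obj N).obj M) x
  letI : Algebra (S.presheaf.stalk (f.base x)) (X.presheaf.stalk x) := (f.stalkMap x).hom.toAlgebra
  haveI : IsScalarTower (S.presheaf.stalk (f.base x)) (X.presheaf.stalk x) (M.presheaf.stalk x) :=
    IsScalarTower.of_algebraMap_smul fun _ _ => rfl
  haveI : IsScalarTower (S.presheaf.stalk (f.base x)) (X.presheaf.stalk x) (N.presheaf.stalk x) :=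
    IsScalarTower.of_algebraMap_smul fun _ _ => rfl
  haveI : IsScalarTower (S.presheaf.stalk (f.base x)) (X.presheaf.stalk x)
      (((DCoh.tensorBi.obj N).obj M).presheaf.stalk x) :=
    IsScalarTower.of_algebraMap_smul fun _ _ => rfl
  haveI : Module.Flat (X.presheaf.stalk x) (N.presheaf.stalk x) := hN x
  haveI : Module.Flat (S.presheaf.stalk (f.base x)) (M.presheaf.stalk x) := hM x
  let l : (N.presheaf.stalk x ⊗[X.presheaf.stalk x] M.presheaf.stalk x) ≃ₗ[X.presheaf.stalk x]
      ((DCoh.tensorBi.obj N).obj M).presheaf.stalk x := (stalkTensorIso x N M).toLinearEquiv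
  haveI := flat_tensor_module (R := S.presheaf.stalk (f.base x)) (B := X.presheaf.stalk x)
    (L := N.presheaf.stalk x) (P := M.presheaf.stalk x)
  exact Module.Flat.of_linearEquiv (l.restrictScalars (S.presheaf.stalk (f.base x))).symm

/-- Coproducts of modules flat over the base are flat over the base. -/
lemma isFlatOver_colimit {ι : Type u} (F : Discrete ι ⥤ X.Modules)
    (h : ∀ i, FlatMod.IsFlatOver f (F.obj i)) : FlatMod.IsFlatOver f (colimit F) := fun x => by
  refine GrFlat5.isFlatOverAt_of_iso f (HasColimit.isoOfNatIso Discrete.natIsoFunctor).symm x ?_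
  rw [isFlatOverAt_iff_stalkBase]
  classical
  haveI : ∀ i, Module.Flat (S.presheaf.stalk (f.base x)) ((stalkBase f x).obj (F.obj ⟨i⟩)) :=
    fun i => h ⟨i⟩ x
  exact Module.Flat.of_linearEquiv (PreservesCoproduct.iso (stalkBase f x) (F.obj ∘ Discrete.mk) ≪≫
    ModuleCat.coprodIsoDirectSum fun i => (stalkBase f x).obj (F.obj ⟨i⟩)).toLinearEquiv

lemma isStrictlyLE_tensorCx (P G : CochainComplex X.Modules ℤ) (d b : ℤ) [P.IsStrictlyLE d]
    [G.IsStrictlyLE b] : CochainComplex.IsStrictlyLE ((DCoh.tensorCx.obj P).obj G) (d + b) :=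
  (CochainComplex.isStrictlyLE_iff _ _).2 fun i hi => isZero_tensorCx_X P G d b i hi

lemma isStrictlyGE_tensorCx (P G : CochainComplex X.Modules ℤ) (c a : ℤ) [P.IsStrictlyGE c]
    [G.IsStrictlyGE a] : CochainComplex.IsStrictlyGE ((DCoh.tensorCx.obj P).obj G) (c + a) := by
  refine (CochainComplex.isStrictlyGE_iff _ _).2 fun n hn => ?_
  rw [IsZero.iff_id_eq_zero]
  refine HomologicalComplex.mapBifunctor.hom_ext fun p q h => ?_
  change p + q = n at h
  by_cases hp : p < c
  · exact ((DCoh.tensorBi.map_isZero (P.isZero_of_isStrictlyGE c p hp)).obj _).eq_of_src _ _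
  · exact ((DCoh.tensorBi.obj _).map_isZero (G.isZero_of_isStrictlyGE a q (by omega))).eq_of_src _ _

lemma isFlatOver_tensorCx (P G : CochainComplex X.Modules ℤ) (hP : ∀ p, FlatMod.IsFlat (P.X p))
    (hG : ∀ q, FlatMod.IsFlatOver f (G.X q)) (n : ℤ) :
    FlatMod.IsFlatOver f (((DCoh.tensorCx.obj P).obj G).X n) := fun x => by
  refine GrFlat5.isFlatOverAt_of_iso f (evalObjIso₂ DCoh.tensorBi P n G).symm x ?_
  let e : Discrete (ULift.{u} (fibre n)) ≌ Discrete (fibre n) := Discrete.equivalence Equiv.ulift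
  exact GrFlat5.isFlatOverAt_of_iso f
    (HasColimit.isoOfEquivalence e (Iso.refl (e.functor ⋙ _))) x
    (isFlatOver_colimit f _ (fun s => isFlatOver_tensorBi f (hP _) (hG _)) x)

variable {f}

/-- Tensoring a relative amplitude with a bounded complex of flat modules. -/
lemma hasAmp_tensorCx {P T : CochainComplex X.Modules ℤ} {c d a b : ℤ}
    (hP : DCoh.IsKFlat P) (hPz : DCoh.VanishesOutside P c d) (hPf : ∀ p, FlatMod.IsFlat (P.X p))
    (h : HasAmp (FlatMod.IsFlatOver f) a b (DCoh.toD X T)) :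
    HasAmp (FlatMod.IsFlatOver f) (c + a) (d + b) (DCoh.toD X ((DCoh.tensorCx.obj P).obj T)) := by
  obtain ⟨G, hG1, hG2, hG3, ⟨e⟩⟩ := h
  obtain ⟨T', s, hs, g, hg⟩ := DerivedCategory.right_fac e.hom
  haveI : QuasiIso s := (DerivedCategory.isIso_Q_map_iff_quasiIso (φ := s)).1 hs
  haveI : QuasiIso g := by
    refine (DerivedCategory.isIso_Q_map_iff_quasiIso (φ := g)).1 ?_
    rw [show DerivedCategory.Q.map g = DerivedCategory.Q.map s ≫ e.hom by
      rw [hg, IsIso.hom_inv_id_assoc]]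
    infer_instance
  haveI : P.IsStrictlyGE c := (CochainComplex.isStrictlyGE_iff _ _).2 fun i hi => hPz i (Or.inl hi)
  haveI : P.IsStrictlyLE d := (CochainComplex.isStrictlyLE_iff _ _).2 fun i hi => hPz i (Or.inr hi)
  haveI hqs : QuasiIso ((DCoh.tensorCx.obj P).map s) := KFlat.quasiIso_map' (tensorBiFlipIso X) hP s
  haveI hqg : QuasiIso ((DCoh.tensorCx.obj P).map g) := KFlat.quasiIso_map' (tensorBiFlipIso X) hP g
  exact ⟨(DCoh.tensorCx.obj P).obj G, isStrictlyGE_tensorCx P G c a, isStrictlyLE_tensorCx P G d b,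
    isFlatOver_tensorCx f P G hPf hG3,
    ⟨(@asIso _ _ _ _ _ (isIso_Q_map ((DCoh.tensorCx.obj P).map s) hqs)).symm ≪≫
      @asIso _ _ _ _ _ (isIso_Q_map ((DCoh.tensorCx.obj P).map g) hqg)⟩⟩

/-- Tensoring pseudo-coherent objects with strictly perfect complexes. -/
lemma locPC_tensorCx {P T : CochainComplex X.Modules ℤ} {c d m : ℤ}
    (hP : DCoh.IsStrictlyPerfect P) (hPz : DCoh.VanishesOutside P c d) (hT : DCoh.IsKFlat T)
    (h : LocPC (m - d) (DCoh.toD X T)) :
    LocPC m (DCoh.toD X ((DCoh.tensorCx.obj P).obj T)) := fun x => by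
  obtain ⟨U, j, _, hx, P', α, hP', hα⟩ := h x
  let Pj := (pullCx j).obj P
  let Tj := (pullCx j).obj T
  have hPj : DCoh.IsStrictlyPerfect Pj := isStrictlyPerfect_pullback j hP
  haveI : CochainComplex.IsStrictlyLE Pj d := (CochainComplex.isStrictlyLE_iff _ _).2 fun i hi =>
    (Scheme.Modules.pullback j).map_isZero (hPz i (Or.inr hi))
  haveI := hasLTensorCx Pj
  let α' : DerivedCategory.Q.obj P' ⟶ DCoh.toD U Tj :=
    α ≫ ((rhoQ j).app T).hom ≫ DerivedCategory.Q.map ((restrictPullCxIso j).app T).hom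
  have hα' : IsPcMap (m - d) α' := hα.comp (isPcMap_of_isIso _ _)
  have hm := isPcMap_ltensor Pj (b := d) α' hα'
  rw [sub_add_cancel] at hm
  let e₁ : (DCoh.LTensorCx Pj).obj (DerivedCategory.Q.obj P') ≅
      DCoh.toD U ((DCoh.tensorCx.obj Pj).obj P') :=
    ltensorCxIso Pj (isKFlat_of_isStrictlyPerfect hP') ≪≫
      DerivedCategory.Q.mapIso ((symmIso (tensorBiFlipIso U) Pj).app P')
  let e₂ : (DCoh.LTensorCx Pj).obj (DCoh.toD U Tj) ≅ DCoh.toD U ((DCoh.tensorCx.obj Pj).obj Tj) :=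
    ltensorCxIso Pj (isKFlat_pullback j hT) ≪≫
      DerivedCategory.Q.mapIso ((symmIso (tensorBiFlipIso U) Pj).app Tj)
  let e₃ : DCoh.toD U ((DCoh.tensorCx.obj Pj).obj Tj) ≅
      (rho j).obj (DCoh.toD X ((DCoh.tensorCx.obj P).obj T)) :=
    DerivedCategory.Q.mapIso (pullTensorCxIso j P T ≪≫ ((restrictPullCxIso j).app _).symm) ≪≫
      ((rhoQ j).app _).symm
  exact ⟨U, j, inferInstance, hx, _, e₁.inv ≫ (DCoh.LTensorCx Pj).map α' ≫ (e₂ ≪≫ e₃).hom,
    isStrictlyPerfect_tensorCx hPj hP', (isPcMap_comp_iso_iff _ _ _).2 hm⟩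

/-- The derived tensor product with a perfect object, restricted to an open where it is strictly
perfect. -/
lemma exists_ltensor_restrict (K : DCoh.D X) (M : CochainComplex X.Modules ℤ) [DCoh.HasLTensorCx M]
    {U : Scheme.{u}} (j : U ⟶ X) [IsOpenImmersion j] {P : CochainComplex U.Modules ℤ}
    (hP : DCoh.IsStrictlyPerfect P) (e : DerivedCategory.Q.obj P ≅ (rho j).obj K) :
    ∃ T : CochainComplex U.Modules ℤ, DCoh.IsKFlat T ∧
      Nonempty (DCoh.toD U T ≅ (rho j).obj (DCoh.toD X M)) ∧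
      Nonempty ((rho j).obj ((DCoh.LTensorCx M).obj K) ≅
        DCoh.toD U ((DCoh.tensorCx.obj P).obj T)) := by
  let R := (kRes X).obj M
  let ψ : R ⟶ M := (flatCover X).ψ.app M
  haveI : QuasiIso ψ := (flatCover X).quasiIso_ψ M
  haveI hq : QuasiIso ((DCoh.tensorCx.obj (repK K)).map ψ) :=
    KFlat.quasiIso_map' (tensorBiFlipIso X) (isKFlat_repK K) ψ
  let T := (pullCx j).obj R
  have hT : DCoh.IsKFlat T := isKFlat_pullback j (isKFlat_kRes M)
  let eT : DCoh.toD U T ≅ (rho j).obj (DCoh.toD X M) :=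
    DerivedCategory.Q.mapIso ((restrictPullCxIso j).app R).symm ≪≫ ((rhoQ j).app R).symm ≪≫
      (rho j).mapIso (@asIso _ _ _ _ _ (isIso_Q_map ψ inferInstance))
  let e₁ : DCoh.toD U ((pullCx j).obj (repK K)) ≅ DCoh.toD U P :=
    DerivedCategory.Q.mapIso ((restrictPullCxIso j).app _).symm ≪≫ ((rhoQ j).app _).symm ≪≫
      (rho j).mapIso (repKIso K) ≪≫ e.symm
  exact ⟨T, hT, ⟨eT⟩, ⟨(rho j).mapIso ((DCoh.LTensorCx M).mapIso (repKIso K).symm ≪≫
      ltensorCxIso M (isKFlat_repK K) ≪≫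
      (@asIso _ _ _ _ _ (isIso_Q_map _ hq)).symm) ≪≫ (rhoQ j).app _ ≪≫
    DerivedCategory.Q.mapIso ((restrictPullCxIso j).app _ ≪≫ (pullTensorCxIso j (repK K) R).symm) ≪≫
    tensorQIso (isKFlat_pullback j (isKFlat_repK K)) (isKFlat_of_isStrictlyPerfect hP) hT hT e₁
      (Iso.refl _)⟩⟩

/-- Perfect objects tensored with pseudo-coherent ones are pseudo-coherent. -/
theorem locPC_ltensor_perfect {K : DCoh.D X} (hK : DCoh.IsPerfect K) (M : CochainComplex X.Modules ℤ)
    [DCoh.HasLTensorCx M] (hM : ∀ m, LocPC m (DCoh.toD X M)) (m : ℤ) :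
    LocPC m ((DCoh.LTensorCx M).obj K) :=
  LocPC.of_local fun x => by
    obtain ⟨U, j, _, hx, P, hP, ⟨e⟩⟩ := (isPerfect_iff K).1 hK x
    obtain ⟨T, hT, ⟨eT⟩, ⟨eM⟩⟩ := exists_ltensor_restrict K M j hP e
    obtain ⟨c, d, hcd⟩ := hP.1
    exact ⟨U, j, inferInstance, hx,
      (locPC_tensorCx hP hcd hT (((hM (m - d)).restrict j).of_iso eT.symm)).of_iso eM.symm⟩

/-- Perfect objects tensored with objects of finite relative tor dimension. -/
theorem locRelTor_ltensor_perfect (f : X ⟶ S) {K : DCoh.D X} (hK : DCoh.IsPerfect K)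
    (M : CochainComplex X.Modules ℤ) [DCoh.HasLTensorCx M]
    (hM : DCoh.LocHasFiniteRelTorDim f (DCoh.toD X M)) :
    DCoh.LocHasFiniteRelTorDim f ((DCoh.LTensorCx M).obj K) := (locRelTor_iff f _).2 fun x => by
  obtain ⟨V, hxV, hV⟩ := hK x
  obtain ⟨P, hP, ⟨e⟩⟩ := hV (DerivedCategory.Q.objPreimage K) ⟨repIso K⟩
  obtain ⟨W, a, b, hxW, hW⟩ := (locRelTor_iff f _).1 hM x
  let i := X.homOfLE (inf_le_left : V ⊓ W ≤ V)
  let k := X.homOfLE (inf_le_right : V ⊓ W ≤ W)
  have hPW : DCoh.IsStrictlyPerfect ((rCx i).obj P) := isStrictlyPerfect_restrict i hP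
  let eW : DerivedCategory.Q.obj ((rCx i).obj P) ≅ (rho (V ⊓ W).ι).obj K :=
    ((rhoQ i).app P).symm ≪≫ (rho i).mapIso (e.symm ≪≫ ((rhoQ V.ι).app _).symm ≪≫
      (rho V.ι).mapIso (repIso K)) ≪≫ rhoComp i V.ι (V ⊓ W).ι (X.homOfLE_ι _) K
  obtain ⟨T, -, ⟨eT⟩, ⟨eM⟩⟩ := exists_ltensor_restrict K M (V ⊓ W).ι hPW eW
  obtain ⟨c, d, hcd⟩ := hPW.1
  have hT' : HasAmp (FlatMod.IsFlatOver ((V ⊓ W).ι ≫ f)) a b (DCoh.toD _ T) :=
    (hW.restrict (W.ι ≫ f) k _ (by rw [X.homOfLE_ι_assoc])).of_iso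
      (rhoComp k W.ι (V ⊓ W).ι (X.homOfLE_ι _) _ ≪≫ eT.symm)
  exact ⟨V ⊓ W, c + a, d + b, ⟨hxV, hxW⟩, (hasAmp_tensorCx (isKFlat_of_isStrictlyPerfect hPW) hcd
    (fun p => isFlat_of_isFinLocFree (hPW.2 p)) hT').of_iso eM.symm⟩

end Groth.Agent.PerfD40
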