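import Groth.Agent.PerfD40.RpushPerfectRel
import Groth.Agent.PerfD40.TensorAmp
import Groth.Agent.KFlatLib.Scheme.DualPerfect
import Groth.Agent.KFlatLib.Scheme.CohD

/-!
# Perfect objects tensored with a coherent module flat over the base
-/

set_option linter.style.haveILetI false
set_option backward.isDefEq.respectTransparency false

universe u

open CategoryTheory CategoryTheory.Limits AlgebraicGeometry MonoidalCategory

attribute [local instance] HasDerivedCategory.standard

namespace Groth.Agent.PerfD40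

open Groth.Agent.KFlatLib

variable {X Y : Scheme.{u}}

/-- The complex `M[0]`. -/
noncomputable abbrev sgl (M : X.Modules) : CochainComplex X.Modules ℤ :=
  (HomologicalComplex.single X.Modules (ComplexShape.up ℤ) 0).obj M

/-- `E ⊗^L G` for a module is `E ⊗^L G[0]`. -/
lemma nonempty_ltensorMod_single (E : DCoh.D X) (G : X.Modules) [DCoh.HasLTensorMod G]
    [DCoh.HasLTensorCx (sgl G)] :
    Nonempty ((DCoh.LTensorMod G).obj E ≅ (DCoh.LTensorCx (sgl G)).obj E) := by
  haveI := isIso_ltensorModComparison G (isKFlat_repK E)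
  exact ⟨(DCoh.LTensorMod G).mapIso (repKIso E).symm ≪≫
    asIso ((ltensorModComparison G).app (repK E)) ≪≫
    DerivedCategory.Q.mapIso ((singleIso DCoh.tensorBi G).app (repK E)).symm ≪≫
    (ltensorCxIso _ (isKFlat_repK E)).symm ≪≫ (DCoh.LTensorCx _).mapIso (repKIso E)⟩

/-- The derived tensor product is symmetric when one factor is K-flat. -/
lemma nonempty_ltensorCx_swap (D A : CochainComplex X.Modules ℤ) (hD : DCoh.IsKFlat D)
    [DCoh.HasLTensorCx D] [DCoh.HasLTensorCx A] :
    Nonempty ((DCoh.LTensorCx D).obj (DCoh.toD X A) ≅ (DCoh.LTensorCx A).obj (DCoh.toD X D)) := by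
  let R := (kRes X).obj A
  haveI := (flatCover X).quasiIso_ψ A
  haveI := isIso_Q_map _ ((flatCover X).quasiIso_ψ A)
  haveI := hasLTensorCx R
  let eA : DerivedCategory.Q.obj R ≅ DerivedCategory.Q.obj A :=
    asIso (DerivedCategory.Q.map ((flatCover X).ψ.app A))
  obtain ⟨c⟩ := nonempty_LTensorCx_congr_D eA
  exact ⟨(DCoh.LTensorCx D).mapIso eA.symm ≪≫ ltensorCxIso D (isKFlat_kRes A) ≪≫
    DerivedCategory.Q.mapIso ((symmIso (tensorBiFlipIso X) D).app R) ≪≫
    (ltensorCxIso R hD).symm ≪≫ c.app _⟩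

/-- The cohomology of `E ⊗^L G` is supported on the support of `G`. -/
lemma support_hd_ltensor_single (E : DCoh.D X) (G : X.Modules) [DCoh.HasLTensorCx (sgl G)]
    (i : ℤ) : CohB1.support (DCoh.HD ((DCoh.LTensorCx (sgl G)).obj E) i) ⊆ CohB1.support G := by
  intro x hx hns
  refine hx ?_
  haveI : (DerSch.stalkFunctor X x).PreservesHomology :=
    Functor.preservesHomology_of_map_exact _ fun T hT => (exact_iff_stalk T).1 hT x
  let C := ((DCoh.tensorBi.flip.obj G).mapHomologicalComplex (ComplexShape.up ℤ)).obj (repK E)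
  let e : DCoh.HD ((DCoh.LTensorCx (sgl G)).obj E) i ≅ C.homology i :=
    (DerivedCategory.homologyFunctor _ i).mapIso ((DCoh.LTensorCx _).mapIso (repKIso E).symm ≪≫
      ltensorCxIso _ (isKFlat_repK E)) ≪≫
    (DerivedCategory.homologyFunctorFactors _ i).app _ ≪≫
    (HomologicalComplex.homologyFunctor _ _ i).mapIso ((singleIso DCoh.tensorBi G).app (repK E))
  have hG : IsZero ((DerSch.stalkFunctor X x).obj G) :=
    @ModuleCat.isZero_of_subsingleton _ _ _ hns
  have hz : IsZero ((DerSch.stalkFunctor X x).obj (C.X i)) :=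
    ((MonoidalCategory.tensorLeft ((DerSch.stalkFunctor X x).obj ((repK E).X i))).map_isZero hG).of_iso
      (stalkTensorIso x ((repK E).X i) G).symm
  have hh : IsZero ((DerSch.stalkFunctor X x).obj (C.homology i)) :=
    (ShortComplex.isZero_homology_of_isZero_X₂ _ hz).of_iso
      ((C.sc i).mapHomologyIso (DerSch.stalkFunctor X x)).symm
  exact ModuleCat.subsingleton_of_isZero (hh.of_iso ((DerSch.stalkFunctor X x).mapIso e))

/-- A module flat over the base has relative tor dimension zero. -/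
lemma locRelTor_single (f : X ⟶ Y) {G : X.Modules} (hflat : FlatMod.IsFlatOver f G) :
    DCoh.LocHasFiniteRelTorDim f (DCoh.toD X (sgl G)) := (locRelTor_iff f _).2 fun x => by
  refine ⟨⊤, 0, 0, trivial, HasAmp.restrict f (⊤ : X.Opens).ι _ rfl
    ⟨sgl G, inferInstance, inferInstance, fun n => ?_, ⟨Iso.refl _⟩⟩⟩
  intro y
  by_cases hn : n = 0
  · subst hn
    exact GrFlat5.isFlatOverAt_of_iso f
      (HomologicalComplex.singleObjXSelf (ComplexShape.up ℤ) 0 G).symm y (hflat y)
  · rw [isFlatOverAt_iff_stalkBase]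
    haveI := ModuleCat.subsingleton_of_isZero ((stalkBase f y).map_isZero
      (HomologicalComplex.isZero_single_obj_X (ComplexShape.up ℤ) 0 G n hn))
    infer_instance

/-- `Rf_*` of a perfect object tensored with a coherent module flat over the base with proper
support is perfect. -/
theorem isPerfect_rpush_perfect_tensor [IsNoetherian Y] (f : X ⟶ Y) [LocallyOfFiniteType f]
    [DCoh.HasRpush f] {E : DCoh.D X} (hE : DCoh.IsPerfect E) {G : X.Modules} (hG : Coh.IsCoh G)
    (hflat : FlatMod.IsFlatOver f G) (hsupp : ClSub.IsProperOver f (CohB1.support G))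
    [DCoh.HasLTensorCx (sgl G)] :
    DCoh.IsPerfect ((DCoh.Rpush f).obj ((DCoh.LTensorCx (sgl G)).obj E)) := by
  haveI : IsLocallyNoetherian X := LocallyOfFiniteType.isLocallyNoetherian f
  have hGD : DCoh.IsCohD (DCoh.toD X (sgl G)) := fun i => by
    refine isCoh_of_iso ((DerivedCategory.homologyFunctorFactors X.Modules i).app (sgl G)).symm ?_
    by_cases hi : i = 0
    · subst hi
      exact isCoh_of_iso
        ((HomologicalComplex.homologyFunctorSingleIso X.Modules (ComplexShape.up ℤ) 0).app G).symm hG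
    · exact isCoh_of_isZero (ShortComplex.isZero_homology_of_isZero_X₂ _
        (HomologicalComplex.isZero_single_obj_X (ComplexShape.up ℤ) 0 G i hi))
  have hGpc : ∀ m, LocPC m (DCoh.toD X (sgl G)) := fun m =>
    locPC_of_coh (isCohD_isQCohD hGD) (fun i _ => hGD i) 0 fun i hi =>
      (ShortComplex.isZero_homology_of_isZero_X₂ _
        (HomologicalComplex.isZero_single_obj_X (ComplexShape.up ℤ) 0 G i (by omega))).of_iso
          ((DerivedCategory.homologyFunctorFactors X.Modules i).app (sgl G))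
  have hpc := locPC_ltensor_perfect hE (sgl G) hGpc
  have hq : DCoh.IsQCohD ((DCoh.LTensorCx (sgl G)).obj E) := fun i => isQCoh_HD_of_pseudoCoherent
    ((isPseudoCoherentD_iff (i - 1) _).2 (hpc (i - 1))) i (by omega)
  exact isPerfect_rpush_of_locRelTor f _ (fun i => isCoh_of_locPC hq (hpc i) i le_rfl) _ hsupp
    (support_hd_ltensor_single E G) (locRelTor_ltensor_perfect f hE (sgl G) (locRelTor_single f hflat))

/-- `Rf_* RHom(E, G)` for perfect `E`. -/
theorem isPerfect_rpush_RSheafHom [IsNoetherian Y] (f : X ⟶ Y) [LocallyOfFiniteType f]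
    [DCoh.HasRpush f] (E : CochainComplex X.Modules ℤ) (hE : DCoh.IsPerfect (DCoh.toD X E))
    [DCoh.HasLTensorCx E] [DCoh.HasRSheafHom E] {G : X.Modules} (hG : Coh.IsCoh G)
    (hflat : FlatMod.IsFlatOver f G) (hsupp : ClSub.IsProperOver f (CohB1.support G)) :
    DCoh.IsPerfect ((DCoh.Rpush f).obj ((DCoh.RSheafHom E).obj (DCoh.inD X G))) := by
  let K := (kRes X).obj E
  haveI := (flatCover X).quasiIso_ψ E
  haveI := isIso_Q_map _ ((flatCover X).quasiIso_ψ E)
  haveI := hasLTensorCx K
  let eK : DerivedCategory.Q.obj K ≅ DerivedCategory.Q.obj E :=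
    asIso (DerivedCategory.Q.map ((flatCover X).ψ.app E))
  obtain ⟨c⟩ := nonempty_LTensorCx_congr_D eK
  haveI : DCoh.HasRSheafHom K :=
    ((DCoh.RSheafHomAdj E).ofNatIsoLeft c.symm).isLeftAdjoint
  have hKp : DCoh.IsPerfect (DerivedCategory.Q.obj K) := isPerfect_of_iso' eK.symm hE
  let r : DCoh.RSheafHom K ≅ DCoh.RSheafHom E :=
    (DCoh.RSheafHomAdj K).rightAdjointUniq ((DCoh.RSheafHomAdj E).ofNatIsoLeft c.symm)
  let dual := (DCoh.RSheafHom K).obj ((DerivedCategory.singleFunctor X.Modules 0).obj (Coh.structureModule X))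
  have hdual : DCoh.IsPerfect dual := isPerfect_RSheafHom_structure K hKp
  let D := repK dual
  haveI := hasLTensorCx D
  haveI := hasLTensorCx (sgl G)
  obtain ⟨e₁⟩ := nonempty_ltensor_dual_iso K (isKFlat_kRes E) hKp D (isKFlat_repK dual)
    ⟨repKIso dual⟩ (DCoh.inD X G)
  obtain ⟨e₂⟩ := nonempty_ltensorCx_swap D (sgl G) (isKFlat_repK dual)
  refine isPerfect_of_iso' ((DCoh.Rpush f).mapIso (e₂.symm ≪≫ (DCoh.LTensorCx D).mapIso
    ((DerivedCategory.singleFunctorIsoCompQ X.Modules 0).app G).symm ≪≫ e₁ ≪≫ r.app _))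
    (isPerfect_rpush_perfect_tensor f (isPerfect_of_iso' (repKIso dual).symm hdual) hG hflat hsupp)

end Groth.Agent.PerfD40
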