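import Groth.Agent.PerfD40.BC.Main
import Groth.Agent.PerfD40.PerfectFlatTensor
import Groth.Agent.PicFRel.ProperModel
import Groth.Agent.RelPC13.GenTest.Main
import Groth.Agent.InvX.Tensor
import Groth.Agent.DEqLib.Sib.HomBounded

/-!
# Direct images of perfect objects along proper flat morphisms
-/

set_option autoImplicit false
set_option linter.style.haveILetI false
set_option backward.isDefEq.respectTransparency false
set_option backward.isDefEq.respectTransparency.types false

universe u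

open CategoryTheory CategoryTheory.Limits AlgebraicGeometry Pretriangulated TopologicalSpace

attribute [local instance] HasDerivedCategory.standard

noncomputable section

namespace Groth.Agent.PerfD40

open Groth.Agent.KFlatLib Groth.Agent.RelPC13

attribute [local instance] hasLpull hasRpush_scheme

variable {X S : Scheme.{u}}

/-- The structure sheaf of a flat scheme is flat over the base. -/
theorem isFlatOver_structureModule (f : X ⟶ S) [Flat f] : FlatMod.IsFlatOver f (Coh.structureModule X) :=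
  (QCoh.isFlatOver_iff f (QCoh.isQCoh_structureModule (X := X))).2 fun _ _ hle hU hV =>
    Flat.flat_appLE f hV hU hle

theorem isProperOver_univ (f : X ⟶ S) [IsProper f] : ClSub.IsProperOver f (Set.univ : Set X) :=
  QCoh.isProperOver_of_subset (𝟙 X) isClosed_univ fun x _ => ⟨x, rfl⟩

/-- The noetherian case. -/
theorem isPerfect_rpush_of_noetherian [IsNoetherian S] (f : X ⟶ S) [IsProper f] [Flat f] {E : DCoh.D X}
    (hE : DCoh.IsPerfect E) : DCoh.IsPerfect ((DCoh.Rpush f).obj E) := by
  haveI : IsLocallyNoetherian X := LocallyOfFiniteType.isLocallyNoetherian f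
  let O := Coh.structureModule X
  have hO : Coh.IsCoh O :=
    QCoh.isCoh_iff_isFP.2 (QCoh.isFP_of_isFinLocFree (H23.PullPush.isFinLocFree_of_isInvertible InvX.isInvertible_structureModule))
  haveI := hasLTensorCx (sgl O)
  haveI := hasLTensorCx (repK E)
  obtain ⟨e₁⟩ := GenTest.nonempty_ltensor_unit (repK E)
  obtain ⟨e₂⟩ := nonempty_ltensorCx_swap (repK E) (sgl O) (isKFlat_repK E)
  let e : (DCoh.LTensorCx (sgl O)).obj (DCoh.toD X (repK E)) ≅ E :=
    e₂.symm ≪≫ (DCoh.LTensorCx (repK E)).mapIso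
      ((DerivedCategory.singleFunctorIsoCompQ X.Modules 0).app O).symm ≪≫ e₁ ≪≫ repKIso E
  exact isPerfect_of_iso' ((DCoh.Rpush f).mapIso e) (isPerfect_rpush_perfect_tensor f
    (isPerfect_of_iso' (repKIso E).symm hE) hO (isFlatOver_structureModule f)
    (isProperOver_mono (isProperOver_univ f)
      (QCoh.isClosed_support_of_isFT hO.1 (QCoh.isFT_of_isFP (QCoh.isCoh_iff_isFP.1 hO))) (Set.subset_univ _)))

/-- A thick class given by perfectness of an exact image. -/
theorem thickClass_isPerfect_map {Y : Scheme.{u}} (F : DCoh.D X ⥤ DCoh.D Y) (hF : BC.SemiExact F) :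
    ThickClass fun E => DCoh.IsPerfect (F.obj E) := by
  refine ⟨fun T hT h₁ h₃ => ?_, fun r h => DEqLib.Sib.HomBounded.isPerfect_of_retract (r.map F) h⟩
  obtain ⟨d, hd⟩ := hF.2 T hT
  exact isPerfect_ext₂ hd h₁ h₃

/-- A pullback of a perfect generator along an affine morphism generates. -/
theorem generates_lpull {X₀ : Scheme.{u}} (p : X ⟶ X₀) [IsAffineHom p] {P₀ : DCoh.D X₀}
    (hgen₀ : ∀ E : DCoh.D X₀, DCoh.IsQCohD E → (IsZero E ↔ ∀ (n : ℤ) (φ : P₀⟦n⟧ ⟶ E), φ = 0))
    (L : DCoh.D X) (hL : DCoh.IsQCohD L)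
    (hz : ∀ (k : ℤ) (ψ : ((DCoh.Lpull p).obj P₀)⟦k⟧ ⟶ L), ψ = 0) : IsZero L := by
  obtain ⟨adjp⟩ := nonempty_lpull_rpush_adj p
  refine isZero_of_rpush_isZero p hL ((hgen₀ _ (isQCohD_rpush p hL)).2 fun k ψ => ?_)
  haveI := (BC.semiExact_rpush p).1
  obtain ⟨sh⟩ := BC.nonempty_lpull_shift p P₀ k
  have h0 := hz k (sh.hom ≫ (adjp.homEquiv _ _).symm ψ)
  rw [← comp_zero (f := sh.hom), cancel_epi] at h0
  rw [← (adjp.homEquiv _ _).apply_symm_apply ψ, h0, Adjunction.homEquiv_unit, Functor.map_zero, comp_zero]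

/-- Over an affine base. -/
theorem isPerfect_rpush_of_isAffine [IsAffine S] (f : X ⟶ S) [IsProper f] [Flat f]
    [LocallyOfFinitePresentation f] {E : DCoh.D X} (hE : DCoh.IsPerfect E) :
    DCoh.IsPerfect ((DCoh.Rpush f).obj E) := by
  obtain ⟨S₀, X₀, π, f₀, p, -, hN, hA, hp, hfl, hsq, -, -⟩ :=
    PicFRel.ProperModel.exists_model f _ InvX.isInvertible_structureModule
  haveI := hN; haveI := hA; haveI := hp; haveI := hfl
  haveI : IsAffineHom π := inferInstance
  haveI : IsAffineHom p := MorphismProperty.of_isPullback hsq.flip inferInstance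
  haveI : CompactSpace X₀ := QuasiCompact.compactSpace_of_compactSpace f₀
  haveI : QuasiSeparatedSpace X₀ := quasiSeparatedSpace_of_quasiSeparated f₀
  haveI : CompactSpace X := QuasiCompact.compactSpace_of_compactSpace f
  haveI : QuasiSeparatedSpace X := quasiSeparatedSpace_of_quasiSeparated f
  obtain ⟨P₀, hP₀, hgen₀⟩ := S1008.result X₀
  refine perfect_mem_of_generator (P := fun E => DCoh.IsPerfect ((DCoh.Rpush f).obj E))
    ((DCoh.Lpull p).obj P₀) (isPerfect_lpull p hP₀) (fun k => ?_)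
    (thickClass_isPerfect_map _ (BC.semiExact_rpush f)) (generates_lpull p hgen₀) E hE
  obtain ⟨sh⟩ := BC.nonempty_lpull_shift p P₀ k
  have hP : DCoh.IsPerfect (P₀⟦k⟧) := isPerfect_shift hP₀ k
  obtain ⟨e⟩ := (BC.bcAt_of_flat hsq (isQCohD_of_isPerfect hP)).nonempty_iso hsq.w
  exact isPerfect_of_iso' (e ≪≫ (DCoh.Rpush f).mapIso sh.symm)
    (isPerfect_lpull π (isPerfect_rpush_of_noetherian f₀ hP))

/-- Perfectness of a direct image is local on the base. -/
theorem isPerfect_rpush_of_local (f : X ⟶ S) [QuasiCompact f] [QuasiSeparated f] {E : DCoh.D X}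
    (hE : DCoh.IsQCohD E)
    (h : ∀ {W XW : Scheme.{u}} [IsAffine W] (a : W ⟶ S) [IsOpenImmersion a] (ι : XW ⟶ X) (fW : XW ⟶ W),
      IsPullback ι fW f a → DCoh.IsPerfect ((DCoh.Rpush fW).obj ((DCoh.Lpull ι).obj E))) :
    DCoh.IsPerfect ((DCoh.Rpush f).obj E) := by
  refine isPerfect_of_cover _ fun y => ?_
  obtain ⟨W, hW, hy, -⟩ := exists_isAffineOpen_mem_and_subset (x := y) (U := ⊤) trivial
  haveI : IsAffine (W : Scheme.{u}) := hW
  haveI : PreservesFiniteLimits (Scheme.Modules.restrictFunctor W.ι) :=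
    CxOX.preservesFiniteLimits_restrictFunctor _
  have hsq : IsPullback (f ⁻¹ᵁ W).ι (f ∣_ W) f W.ι := (isPullback_morphismRestrict f W).flip
  obtain ⟨e⟩ := (BC.bcAt_flat hsq hE).nonempty_iso hsq.w
  obtain ⟨r⟩ := Dual3Lib.nonempty_lpull_iso_restrictD W.ι
  exact ⟨W, hy, isPerfect_of_iso' (e.symm ≪≫ r.app _) (h W.ι _ _ hsq)⟩

/-- Direct images of perfect objects along proper flat morphisms of finite presentation are perfect. -/
theorem isPerfect_rpush_of_flat_proper (f : X ⟶ S) [IsProper f] [Flat f] [LocallyOfFinitePresentation f]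
    {E : DCoh.D X} (hE : DCoh.IsPerfect E) : DCoh.IsPerfect ((DCoh.Rpush f).obj E) :=
  isPerfect_rpush_of_local f (isQCohD_of_isPerfect hE) fun {_ _} _ _ _ ι fW hsq => by
    haveI : IsProper fW := MorphismProperty.of_isPullback hsq inferInstance
    haveI : Flat fW := MorphismProperty.of_isPullback hsq inferInstance
    haveI : LocallyOfFinitePresentation fW := MorphismProperty.of_isPullback hsq inferInstance
    exact isPerfect_rpush_of_isAffine fW (isPerfect_lpull ι hE)

end Groth.Agent.PerfD40
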