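import Groth.Agent.PerfD40.ApproxMain
import Groth.Agent.TriCat.HocolimHomological
import Groth.Agent.TriCat.CellResolution
import Groth.Agent.KFlatLib.Scheme.Coproducts
import Groth.Agent.FlatCxLib.HomologyColim
import Mathlib.CategoryTheory.Limits.Constructions.EventuallyConstant

/-!
# Pseudo-coherent objects as homotopy colimits of perfect objects
-/

set_option linter.style.haveILetI false

universe w v u t

open CategoryTheory CategoryTheory.Limits Pretriangulated AlgebraicGeometry TopologicalSpace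

attribute [local instance] HasDerivedCategory.standard

namespace Groth.Agent.PerfD40

open Groth.Agent.KFlatLib

/-- Cohomology of the derived category commutes with exact sums. -/
lemma preservesColimitsOfShape_homologyFunctor {A : Type u} [Category.{v} A] [Abelian A] {J : Type t}
    [HasColimitsOfShape (Discrete J) A] [HasExactColimitsOfShape (Discrete J) A] (i : ℤ) :
    PreservesColimitsOfShape (Discrete J) (DerivedCategory.homologyFunctor A i) := ⟨fun {F} => by
  let H := DerivedCategory.homologyFunctor A i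
  let K : J → CochainComplex A ℤ := fun j => DerivedCategory.Q.objPreimage (F.obj ⟨j⟩)
  haveI := KFlatLib.preservesColimit_Q K
  haveI := FlatCxLib.preservesColimitsOfShape_complexHomology (C := A) (J := Discrete J)
    (ComplexShape.up ℤ) i
  haveI : PreservesColimit (Discrete.functor K) (DerivedCategory.Q ⋙ H) :=
    preservesColimit_of_natIso _ (DerivedCategory.homologyFunctorFactors A i).symm
  haveI : PreservesColimit (Discrete.functor K ⋙ DerivedCategory.Q) H :=
    preservesColimit_of_preserves_colimit_cocone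
      (isColimitOfPreserves DerivedCategory.Q (coproductIsCoproduct K))
      (isColimitOfPreserves (DerivedCategory.Q ⋙ H) (coproductIsCoproduct K))
  exact preservesColimit_of_iso_diagram H (K₁ := Discrete.functor K ⋙ DerivedCategory.Q)
    (Discrete.natIso fun j => DerivedCategory.Q.objObjPreimageIso (F.obj j))⟩

variable {X : Scheme.{u}}

/-- A compatible system becoming invertible degree by degree is a homotopy colimit. -/
theorem isHocolim_of_eventually_iso [HasColimitsOfShape (Discrete ℕ) (DCoh.D X)] {K : DCoh.D X}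
    (E : ℕ → DCoh.D X) (f : ∀ n, E n ⟶ E (n + 1)) (i : ∀ n, E n ⟶ K)
    (hc : ∀ n, f n ≫ i (n + 1) = i n)
    (h : ∀ p : ℤ, ∃ N : ℕ, ∀ n, N ≤ n →
      IsIso ((DerivedCategory.homologyFunctor X.Modules p).map (i n))) :
    DerLim.IsHocolim E f K i := by
  obtain ⟨L, j, hL⟩ := TriCat.exists_isHocolim E f
  obtain ⟨g, hg⟩ := TriCat.IsHocolim.exists_desc hL i hc
  haveI : IsIso g := (DerivedCategory.isIso_iff _ g).2 fun p => by
    let H := DerivedCategory.homologyFunctor X.Modules p
    haveI : PreservesColimitsOfShape (Discrete ℕ) H := preservesColimitsOfShape_homologyFunctor p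
    obtain ⟨e, he⟩ := TriCat.exists_colimit_iso H E f L j hL
    obtain ⟨N, hN⟩ := h p
    let F := Functor.ofSequence fun n => H.map (f n)
    have hF : F.IsEventuallyConstantFrom N := fun n a => by
      have hiN : IsIso (H.map (i N)) := hN N le_rfl
      have hin : IsIso (H.map (i n)) := hN n (leOfHom a)
      have hs : ∀ k, F.map (homOfLE (Nat.le_succ k)) ≫ H.map (i (k + 1)) = H.map (i k) := fun k => by
        have he' : F.map (homOfLE (Nat.le_succ k)) = H.map (f k) :=
          Functor.ofSequence_map_homOfLE_succ _ k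
        exact (congrArg (· ≫ H.map (i (k + 1))) he').trans
          ((H.map_comp _ _).symm.trans (congrArg H.map (hc k)))
      have hc' : F.map a ≫ H.map (i n) = H.map (i N) :=
        TriCat.cocone_of_succ F (fun k => H.map (i k)) hs (leOfHom a)
      exact @IsIso.of_isIso_fac_right _ _ _ _ _ _ _ _ hin hiN hc'
    have hι : IsIso (colimit.ι F N) := hF.isIso_ι_of_isColimit (colimit.isColimit F)
    haveI : IsIso (H.map (j N)) := by rw [← he N]; exact @IsIso.comp_isIso _ _ _ _ _ _ _ hι inferInstance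
    haveI := hN N le_rfl
    exact IsIso.of_isIso_fac_left (show H.map (j N) ≫ H.map g = H.map (i N) by
      rw [← H.map_comp, hg])
  have := TriCat.IsHocolim.of_iso hL (asIso g)
  simpa [hg] using this

/-- Pseudo-coherence passes along approximations. -/
lemma locPC_of_isPcMap {m : ℤ} {P K : DCoh.D X} {α : P ⟶ K} (h : IsPcMap m α) (hP : LocPC m P) :
    LocPC m K := by
  obtain ⟨C, g, δ, hT⟩ := distinguished_cocone_triangle α
  exact (locPC_two_of_three m _ hT).2.1 hP
    (locPC_of_isZero _ _ ((isPcMap_iff_obj₃ m hT).1 h))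

/-- Homotopy colimits of perfect objects stabilising degree by degree are pseudo-coherent. -/
theorem pseudoCoherent_of_perfect_system {K : DCoh.D X} {E : ℕ → DCoh.D X} (i : ∀ n, E n ⟶ K)
    (hE : ∀ n, DCoh.IsPerfect (E n))
    (h : ∀ n : ℕ, IsIso (((tS X).truncGE (-(n : ℤ))).map (i n))) (m : ℤ) :
    DCoh.IsPseudoCoherentD m K := by
  have h' := (isIso_truncGE_map_iff (i m.natAbs) _).1 (h m.natAbs)
  haveI := h' m (by omega)
  exact (isPseudoCoherentD_iff _ _).2 (locPC_of_isPcMap (α := i m.natAbs)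
    ⟨fun p hp => h' p (by omega), inferInstance⟩ (((isPerfect_iff _).1 (hE _)).locPC m))

/-- Pseudo-coherent objects are exhausted by perfect objects with the same support. -/
theorem exists_perfect_system [CompactSpace X] [QuasiSeparatedSpace X] (V : X.Opens)
    (hV : IsCompact (V : Set X)) {K : DCoh.D X} (hK : ∀ m : ℤ, DCoh.IsPseudoCoherentD m K)
    (hKV : IsZero ((DCoh.restrictD V.ι).obj K)) :
    ∃ (E : ℕ → DCoh.D X) (f : ∀ n, E n ⟶ E (n + 1)) (i : ∀ n, E n ⟶ K),
      (∀ n, DCoh.IsPerfect (E n)) ∧ (∀ n, IsZero ((DCoh.restrictD V.ι).obj (E n))) ∧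
      (∀ n, f n ≫ i (n + 1) = i n) ∧ ∀ (n : ℕ) (p : ℤ), -(n : ℤ) ≤ p →
        IsIso ((DerivedCategory.homologyFunctor X.Modules p).map (i n)) := by
  obtain ⟨r, hr⟩ := approxHolds X (V : Set X)ᶜ V.isOpen.isClosed_compl fun S hS hSo => by
    rw [compl_compl]
    exact QuasiSeparatedSpace.inter_isCompact _ _ V.2 hV hSo hS
  have hq : DCoh.IsQCohD K := fun p => isQCoh_HD_of_pseudoCoherent (hK (p - 1)) p (by omega)
  have happ : ∀ (m : ℤ) (C : DCoh.D X), DCoh.IsQCohD C → LocPC (m - r) C →
      IsZero ((DCoh.restrictD V.ι).obj C) → ∃ (P : DCoh.D X) (α : P ⟶ C), DCoh.IsPerfect P ∧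
        IsZero ((DCoh.restrictD V.ι).obj P) ∧ IsPcMap m α := fun m C hC hCpc hCV => by
    obtain ⟨P, α, hP, hPT, hiso, hepi⟩ := hr m C hC ((isPseudoCoherentD_iff _ _).2 hCpc)
      fun p _ => support_subset_of_isZero_restrictD V C hCV p
    exact ⟨P, α, hP, (isZero_restrictD_iff_support V P).2 hPT, hiso, hepi⟩
  let S : ℕ → (P : DCoh.D X) → (P ⟶ K) → Prop := fun n P α => DCoh.IsPerfect P ∧
    IsZero ((DCoh.restrictD V.ι).obj P) ∧ IsPcMap (-(n : ℤ) - 1) α
  have step : ∀ n P α, S n P α → ∃ (P' : DCoh.D X) (α' : P' ⟶ K) (g : P ⟶ P'),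
      S (n + 1) P' α' ∧ g ≫ α' = α := by
    rintro n P α ⟨hP, hPV, -⟩
    obtain ⟨C, g, δ, hT⟩ := distinguished_cocone_triangle α
    obtain ⟨P₂, α₂, hP₂, hP₂V, hα₂⟩ := happ (-((n + 1 : ℕ) : ℤ) - 1) C
      (isQCohD_obj₃ hT (isQCohD_of_isPerfect hP) hq)
      ((locPC_two_of_three _ _ hT).1 (((isPerfect_iff P).1 hP).locPC _)
        ((isPseudoCoherentD_iff _ _).1 (hK _)))
      (Triangle.isZero₃_of_isZero₁₂ _ ((DCoh.restrictD V.ι).map_distinguished _ hT) hPV hKV)
    obtain ⟨Q, f', g', h', αQ, hQ, hf, hαQ⟩ := exists_fibre_pcMap hT α₂ hα₂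
    exact ⟨Q, αQ, f', ⟨(isPerfect_iff _).2 ((locSP_two_of_three _ hQ).2.1 ((isPerfect_iff _).1 hP)
      ((isPerfect_iff _).1 hP₂)),
      Triangle.isZero₂_of_isZero₁₃ _ ((DCoh.restrictD V.ι).map_distinguished _ hQ) hPV hP₂V, hαQ⟩, hf⟩
  obtain ⟨P₀, α₀, h₀⟩ := happ (-((0 : ℕ) : ℤ) - 1) K hq ((isPseudoCoherentD_iff _ _).1 (hK _)) hKV
  choose P' α' g hS hg using step
  let D : ∀ n, {p : Σ P : DCoh.D X, (P ⟶ K) // S n p.1 p.2} :=
    Nat.rec ⟨⟨P₀, α₀⟩, h₀⟩ fun n p => ⟨⟨P' n p.1.1 p.1.2 p.2, α' n p.1.1 p.1.2 p.2⟩, hS _ _ _ _⟩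
  refine ⟨fun n => (D n).1.1, fun n => g n _ _ (D n).2, fun n => (D n).1.2, fun n => (D n).2.1,
    fun n => (D n).2.2.1, fun n => hg n _ _ (D n).2, fun n p hp => (D n).2.2.2.1 p (by omega)⟩

end Groth.Agent.PerfD40
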