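import Groth.Agent.PerfD40.RelAmp

/-!
# Relative finite tor dimension is local on the source and on the base
-/

set_option linter.style.haveILetI false
set_option backward.isDefEq.respectTransparency false

universe u

open CategoryTheory CategoryTheory.Limits AlgebraicGeometry

attribute [local instance] HasDerivedCategory.standard

namespace Groth.Agent.PerfD40

open Groth.Agent.KFlatLib

variable {X S S' : Scheme.{u}} (f : X ⟶ S)

/-- Flatness over the base only depends on an open neighbourhood in the base. -/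
lemma isFlatOverAt_comp_base (i : S ⟶ S') [IsOpenImmersion i] (M : X.Modules) (x : X) :
    FlatMod.IsFlatOverAt (f ≫ i) M x ↔ FlatMod.IsFlatOverAt f M x := by
  let B := S'.presheaf.stalk (i.base (f.base x))
  let B' := S.presheaf.stalk (f.base x)
  letI mB : Module B (M.presheaf.stalk x) := FlatMod.moduleStalkOver (f ≫ i) M x
  letI mB' : Module B' (M.presheaf.stalk x) := FlatMod.moduleStalkOver f M x
  let e : B ≃+* B' := (asIso (i.stalkMap (f.base x))).commRingCatIsoToRingEquiv
  have hsmul : ∀ (r : B) (m : M.presheaf.stalk x), r • m = e r • m := fun r m => by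
    show (f ≫ i).stalkMap x r • m = f.stalkMap x (i.stalkMap (f.base x) r) • m
    rw [Scheme.Hom.stalkMap_comp]
    rfl
  constructor
  · intro h
    haveI : Module.Flat B (M.presheaf.stalk x) := h
    letI : Algebra B' B := e.symm.toRingHom.toAlgebra
    haveI : IsScalarTower B' B (M.presheaf.stalk x) := IsScalarTower.of_algebraMap_smul fun a m => by
      show e.symm a • m = a • m
      rw [hsmul, e.apply_symm_apply]
    haveI : Module.Flat B' B := Module.Flat.of_linearEquiv
      (LinearEquiv.ofBijective (Algebra.linearMap B' B) e.symm.bijective).symm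
    exact (Module.Flat.trans B' B (M.presheaf.stalk x) : Module.Flat B' (M.presheaf.stalk x))
  · intro h
    haveI : Module.Flat B' (M.presheaf.stalk x) := h
    letI : Algebra B B' := e.toRingHom.toAlgebra
    haveI : IsScalarTower B B' (M.presheaf.stalk x) := IsScalarTower.of_algebraMap_smul fun a m =>
      (hsmul a m).symm
    haveI : Module.Flat B B' := Module.Flat.of_linearEquiv
      (LinearEquiv.ofBijective (Algebra.linearMap B B') e.bijective).symm
    exact (Module.Flat.trans B B' (M.presheaf.stalk x) : Module.Flat B (M.presheaf.stalk x))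

lemma isFlatOver_comp_base (i : S ⟶ S') [IsOpenImmersion i] :
    FlatMod.IsFlatOver (f ≫ i) = FlatMod.IsFlatOver f :=
  funext fun M => propext (forall_congr' fun x => isFlatOverAt_comp_base f i M x)

/-- Finite relative tor dimension only depends on an open neighbourhood in the base. -/
lemma locRelTor_comp_base (i : S ⟶ S') [IsOpenImmersion i] (K : DCoh.D X) :
    DCoh.LocHasFiniteRelTorDim (f ≫ i) K ↔ DCoh.LocHasFiniteRelTorDim f K := by
  rw [locRelTor_iff, locRelTor_iff]
  refine forall_congr' fun x => exists_congr fun V => exists_congr fun a => exists_congr fun b =>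
    and_congr_right fun _ => ?_
  rw [show V.ι ≫ f ≫ i = (V.ι ≫ f) ≫ i from (Category.assoc _ _ _).symm, isFlatOver_comp_base]

/-- Finite relative tor dimension restricts along open immersions. -/
lemma locRelTor_restrict {U : Scheme.{u}} (j : U ⟶ X) [IsOpenImmersion j] (k : U ⟶ S)
    (hk : j ≫ f = k) {K : DCoh.D X} (h : DCoh.LocHasFiniteRelTorDim f K) :
    DCoh.LocHasFiniteRelTorDim k ((rho j).obj K) := (locRelTor_iff k _).2 fun y => by
  subst hk
  obtain ⟨V, a, b, hx, hV⟩ := (locRelTor_iff f K).1 h (j.base y)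
  exact ⟨j ⁻¹ᵁ V, a, b, hx, (hV.restrict (V.ι ≫ f) (j ∣_ V) _ (morphismRestrict_ι_assoc j V f)).of_iso
    (rhoComp (j ∣_ V) V.ι ((j ⁻¹ᵁ V).ι ≫ j) (morphismRestrict_ι j V) K ≪≫
      (rhoComp (j ⁻¹ᵁ V).ι j _ rfl K).symm)⟩

/-- Finite relative tor dimension is local on the source. -/
lemma locRelTor_of_cover {K : DCoh.D X}
    (h : ∀ x : X, ∃ (U : Scheme.{u}) (j : U ⟶ X) (_ : IsOpenImmersion j),
      x ∈ Set.range j.base ∧ DCoh.LocHasFiniteRelTorDim (j ≫ f) ((rho j).obj K)) :
    DCoh.LocHasFiniteRelTorDim f K := (locRelTor_iff f K).2 fun x => by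
  obtain ⟨U, j, _, ⟨y, rfl⟩, hU⟩ := h x
  obtain ⟨W, a, b, hy, hW⟩ := (locRelTor_iff _ _).1 hU y
  let k := (j.isoImage W).inv
  exact ⟨j ''ᵁ W, a, b, ⟨y, hy, rfl⟩, (hW.restrict (W.ι ≫ j ≫ f) k _
      (by rw [Scheme.Hom.isoImage_inv_ι_assoc])).of_iso
    ((rho k).mapIso (rhoComp W.ι j _ rfl K) ≪≫
      rhoComp k (W.ι ≫ j) (j ''ᵁ W).ι (Scheme.Hom.isoImage_inv_ι j W) K)⟩

end Groth.Agent.PerfD40
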