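import Groth.Agent.PerfD40.FlatProper
import Groth.Agent.S1103
import Groth.Agent.S0999
import Groth.Agent.PerfD40.RelAmpLocal
import Groth.Agent.PerfD40.HocolimApprox

/-!
# Pseudo-coherent and relatively perfect objects along proper flat morphisms
-/

set_option autoImplicit false
set_option linter.style.haveILetI false
set_option backward.isDefEq.respectTransparency false
set_option backward.isDefEq.respectTransparency.types false

universe u

open CategoryTheory CategoryTheory.Limits AlgebraicGeometry Pretriangulated TopologicalSpace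

attribute [local instance] HasDerivedCategory.standard

noncomputable section

namespace Groth.Agent.PerfD40

open Groth.Agent.KFlatLib Groth.Agent.RelPC13

attribute [local instance] hasLpull hasRpush_scheme

variable {X S : Scheme.{u}}

/-- Pseudo-coherence of the direct image, from perfectness for perfect objects. -/
theorem locPC_rpush_of_perfect [CompactSpace X] [QuasiSeparatedSpace X] [CompactSpace S] (f : X ⟶ S)
    [QuasiCompact f] [QuasiSeparated f]
    (hperf : ∀ P : DCoh.D X, DCoh.IsPerfect P → DCoh.IsPerfect ((DCoh.Rpush f).obj P))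
    {E : DCoh.D X} (hq : DCoh.IsQCohD E) (hE : ∀ m : ℤ, DCoh.IsPseudoCoherentD m E) (m : ℤ) :
    LocPC m ((DCoh.Rpush f).obj E) := by
  obtain ⟨r, hr⟩ := S1103.result X Set.univ isClosed_univ (by simp)
  haveI : HasInjectiveResolutions X.Modules := hasInjectiveResolutions_modules
  obtain ⟨N, hN⟩ := exists_Rpush_bound f
  obtain ⟨P, α, hP, -, hiso, hepi⟩ :=
    hr (m - N) E hq (hE _) fun i _ => Set.subset_univ _
  obtain ⟨C, g, δ, hT⟩ := distinguished_cocone_triangle α
  have hC : DCoh.IsQCohD C := isQCohD_obj₃ hT (isQCohD_of_isPerfect hP) hq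
  haveI : C.IsLE (m - N - 1) := (DerivedCategory.isLE_iff _ _).2 fun i hi =>
    (isPcMap_iff_obj₃ (m - N) hT).1 ⟨hiso, hepi⟩ i (by omega)
  obtain ⟨δ', hT'⟩ := (BC.semiExact_rpush f).2 _ hT
  refine locPC_of_isPcMap (α := (DCoh.Rpush f).map α) ((isPcMap_iff_obj₃ m hT').2 fun i hi => ?_)
    (((isPerfect_iff _).1 (hperf P hP)).locPC m)
  exact isZero_of_isZero_restrict _ fun y => ⟨⊤, trivial, isZero_restrict_hd_rpush f hC (m - N - 1) ⊤ N
    (fun M hM p hp => Functor.map_isZero _ (hN M hM p hp)) i (by omega)⟩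

/-- Pseudo-coherence is preserved by proper flat direct images. -/
theorem locPC_rpush_of_flat_proper (f : X ⟶ S) [IsProper f] [Flat f] [LocallyOfFinitePresentation f]
    {E : DCoh.D X} (hE : ∀ m : ℤ, DCoh.IsPseudoCoherentD m E) (m : ℤ) :
    LocPC m ((DCoh.Rpush f).obj E) := by
  have hq : DCoh.IsQCohD E := fun i => isQCoh_HD_of_pseudoCoherent (hE (i - 1)) i (by omega)
  intro y
  obtain ⟨W, hW, hy, -⟩ := exists_isAffineOpen_mem_and_subset (x := y) (U := ⊤) trivial
  haveI : IsAffine (W : Scheme.{u}) := hW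
  haveI : PreservesFiniteLimits (Scheme.Modules.restrictFunctor W.ι) :=
    CxOX.preservesFiniteLimits_restrictFunctor _
  haveI : PreservesFiniteLimits (Scheme.Modules.restrictFunctor (f ⁻¹ᵁ W).ι) :=
    CxOX.preservesFiniteLimits_restrictFunctor _
  have hsq : IsPullback (f ⁻¹ᵁ W).ι (f ∣_ W) f W.ι := (isPullback_morphismRestrict f W).flip
  haveI : Flat (f ∣_ W) := MorphismProperty.of_isPullback hsq inferInstance
  haveI : CompactSpace ((f ⁻¹ᵁ W : X.Opens) : Scheme.{u}) :=
    QuasiCompact.compactSpace_of_compactSpace (f ∣_ W)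
  haveI : QuasiSeparatedSpace ((f ⁻¹ᵁ W : X.Opens) : Scheme.{u}) :=
    quasiSeparatedSpace_of_quasiSeparated (f ∣_ W)
  have h : LocPC m ((DCoh.Rpush (f ∣_ W)).obj ((DCoh.restrictD (f ⁻¹ᵁ W).ι).obj E)) :=
    locPC_rpush_of_perfect _ (fun P hP => isPerfect_rpush_of_flat_proper _ hP) (isQCohD_restrictD _ hq)
      (fun n => (isPseudoCoherentD_iff n _).2 (((isPseudoCoherentD_iff n _).1 (hE n)).restrict (f ⁻¹ᵁ W).ι)) m
  obtain ⟨e⟩ := (BC.bcAt_flat hsq hq).nonempty_iso hsq.w
  obtain ⟨r⟩ := Dual3Lib.nonempty_lpull_iso_restrictD W.ι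
  obtain ⟨r'⟩ := Dual3Lib.nonempty_lpull_iso_restrictD (f ⁻¹ᵁ W).ι
  let e' : (DCoh.Rpush (f ∣_ W)).obj ((DCoh.restrictD (f ⁻¹ᵁ W).ι).obj E) ≅
      (DCoh.restrictD W.ι).obj ((DCoh.Rpush f).obj E) :=
    (DCoh.Rpush (f ∣_ W)).mapIso (r'.app E).symm ≪≫ e.symm ≪≫ r.app _
  obtain ⟨U, j, _, ⟨u', hu⟩, P, α, hP, hα⟩ := h.of_iso e' ⟨y, hy⟩
  refine ⟨U, j ≫ W.ι, inferInstance, ⟨u', (congrArg W.ι.base hu).trans rfl⟩, P,
    α ≫ (rhoComp j W.ι _ rfl ((DCoh.Rpush f).obj E)).hom, hP, ?_⟩
  have := hα.comp_iso (𝟙 _) (rhoComp j W.ι _ rfl ((DCoh.Rpush f).obj E)).hom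
  simpa using this

/-- Relatively perfect objects have perfect direct images. -/
theorem isPerfect_rpush_of_relativelyPerfect (f : X ⟶ S) [IsProper f] [Flat f] [LocallyOfFinitePresentation f]
    {E : DCoh.D X} (hE : ∀ m : ℤ, DCoh.IsPseudoCoherentD m E) (htor : DCoh.LocHasFiniteRelTorDim f E) :
    DCoh.IsPerfect ((DCoh.Rpush f).obj E) := by
  have hq : DCoh.IsQCohD E := fun i => isQCoh_HD_of_pseudoCoherent (hE (i - 1)) i (by omega)
  refine isPerfect_rpush_of_local f hq fun {W XW} _ a _ ι fW hsq => ?_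
  haveI : IsProper fW := MorphismProperty.of_isPullback hsq inferInstance
  haveI : Flat fW := MorphismProperty.of_isPullback hsq inferInstance
  haveI : LocallyOfFinitePresentation fW := MorphismProperty.of_isPullback hsq inferInstance
  haveI : IsOpenImmersion ι := MorphismProperty.of_isPullback hsq.flip inferInstance
  haveI : CompactSpace XW := QuasiCompact.compactSpace_of_compactSpace fW
  haveI : PreservesFiniteLimits (Scheme.Modules.restrictFunctor ι) :=
    CxOX.preservesFiniteLimits_restrictFunctor _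
  obtain ⟨r⟩ := Dual3Lib.nonempty_lpull_iso_restrictD ι
  let K := (DCoh.restrictD ι).obj E
  let F := DerivedCategory.Q.objPreimage K
  let eF : DCoh.toD XW F ≅ K := repIso K
  have hpc : ∀ n, DCoh.IsPseudoCoherentD n K := fun n =>
    (isPseudoCoherentD_iff n _).2 (((isPseudoCoherentD_iff n _).1 (hE n)).restrict ι)
  have hrel : DCoh.LocHasFiniteRelTorDim fW (DCoh.toD XW F) :=
    (locRelTor_comp_base fW a _).1 (locRelTor_of_iso (f := fW ≫ a)
      (locRelTor_restrict f ι _ hsq.w htor) eF.symm)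
  obtain ⟨p, q, hF⟩ := hasFiniteTorAmplitude_of_loc fW (locFiniteTorAmplitude_of_locRelTor fW F hrel)
  haveI : QuasiCompact (𝟙 XW ≫ fW) := inferInstance
  haveI : QuasiSeparated (𝟙 XW ≫ fW) := inferInstance
  let eC : DCoh.toD XW ((rCx (𝟙 XW)).obj F) ≅ DCoh.toD XW F :=
    DerivedCategory.Q.mapIso ((NatIso.mapHomologicalComplex
      (Scheme.Modules.restrictFunctorId (X := XW)) (ComplexShape.up ℤ)).app F ≪≫
      (Functor.mapHomologicalComplexIdIso XW.Modules (ComplexShape.up ℤ)).app F)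
  obtain ⟨p', q', hpq, htA⟩ := exists_torAmplitude_rpush fW (𝟙 XW) F hF
    (isQCohD_of_iso (eC ≪≫ eF).symm (isQCohD_restrictD ι hq))
  obtain ⟨ec⟩ := FMX.nonempty_rpush_congr (Category.id_comp fW)
  let e : (DCoh.Rpush (𝟙 XW ≫ fW)).obj (DCoh.toD XW ((rCx (𝟙 XW)).obj F)) ≅
      (DCoh.Rpush fW).obj ((DCoh.Lpull ι).obj E) :=
    ec.app _ ≪≫ (DCoh.Rpush fW).mapIso (eC ≪≫ eF ≪≫ (r.app E).symm)
  refine isPerfect_of_iso' e ((isPerfect_iff _).2 (locSP_of_flat_pc hpq
    (flatAmplitude_of_torAmplitude hasLTensorMod hpq htA) ?_))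
  exact (locPC_rpush_of_flat_proper fW (E := (DCoh.Lpull ι).obj E) (fun n =>
    (isPseudoCoherentD_iff n _).2 (((isPseudoCoherentD_iff n _).1 (hpc n)).of_iso (r.app E).symm)) _).of_iso e.symm

end Groth.Agent.PerfD40
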