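import Groth.Agent.PerfD40.FiniteFactor
import Groth.Agent.PerfD40.PCBound
import Groth.Agent.KFlatLib.Scheme.RpushUnbounded
import Groth.Agent.KFlatLib.BrutalTrunc
import Groth.Agent.TriCat.ResolveOp

/-!
# Perfect objects on an open of an affine scheme are retracts of restrictions
-/

set_option linter.style.haveILetI false

universe u

open CategoryTheory CategoryTheory.Limits AlgebraicGeometry Pretriangulated

attribute [local instance] HasDerivedCategory.standard

namespace Groth.Agent.PerfD40

open Groth.Agent.KFlatLib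

variable {A : CommRingCat.{u}} [PreservesFiniteLimits (tilde.functor A)] {U : (Spec A).Opens}

/-- A map into a bounded complex of free modules with finite terms below `i` factors through such a
complex with finite terms below `i + 1`. -/
theorem exists_step (hU : IsCompact (U : Set (Spec A))) {P : DCoh.D (U : Scheme.{u})}
    (hP : SeesFinitely P) (K : CochainComplex (ModuleCat.{u} A) ℤ) (i : ℤ)
    (hfree : ∀ j, Module.Free A (K.X j)) (hfin : ∀ j < i, Module.Finite A (K.X j))
    (φ : P ⟶ (toU U).obj (DerivedCategory.Q.obj K)) :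
    ∃ (K' : CochainComplex (ModuleCat.{u} A) ℤ) (u : K' ⟶ K)
      (ψ : P ⟶ (toU U).obj (DerivedCategory.Q.obj K')),
      ψ ≫ (toU U).map (DerivedCategory.Q.map u) = φ ∧ (∀ j, Module.Free A (K'.X j)) ∧
      Module.Finite A (K'.X i) ∧ ∀ j, j ≠ i → IsIso (u.f j) := by
  classical
  haveI := hfree i
  let σ : Type u := Module.Free.ChooseBasisIndex A (K.X i)
  let b : K.X i ≃ₗ[A] (σ →₀ A) := (Module.Free.chooseBasis A (K.X i)).repr
  haveI := hfin (i - 1) (by omega)
  obtain ⟨G, hG⟩ := (inferInstance : Module.Finite A (K.X (i - 1)))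
  let S₀ : Finset σ := G.biUnion fun x => (b ((K.d (i - 1) i).hom x)).support
  let p₀ : ∀ S : Finset σ, K.X i ⟶ ModuleCat.of A ({s // s ∉ (S : Set σ)} →₀ A) := fun S =>
    ModuleCat.ofHom b.toLinearMap ≫ freeAway (A := A) (S : Set σ)
  have hp₀ : ∀ S, S₀ ⊆ S → K.d (i - 1) i ≫ p₀ S = 0 := fun S hS => by
    refine ModuleCat.hom_ext (LinearMap.ext_on hG fun x hx => Finsupp.ext fun t => ?_)
    change b ((K.d (i - 1) i).hom x) t.1 = 0
    by_contra h
    exact t.2 (hS (Finset.mem_biUnion.2 ⟨x, hx, Finsupp.mem_support_iff.2 h⟩))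
  let p : ∀ S, S₀ ⊆ S → (K ⟶ (HomologicalComplex.single (ModuleCat.{u} A) (ComplexShape.up ℤ) i).obj
      (ModuleCat.of A ({s // s ∉ (S : Set σ)} →₀ A))) := fun S hS =>
    HomologicalComplex.mkHomToSingle (p₀ S) fun j (hj : j + 1 = i) => by
      obtain rfl : j = i - 1 := by omega
      exact hp₀ S hS
  let σ' := {s // s ∉ (S₀ : Set σ)}
  obtain ⟨S₁, hS₁⟩ := exists_finset_freeAway hU hP i (σ := σ')
    (φ ≫ (toU U).map (DerivedCategory.Q.map (p S₀ subset_rfl)))
  let S := S₀ ∪ S₁.map (Function.Embedding.subtype _)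
  have hS : S₀ ⊆ S := Finset.subset_union_left
  -- the composite into the complement of `S` vanishes
  let g : ModuleCat.of A ({t : σ' // t ∉ (S₁ : Set σ')} →₀ A) ⟶
      ModuleCat.of A ({s // s ∉ (S : Set σ)} →₀ A) :=
    ModuleCat.ofHom (Finsupp.lcomapDomain (fun s => ⟨⟨s.1, fun h => s.2 (hS h)⟩, fun h => s.2
      (Finset.mem_union_right _ (Finset.mem_map.2 ⟨_, h, rfl⟩))⟩)
      (fun s t hst => Subtype.ext (congrArg (fun z => z.1.1) hst)))
  have hfac : p S hS = p S₀ subset_rfl ≫
      (HomologicalComplex.single (ModuleCat.{u} A) (ComplexShape.up ℤ) i).map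
        (freeAway (A := A) (S₁ : Set σ')) ≫
      (HomologicalComplex.single (ModuleCat.{u} A) (ComplexShape.up ℤ) i).map g := by
    refine HomologicalComplex.to_single_hom_ext ?_
    simp only [p, HomologicalComplex.comp_f, HomologicalComplex.single_map_f_self]
    erw [HomologicalComplex.mkHomToSingle_f, HomologicalComplex.mkHomToSingle_f]
    simp only [Category.assoc, Iso.inv_hom_id_assoc]
    rw [show p₀ S = p₀ S₀ ≫ freeAway (A := A) (S₁ : Set σ') ≫ g from
      ModuleCat.hom_ext (LinearMap.ext fun x => Finsupp.ext fun t => rfl)]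
    simp only [Category.assoc]
  have hzero : φ ≫ (toU U).map (DerivedCategory.Q.map (p S hS)) = 0 := by
    rw [hfac, Functor.map_comp, Functor.map_comp, Functor.map_comp, Functor.map_comp,
      ← Category.assoc, ← Category.assoc, hS₁, zero_comp]
  -- the kernel
  have hsurj : Function.Surjective (p₀ S).hom := fun y => by
    obtain ⟨x, hx⟩ := Finsupp.mapDomain_surjective (f := (id : σ → σ)) Function.surjective_id
      (y.mapDomain Subtype.val)
    refine ⟨b.symm (y.mapDomain Subtype.val), Finsupp.ext fun t => ?_⟩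
    change b (b.symm (y.mapDomain Subtype.val)) t.1 = y t
    rw [LinearEquiv.apply_symm_apply, Finsupp.mapDomain_apply Subtype.val_injective]
  haveI : ∀ j, Epi ((p S hS).f j) := fun j => by
    by_cases hj : j = i
    · subst hj
      simp only [p]
      erw [HomologicalComplex.mkHomToSingle_f]
      haveI : Epi (p₀ S) := (ModuleCat.epi_iff_surjective _).2 hsurj
      exact epi_comp _ _
    · exact ⟨fun _ _ _ => (HomologicalComplex.isZero_single_obj_X _ _ _ _ hj).eq_of_src _ _⟩
  haveI : Epi (p S hS) := HomologicalComplex.epi_of_epi_f _ inferInstance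
  let Sc : ShortComplex (CochainComplex (ModuleCat.{u} A) ℤ) :=
    ShortComplex.mk (kernel.ι (p S hS)) (p S hS) (kernel.condition _)
  have hSES : Sc.ShortExact :=
    { exact := ShortComplex.exact_of_f_is_kernel _ (kernelIsKernel (p S hS)) }
  have hSES' := fun j : ℤ =>
    hSES.map_of_exact (HomologicalComplex.eval (ModuleCat.{u} A) (ComplexShape.up ℤ) j)
  have hiso : ∀ j, j ≠ i → IsIso ((kernel.ι (p S hS)).f j) := fun j hj => by
    haveI : Mono ((kernel.ι (p S hS)).f j) := (hSES' j).mono_f
    haveI : Epi ((kernel.ι (p S hS)).f j) := (hSES' j).exact.epi_f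
      ((HomologicalComplex.isZero_single_obj_X (ComplexShape.up ℤ) i _ j hj).eq_of_tgt _ _)
    exact isIso_of_mono_of_epi _
  let f := (kernel.ι (p S hS)).f i
  have hfS : ∀ x : (kernel (p S hS)).X i, ∀ t, t ∉ S → b (f.hom x) t = 0 := fun x t ht => by
    have h0 : f ≫ p₀ S = 0 := by
      have := congrArg (fun q => q.f i) (kernel.condition (p S hS))
      simp only [HomologicalComplex.comp_f, HomologicalComplex.zero_f, p] at this
      erw [HomologicalComplex.mkHomToSingle_f] at this
      erw [← Category.assoc] at this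
      exact (cancel_mono (HomologicalComplex.singleObjXSelf (ComplexShape.up ℤ) i _).inv).1
        (this.trans zero_comp.symm)
    exact Finsupp.ext_iff.1 (LinearMap.congr_fun (congrArg ModuleCat.Hom.hom h0) x) ⟨t, ht⟩
  let ek : (kernel (p S hS)).X i →ₗ[A] ({s // s ∈ S} →₀ A) :=
    (Finsupp.lcomapDomain Subtype.val Subtype.val_injective) ∘ₗ b.toLinearMap ∘ₗ f.hom
  have hek : Function.Bijective ek := by
    refine ⟨fun x y hxy => ?_, fun y => ?_⟩
    · haveI : Mono f := (hSES' i).mono_f
      refine (ModuleCat.mono_iff_injective f).1 inferInstance (b.injective (Finsupp.ext fun t => ?_))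
      by_cases ht : t ∈ S
      · exact Finsupp.ext_iff.1 hxy ⟨t, ht⟩
      · rw [hfS x t ht, hfS y t ht]
    · have hk : ((p S hS).f i).hom (b.symm (y.mapDomain Subtype.val)) = 0 := by
        have h0 : (p₀ S).hom (b.symm (y.mapDomain Subtype.val)) = 0 := Finsupp.ext fun t => by
          change b (b.symm (y.mapDomain Subtype.val)) t.1 = 0
          rw [LinearEquiv.apply_symm_apply]
          exact Finsupp.mapDomain_notin_range _ _ (fun ⟨z, hz⟩ => t.2 (hz ▸ z.2))
        simp only [p]
        erw [HomologicalComplex.mkHomToSingle_f]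
        rw [ModuleCat.hom_comp, LinearMap.comp_apply, h0, map_zero]
      obtain ⟨x, hx⟩ := (ShortComplex.moduleCat_exact_iff _).1 (hSES' i).exact
        (b.symm (y.mapDomain Subtype.val)) hk
      refine ⟨x, Finsupp.ext fun t => ?_⟩
      change b (f.hom x) t.1 = y t
      rw [show f.hom x = b.symm (y.mapDomain Subtype.val) from hx, LinearEquiv.apply_symm_apply,
        Finsupp.mapDomain_apply Subtype.val_injective]
  let eK := LinearEquiv.ofBijective ek hek
  obtain ⟨ψ, hψ⟩ := Triangle.coyoneda_exact₂ _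
    ((toU U).map_distinguished _ (DerivedCategory.triangleOfSES_distinguished hSES)) φ hzero
  refine ⟨kernel (p S hS), kernel.ι (p S hS), ψ, hψ.symm, fun j => ?_, Module.Finite.equiv eK.symm,
    hiso⟩
  by_cases hj : j = i
  · subst hj
    exact Module.Free.of_equiv eK.symm
  · haveI := hiso j hj
    haveI := hfree j
    exact Module.Free.of_equiv (asIso ((kernel.ι (p S hS)).f j)).toLinearEquiv.symm

/-- A map from a perfect object into a bounded complex of free modules factors through a bounded
complex of finite free modules. -/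
theorem exists_finite_factor (hU : IsCompact (U : Set (Spec A))) {P : DCoh.D (U : Scheme.{u})}
    (hP : SeesFinitely P) (a b : ℤ) : ∀ (k : ℕ) (c : ℤ), b + 1 ≤ c + k →
    ∀ (K : CochainComplex (ModuleCat.{u} A) ℤ), (∀ j, j < a ∨ b < j → IsZero (K.X j)) →
      (∀ j, Module.Free A (K.X j)) → (∀ j < c, Module.Finite A (K.X j)) →
      ∀ φ : P ⟶ (toU U).obj (DerivedCategory.Q.obj K),
      ∃ (K' : CochainComplex (ModuleCat.{u} A) ℤ) (u : K' ⟶ K)
        (ψ : P ⟶ (toU U).obj (DerivedCategory.Q.obj K')),
        ψ ≫ (toU U).map (DerivedCategory.Q.map u) = φ ∧ (∀ j, j < a ∨ b < j → IsZero (K'.X j)) ∧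
        ∀ j, Module.Finite A (K'.X j) ∧ Module.Free A (K'.X j) := by
  intro k
  induction k with
  | zero =>
    intro c hc K hz hfree hfin φ
    refine ⟨K, 𝟙 K, φ, by simp, hz, fun j => ⟨?_, hfree j⟩⟩
    by_cases hj : j < c
    · exact hfin j hj
    · haveI := ModuleCat.subsingleton_of_isZero (hz j (Or.inr (by omega)))
      infer_instance
  | succ k ih =>
    intro c hc K hz hfree hfin φ
    by_cases hcK : c < a ∨ b < c
    · refine ih (c + 1) (by omega) K hz hfree (fun j hj => ?_) φ
      by_cases hj' : j < c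
      · exact hfin j hj'
      · obtain rfl : j = c := by omega
        haveI := ModuleCat.subsingleton_of_isZero (hz j hcK)
        infer_instance
    obtain ⟨K', u, ψ, hψ, hfree', hfin', hiso⟩ := exists_step hU hP K c hfree hfin φ
    have hz' : ∀ j, j < a ∨ b < j → IsZero (K'.X j) := fun j hj => by
      haveI := hiso j (by rintro rfl; exact hcK hj)
      exact (hz j hj).of_iso (asIso (u.f j))
    obtain ⟨K'', v, χ, hχ, h1, h2⟩ := ih (c + 1) (by omega) K' hz' hfree' (fun j hj => by
      by_cases hj' : j = c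
      · subst hj'; exact hfin'
      · haveI := hiso j hj'
        haveI := hfin j (by omega)
        exact Module.Finite.equiv (asIso (u.f j)).toLinearEquiv.symm) ψ
    exact ⟨K'', v ≫ u, χ, by rw [Functor.map_comp, Functor.map_comp, ← Category.assoc, hχ, hψ], h1, h2⟩

/-- On a quasi-compact open of an affine scheme an object with quasi-coherent cohomology which is compact,
bounded above and blind to very negative cohomology is a retract of the restriction of a bounded complex of
finite free modules. -/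
theorem exists_retract_free_of (hU : IsCompact (U : Set (Spec A))) {P : DCoh.D (U : Scheme.{u})}
    (hq : DCoh.IsQCohD P) (hfix : SeesFinitely P) (bP : ℤ) (hbP : P.IsLE bP) (c₀ d₀ : ℤ)
    (hbd : HomBddAt c₀ d₀ P) :
    ∃ R : DerivedCategory (ModuleCat.{u} A), RPerf R ∧ Nonempty (Retract P ((toU U).obj R)) := by
  haveI : CompactSpace (U : Scheme.{u}) := isCompact_iff_compactSpace.1 hU
  haveI : QuasiSeparatedSpace (U : Scheme.{u}) := .of_isOpenEmbedding U.ι.isOpenEmbedding
  haveI : HasInjectiveResolutions (U : Scheme.{u}).Modules := hasInjectiveResolutions_modules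
  haveI := hasRpush_scheme U.ι
  obtain ⟨M, ⟨eM⟩⟩ := exists_tildeD_iso (isQCohD_rpush U.ι hq)
  haveI := hbP
  obtain ⟨N₀, hN₀⟩ := exists_Rpush_bound_near U.ι (isAffineOpen_top (Spec A))
  haveI : M.IsLE (bP + N₀) := (DerivedCategory.isLE_iff _ _).2 fun i hi => by
    refine isZero_of_tilde ((isZero_of_isZero_restrict _ fun y => ⟨⊤, trivial, ?_⟩).of_iso
      (((DerivedCategory.homologyFunctor _ i).mapIso eM.symm ≪≫
        (mapDCHomologyIso (tilde.functor A) i).app M).symm))
    exact isZero_restrict_hd_rpush U.ι hq bP ⊤ N₀ hN₀ i (by omega)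
  obtain ⟨C, hC, ⟨eC⟩⟩ := M.exists_iso_Q_obj_of_isLE (bP + N₀)
  obtain ⟨L, α, hLb, hLfree, -, hα⟩ := TriCat.exists_quasiIso_left_resolution
    (fun X : ModuleCat.{u} A => Module.Free A X)
    ⟨ModuleCat.of A PUnit.{u + 1}, ModuleCat.isZero_of_subsingleton _, Module.Free.of_subsingleton A _⟩
    (fun X => ⟨ModuleCat.of A (X →₀ A), ModuleCat.ofHom (Finsupp.linearCombination A id),
      inferInstance, (ModuleCat.epi_iff_surjective _).2
        (Finsupp.linearCombination_id_surjective A X)⟩) C (bP + N₀)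
  let F : CochainComplex (ModuleCat.{u} A) ℤ := L.stupidTrunc (ComplexShape.embeddingUpIntGE c₀)
  let T : Triangle (DCoh.D (U : Scheme.{u})) := (toU U).mapTriangle.obj
    (DerivedCategory.triangleOfSES (sigmaSES_shortExact L c₀))
  have hT : T ∈ distTriang _ :=
    (toU U).map_distinguished _ (DerivedCategory.triangleOfSES_distinguished _)
  haveI : IsIso (DerivedCategory.Q.map α) := (DerivedCategory.isIso_Q_map_iff_quasiIso (φ := α)).2 hα
  let eP : (toU U).obj (DerivedCategory.Q.obj L) ≅ P :=
    (toU U).mapIso (asIso (DerivedCategory.Q.map α) ≪≫ eC.symm) ≪≫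
      (DCoh.restrictD U.ι).mapIso eM ≪≫ (nonempty_rpush_restrictD_self U.ι).some.app P
  have h3 : eP.inv ≫ T.mor₂ = 0 := hbd T.obj₃ (isQCohD_toU U _) (fun j hj _ => by
    haveI := isStrictlyLE_sigmaSES_X₃ L c₀
    have hz := DerivedCategory.isZero_of_isLE
      (DerivedCategory.Q.obj (sigmaSES L c₀).X₃) (c₀ - 1) j (by omega)
    exact ((Scheme.Modules.restrictFunctor U.ι).map_isZero
      (((tilde.functor A).map_isZero hz).of_iso ((mapDCHomologyIso (tilde.functor A) j).app _))).of_iso
      (hdRestrictIso U.ι _ j)) _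
  obtain ⟨s, hs⟩ := Triangle.coyoneda_exact₂ T hT eP.inv h3
  have hFz : ∀ j, j < c₀ ∨ bP + N₀ < j → IsZero (F.X j) := fun j hj => by
    by_cases h : j < c₀
    · exact isZero_stupidTrunc_of_lt L c₀ j h
    · haveI := isIso_sigmaGEι_f L c₀ j (by omega)
      haveI := hLb
      exact (L.isZero_of_isStrictlyLE (bP + N₀) j (by omega)).of_iso (asIso ((sigmaGEι L c₀).f j))
  have hFfree : ∀ j, Module.Free A (F.X j) := fun j => by
    by_cases h : j < c₀
    · haveI := ModuleCat.subsingleton_of_isZero (hFz j (Or.inl h))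
      exact Module.Free.of_subsingleton A _
    · haveI := isIso_sigmaGEι_f L c₀ j (by omega)
      haveI := hLfree j
      exact Module.Free.of_equiv (asIso ((sigmaGEι L c₀).f j)).toLinearEquiv.symm
  obtain ⟨K, u, ψ, hψ, hKz, hKf⟩ := exists_finite_factor hU hfix c₀ (bP + N₀)
    (bP + N₀ + 1 - c₀).toNat c₀ (by omega) F hFz hFfree
    (fun j hj => by
      haveI := ModuleCat.subsingleton_of_isZero (hFz j (Or.inl hj))
      infer_instance) s
  refine ⟨DerivedCategory.Q.obj K, ⟨K, c₀, bP + N₀, hKz, fun j => ?_, ⟨Iso.refl _⟩⟩,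
    ⟨⟨ψ, (toU U).map (DerivedCategory.Q.map u) ≫ T.mor₁ ≫ eP.hom, ?_⟩⟩⟩
  · haveI := (hKf j).2
    exact ⟨(hKf j).1, inferInstance⟩
  · rw [← Category.assoc, hψ]
    exact ((Category.assoc _ _ _).symm.trans (congrArg (· ≫ eP.hom) hs.symm)).trans eP.inv_hom_id

/-- On a quasi-compact open of an affine scheme a perfect object is a retract of the restriction of a
bounded complex of finite free modules. -/
theorem exists_retract_free (hU : IsCompact (U : Set (Spec A))) {P : DCoh.D (U : Scheme.{u})}
    (hP : DCoh.IsPerfect P) :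
    ∃ R : DerivedCategory (ModuleCat.{u} A), RPerf R ∧ Nonempty (Retract P ((toU U).obj R)) := by
  haveI : CompactSpace (U : Scheme.{u}) := isCompact_iff_compactSpace.1 hU
  haveI : QuasiSeparatedSpace (U : Scheme.{u}) := .of_isOpenEmbedding U.ι.isOpenEmbedding
  obtain ⟨bP, hbP⟩ := exists_isLE_of_pseudoCoherent
    ((isPseudoCoherentD_iff _ _).2 (((isPerfect_iff P).1 hP).locPC 0))
  obtain ⟨c₀, d₀, -, hbd⟩ := exists_homBddAt_of_isPerfect hP
  exact exists_retract_free_of hU (isQCohD_of_isPerfect hP) (seesFinitely_of_isPerfect hP) bP hbP c₀ d₀ hbd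

end Groth.Agent.PerfD40
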