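import Groth.Agent.PerfD40.HomBoundAffine
import Groth.Agent.PerfD40.IsoScheme
import Groth.Agent.S0015
import Groth.Agent.PerfD40.Support

/-!
# Morphisms out of perfect objects see cohomology in a finite range
-/

set_option linter.style.haveILetI false

universe u

open CategoryTheory CategoryTheory.Limits AlgebraicGeometry Pretriangulated TopologicalSpace

attribute [local instance] HasDerivedCategory.standard

namespace Groth.Agent.PerfD40

open Groth.Agent.KFlatLib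

variable {X U V : Scheme.{u}}

lemma HomBddAt.of_iso {a b : ℤ} {K K' : DCoh.D X} (e : K ≅ K') (h : HomBddAt a b K) :
    HomBddAt a b K' := fun L hL hv φ => by
  simpa using congrArg (e.inv ≫ ·) (h L hL hv (e.hom ≫ φ))

lemma HomBddAt.mono {a b a' b' : ℤ} {K : DCoh.D X} (h : HomBddAt a b K) (ha : a' ≤ a)
    (hb : b ≤ b') : HomBddAt a' b' K := fun L hL hv =>
  h L hL fun i h1 h2 => hv i (ha.trans h1) (h2.trans hb)

/-- The cohomology of a shift. -/
noncomputable def hdShift (K : DCoh.D X) (n i j : ℤ) (h : n + i = j) :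
    DCoh.HD (K⟦n⟧) i ≅ DCoh.HD K j :=
  ((DerivedCategory.homologyFunctor X.Modules 0).shiftIso n i j h).app K

lemma HomBddAt.shift {a b : ℤ} {K : DCoh.D X} (h : HomBddAt a b K) (n : ℤ) :
    HomBddAt (a - n) (b - n) (K⟦n⟧) := fun L hL hv φ => by
  let ψ : K ⟶ L⟦-n⟧ := (shiftShiftNeg K n).inv ≫ φ⟦-n⟧'
  have hψ : ψ = 0 := h _ (isQCohD_shift hL (-n)) (fun i h1 h2 =>
    (hv (-n + i) (by omega) (by omega)).of_iso (hdShift L (-n) i (-n + i) rfl)) ψ
  apply (shiftFunctor (DCoh.D X) (-n)).map_injective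
  rw [Functor.map_zero]
  exact (cancel_epi (shiftShiftNeg K n).inv).1 (hψ.trans comp_zero.symm)

/-- The bound passes across an isomorphism of schemes. -/
lemma HomBddAt.of_schemeIso (e : U ≅ X)
    [PreservesFiniteLimits (Scheme.Modules.restrictFunctor e.hom)] {a b : ℤ}
    {K : DCoh.D X} (h : HomBddAt a b ((DCoh.restrictD e.hom).obj K)) : HomBddAt a b K := by
  haveI := faithful_restrictD e
  intro L hL hv φ
  apply (DCoh.restrictD e.hom).map_injective
  rw [Functor.map_zero]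
  exact h _ (isQCohD_restrictD e.hom hL)
    (fun i h1 h2 => (Functor.map_isZero _ (hv i h1 h2)).of_iso (hdRestrictIso e.hom L i)) _

/-- The Mayer-Vietoris step. -/
lemma homBddAt_of_mv (O₁ O₂ : X.Opens) (hO : O₁ ⊔ O₂ = ⊤) (K : DCoh.D X) {a b a' b' : ℤ}
    (h₁ : HomBddAt a b ((DCoh.restrictD O₁.ι).obj K))
    (h₂ : HomBddAt a b ((DCoh.restrictD O₂.ι).obj K))
    (h₁₂ : HomBddAt a' b' ((DCoh.restrictD (O₁ ⊓ O₂).ι).obj K)) :
    HomBddAt (min a (a' - 1)) (max b (b' - 1)) K := by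
  haveI := hasRpush_scheme O₁.ι
  haveI := hasRpush_scheme O₂.ι
  haveI := hasRpush_scheme (O₁ ⊓ O₂).ι
  have h₃ := (h₁₂.shift 1).of_iso (((DCoh.restrictD (O₁ ⊓ O₂).ι).commShiftIso (1 : ℤ)).app K).symm
  intro L hL hv φ
  let A₀ := min a (a' - 1)
  let B₀ := max b (b' - 1)
  obtain ⟨p, q, r, hT⟩ := exists_mvRpush_triangle O₁ O₂ hO L
  have key : ∀ (O : X.Opens) [DCoh.HasRpush O.ι] (a b : ℤ) (K' : DCoh.D X),
      A₀ ≤ a → b ≤ B₀ →
      (∀ L' : DCoh.D (O : Scheme.{u}), DCoh.IsQCohD L' →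
        (∀ i, a ≤ i → i ≤ b → IsZero (DCoh.HD L' i)) →
          ∀ ψ : (DCoh.restrictD O.ι).obj K' ⟶ L', ψ = 0) →
      ∀ ψ : K' ⟶ (DCoh.Rpush O.ι).obj ((DCoh.restrictD O.ι).obj L), ψ = 0 := by
    intro O _ a₀ b₀ K' ha hb hK ψ
    apply ((restrictRpushAdj O.ι).homEquiv _ _).symm.injective
    have hz : ∀ χ : (DCoh.restrictD O.ι).obj K' ⟶ (DCoh.restrictD O.ι).obj L, χ = 0 :=
      hK _ (isQCohD_restrictD O.ι hL) fun i h1 h2 =>
        (Functor.map_isZero _ (hv i (by omega) (by omega))).of_iso (hdRestrictIso O.ι L i)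
    exact (hz _).trans (hz _).symm
  have hp : φ ≫ p = 0 := by
    apply biprod.hom_ext
    · rw [zero_comp]; exact key O₁ a b K (by omega) (by omega) h₁ _
    · rw [zero_comp]; exact key O₂ a b K (by omega) (by omega) h₂ _
  obtain ⟨ψ, hψ⟩ := Triangle.coyoneda_exact₂ _ (inv_rot_of_distTriang _ hT) φ hp
  have hψ0 : ψ = 0 := by
    apply (shiftFunctor (DCoh.D X) (1 : ℤ)).map_injective
    rw [Functor.map_zero]
    have := key (O₁ ⊓ O₂) (a' - 1) (b' - 1) (K⟦(1 : ℤ)⟧) (by omega) (by omega) h₃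
      (ψ⟦(1 : ℤ)⟧' ≫ (shiftNegShift _ (1 : ℤ)).hom)
    exact (cancel_mono (shiftNegShift _ (1 : ℤ)).hom).1 (this.trans zero_comp.symm)
  rw [hψ, hψ0]
  exact zero_comp

/-- A family which is uniformly bounded on every affine open is uniformly bounded. -/
theorem exists_homBddAt_family [CompactSpace X] [QuasiSeparatedSpace X] {ι : Type*} (K : ι → DCoh.D X)
    (haff : ∀ (R : CommRingCat.{u}) (j : Spec R ⟶ X) [IsOpenImmersion j],
      ∃ a b : ℤ, ∀ s, HomBddAt a b ((DCoh.restrictD j).obj (K s))) :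
    ∃ a b : ℤ, a ≤ b ∧ ∀ s, HomBddAt a b (K s) := by
  let P : X.Opens → Prop := fun O => ∀ (W : Scheme.{u}) (j : W ⟶ X) [IsOpenImmersion j],
    Set.range j.base = (O : Set X) → ∃ a b : ℤ, ∀ s, HomBddAt a b ((DCoh.restrictD j).obj (K s))
  have hP : P ⊤ := by
    refine S0015.result X P ?_ ?_ ⊤ (by simpa using isCompact_univ)
    · intro O hO W j _ hW
      haveI := hO
      let e : Spec Γ(X, O) ≅ W := IsOpenImmersion.isoOfRangeEq hO.fromSpec j
        (by rw [hO.range_fromSpec, hW])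
      obtain ⟨a, b, hab⟩ := haff _ (e.hom ≫ j)
      exact ⟨a, b, fun s => HomBddAt.of_schemeIso e
        ((hab s).of_iso ((restrictDComp e.hom j _ rfl).app (K s)).symm)⟩
    · intro O₁ O₂ _ _ h₁ h₂ h₁₂ W j _ hW
      let A := j ⁻¹ᵁ O₁
      let B := j ⁻¹ᵁ O₂
      have hmem : ∀ y : W, j.base y ∈ (O₁ : Set X) ∪ O₂ := fun y => by
        rw [← Opens.coe_sup, ← hW]; exact ⟨y, rfl⟩
      have hAB : A ⊔ B = ⊤ := top_le_iff.1 fun y _ => hmem y
      have hrange : ∀ (Q : X.Opens), (Q : Set X) ⊆ Set.range j.base →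
          Set.range ((j ⁻¹ᵁ Q).ι ≫ j).base = (Q : Set X) := fun Q hQ => by
        ext x
        constructor
        · rintro ⟨y, rfl⟩; exact y.2
        · intro hx
          obtain ⟨y, rfl⟩ := hQ hx
          exact ⟨⟨y, hx⟩, rfl⟩
      obtain ⟨a₁, b₁, k₁⟩ := h₁ _ (A.ι ≫ j) (hrange O₁ fun x hx => by rw [hW]; exact Or.inl hx)
      obtain ⟨a₂, b₂, k₂⟩ := h₂ _ (B.ι ≫ j) (hrange O₂ fun x hx => by rw [hW]; exact Or.inr hx)
      obtain ⟨a₃, b₃, k₃⟩ :=
        h₁₂ _ ((A ⊓ B).ι ≫ j) (hrange (O₁ ⊓ O₂) fun x hx => by rw [hW]; exact Or.inl hx.1)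
      exact ⟨_, _, fun s => homBddAt_of_mv A B hAB _ (a := min a₁ a₂) (b := max b₁ b₂)
        (((k₁ s).mono (min_le_left _ _) (le_max_left _ _)).of_iso
          ((restrictDComp A.ι j _ rfl).app (K s)).symm)
        (((k₂ s).mono (min_le_right _ _) (le_max_right _ _)).of_iso
          ((restrictDComp B.ι j _ rfl).app (K s)).symm)
        ((k₃ s).of_iso ((restrictDComp (A ⊓ B).ι j _ rfl).app (K s)).symm)⟩
  obtain ⟨a, b, h⟩ := hP X (𝟙 X) (by simp)
  exact ⟨min a b, max a b, min_le_max,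
    fun s => ((h s).of_iso ((restrictDId X).app (K s))).mono (min_le_left _ _) (le_max_right _ _)⟩

/-- On a quasi-compact quasi-separated scheme a perfect object only sees cohomology sheaves in a
finite range of degrees. -/
theorem exists_homBddAt_of_isPerfect [CompactSpace X] [QuasiSeparatedSpace X] {K : DCoh.D X}
    (hK : DCoh.IsPerfect K) : ∃ a b : ℤ, a ≤ b ∧ HomBddAt a b K := by
  obtain ⟨a, b, hab, h⟩ := exists_homBddAt_family (fun _ : Unit => K) fun R j _ => by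
    haveI : PreservesFiniteLimits (tilde.functor R) := QCoh.tilde_preservesFiniteLimits (R := R)
    obtain ⟨a, b, h⟩ := exists_hom_bound_spec ((DCoh.restrictD j).obj K)
      ((isPerfect_iff _).2 (((isPerfect_iff K).1 hK).restrict' j))
    exact ⟨a, b, fun _ => h⟩
  exact ⟨a, b, hab, h ()⟩

end Groth.Agent.PerfD40
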