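import Groth.Agent.PerfD40.KoszulTors
import Groth.Agent.PerfD40.HomBoundAffine
import Groth.Agent.PerfD40.AdjOpen
import Groth.Agent.KFlatLib.Scheme.RpushUnbounded
import Groth.Agent.KFlatLib.Scheme.ProjFormula
import Groth.Prelude.Def_Wider

/-!
# Koszul objects on an affine scheme
-/

set_option linter.style.haveILetI false

universe u

open CategoryTheory CategoryTheory.Limits Pretriangulated AlgebraicGeometry

attribute [local instance] HasDerivedCategory.standard

namespace Groth.Agent.PerfD40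

open Groth.Agent.KFlatLib

variable {A : CommRingCat.{u}}

/-- The complement of the zero set of a finite sequence. -/
noncomputable abbrev outOpen (l : List A) : (Spec A).Opens :=
  LocCoh.puncturedOpen A (Ideal.span {a : A | a ∈ l})

lemma mem_outOpen_iff (l : List A) (x : Spec A) : x ∈ outOpen l ↔ ∃ f ∈ l, f ∉ x.asIdeal := by
  change x ∈ (PrimeSpectrum.zeroLocus (R := A) (Ideal.span {a : A | a ∈ l} : Set A))ᶜ ↔ _
  rw [PrimeSpectrum.zeroLocus_span]
  exact (Set.not_subset (s := {a : A | a ∈ l}) (t := (x.asIdeal : Set A))).trans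
    ⟨fun ⟨f, h1, h2⟩ => ⟨f, h1, h2⟩, fun ⟨f, h1, h2⟩ => ⟨f, h1, h2⟩⟩

lemma subsingleton_stalk_iff (M : ModuleCat.{u} A) (x : PrimeSpectrum.Top A) :
    Subsingleton ((tilde M).presheaf.stalk x) ↔ ∀ m : M, ∃ s : A, s ∉ x.asIdeal ∧ s • m = 0 := by
  haveI : x.asIdeal.IsPrime := x.isPrime
  constructor
  · intro h m
    obtain ⟨c, hc⟩ := (IsLocalizedModule.eq_zero_iff x.asIdeal.primeCompl (tilde.toStalk M x).hom).1
      (@Subsingleton.elim ((tilde M).presheaf.stalk x) h ((tilde.toStalk M x).hom m) 0)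
    exact ⟨c.1, c.2, hc⟩
  · intro h
    refine subsingleton_of_forall_eq 0 fun y => ?_
    obtain ⟨⟨m, s⟩, rfl⟩ := IsLocalizedModule.mk'_surjective x.asIdeal.primeCompl
      (tilde.toStalk M x).hom y
    obtain ⟨c, hc, hm⟩ := h m
    exact (IsLocalizedModule.mk'_eq_zero' (tilde.toStalk M x).hom s).2 ⟨⟨c, hc⟩, hm⟩

/-- Torsion cohomology means support away from the open. -/
lemma isTorsD_iff_support (l : List A) [PreservesFiniteLimits (tilde.functor A)]
    (N : DerivedCategory (ModuleCat.{u} A)) :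
    (∀ f ∈ l, IsTorsD f N) ↔
      ∀ i : ℤ, CohB1.support (DCoh.HD ((DCoh.tildeD A).obj N) i) ⊆ (outOpen l : Set (Spec A))ᶜ := by
  have key : ∀ (i : ℤ) (x : PrimeSpectrum.Top A), x ∈ CohB1.support (DCoh.HD ((DCoh.tildeD A).obj N) i) ↔
      ¬ Subsingleton ((tilde ((DerivedCategory.homologyFunctor (ModuleCat.{u} A) i).obj N)).presheaf.stalk x) :=
    fun i x => by
      let e := (DerSch.stalkFunctor (Spec A) x).mapIso ((mapDCHomologyIso (tilde.functor A) i).app N)
      exact not_congr e.toLinearEquiv.toEquiv.subsingleton_congr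
  constructor
  · intro h i x hx hxU
    refine (key i x).1 hx ((subsingleton_stalk_iff _ x).2 fun m => ?_)
    obtain ⟨f, hf, hfx⟩ := (mem_outOpen_iff l x).1 hxU
    obtain ⟨k, hk⟩ := h f hf i m
    exact ⟨f ^ k, fun hmem => hfx (x.isPrime.mem_of_pow_mem k hmem), hk⟩
  · intro h f hf i m
    let J : Ideal A := LinearMap.ker (LinearMap.toSpanSingleton A _ m)
    suffices f ∈ J.radical by
      obtain ⟨k, hk⟩ := this
      exact ⟨k, by simpa [J] using hk⟩
    rw [Ideal.radical_eq_sInf, Submodule.mem_sInf]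
    rintro p ⟨hJp, hp⟩
    by_contra hfp
    let x : Spec A := ⟨p, hp⟩
    have hxU : x ∈ outOpen l := (mem_outOpen_iff l x).2 ⟨f, hf, hfp⟩
    have hsub : Subsingleton _ := not_not.1 fun hn => h i ((key i x).2 hn) hxU
    obtain ⟨s, hs, hsm⟩ := (subsingleton_stalk_iff _ x).1 hsub m
    exact hs (hJp (by simpa [J] using hsm))

section Fibre

variable (l : List A) [PreservesFiniteLimits (tilde.functor A)]

/-- The Koszul object on the affine scheme. -/
noncomputable abbrev kX : DCoh.D (Spec A) := (DCoh.tildeD A).obj (kz l)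

lemma isZero_restrict_kX : IsZero ((DCoh.restrictD (outOpen l).ι).obj (kX l)) :=
  isZero_restrictD_of_support (outOpen l) _ _
    ((isTorsD_iff_support l (kz l)).1 fun f hf => isTorsD_kz l f hf) fun _ hx h => h hx

/-- Maps from shifted Koszul objects to a tilde. -/
lemma hom_kX_eq_zero_iff (N : DerivedCategory (ModuleCat.{u} A)) (n : ℤ) :
    (∀ φ : (kX l)⟦-n⟧ ⟶ (DCoh.tildeD A).obj N, φ = 0) ↔ ∀ χ : kz l ⟶ N⟦n⟧, χ = 0 := by
  let T := DCoh.tildeD A
  let e := (T.commShiftIso (-n)).app (kz l)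
  constructor
  · intro h χ
    let ψ : (kz l)⟦-n⟧ ⟶ N := χ⟦-n⟧' ≫ (shiftShiftNeg N n).hom
    have h1 : T.map ψ = 0 := (cancel_epi e.inv).1 ((h (e.inv ≫ T.map ψ)).trans comp_zero.symm)
    have h2 : ψ = 0 := (tildeD_map_bijective _ _).1 (h1.trans (T.map_zero _ _).symm)
    apply (shiftFunctor _ (-n)).map_injective
    rw [Functor.map_zero]
    exact (cancel_mono (shiftShiftNeg N n).hom).1 (h2.trans zero_comp.symm)
  · intro h φ
    obtain ⟨ψ, hψ⟩ := (tildeD_map_bijective _ _).2 (e.hom ≫ φ)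
    have h1 := h ((shiftNegShift (kz l) n).inv ≫ ψ⟦n⟧')
    have h2 : ψ = 0 := by
      apply (shiftFunctor _ n).map_injective
      rw [Functor.map_zero]
      exact (cancel_epi (shiftNegShift (kz l) n).inv).1 (h1.trans comp_zero.symm)
    rw [h2, Functor.map_zero] at hψ
    exact (cancel_epi e.hom).1 (hψ.symm.trans comp_zero.symm)

variable [PreservesFiniteLimits (Scheme.Modules.restrictFunctor (outOpen l).ι)]
  [DCoh.HasRpush (outOpen l).ι]
  (adj : DCoh.restrictD (outOpen l).ι ⊣ DCoh.Rpush (outOpen l).ι)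

lemma isCompact_outOpen : IsCompact ((outOpen l) : Set (Spec A)) := by
  classical
  have : ((outOpen l) : Set (Spec A)) =
      ⋃ f ∈ l.toFinset, (PrimeSpectrum.basicOpen f : Set (PrimeSpectrum A)) := by
    ext x
    refine (mem_outOpen_iff l x).trans (Iff.trans ?_ Set.mem_iUnion₂.symm)
    exact ⟨fun ⟨f, h1, h2⟩ => ⟨f, List.mem_toFinset.2 h1, h2⟩,
      fun ⟨f, h1, h2⟩ => ⟨f, List.mem_toFinset.1 h1, h2⟩⟩
  rw [this]
  exact l.toFinset.finite_toSet.isCompact_biUnion fun f _ => PrimeSpectrum.isCompact_basicOpen f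

include adj in
lemma hom_kX_rpush_eq_zero (n : ℤ) (M : DCoh.D (outOpen l : Scheme.{u}))
    (φ : (kX l)⟦n⟧ ⟶ (DCoh.Rpush (outOpen l).ι).obj M) : φ = 0 :=
  (adj.homEquiv _ _).symm.injective
    (((Functor.map_isZero (shiftFunctor _ n) (isZero_restrict_kX l)).of_iso
      (((DCoh.restrictD (outOpen l).ι).commShiftIso n).app (kX l))).eq_of_src _ _)

include adj in
/-- The fibre of the unit is a supported tilde, and receives the maps from the Koszul objects. -/
theorem exists_unit_fibre (E : DCoh.D (Spec A)) (hE : DCoh.IsQCohD E) :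
    ∃ (N : DerivedCategory (ModuleCat.{u} A)) (ι : (DCoh.tildeD A).obj N ⟶ E)
      (δ : (DCoh.Rpush (outOpen l).ι).obj ((DCoh.restrictD (outOpen l).ι).obj E) ⟶
        ((DCoh.tildeD A).obj N)⟦(1 : ℤ)⟧),
      Triangle.mk ι (adj.unit.app E) δ ∈ distTriang _ ∧ (∀ f ∈ l, IsTorsD f N) ∧
      ∀ n : ℤ, Function.Bijective fun φ : (kX l)⟦n⟧ ⟶ (DCoh.tildeD A).obj N => φ ≫ ι := by
  haveI : CompactSpace (outOpen l : Scheme.{u}) := isCompact_iff_compactSpace.1 (isCompact_outOpen l)
  haveI : QuasiCompact (outOpen l).ι := inferInstance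
  haveI : HasInjectiveResolutions (outOpen l : Scheme.{u}).Modules := hasInjectiveResolutions_modules
  let R := DCoh.restrictD (outOpen l).ι
  let G := DCoh.Rpush (outOpen l).ι
  obtain ⟨C, ι₀, δ₀, hT⟩ := distinguished_cocone_triangle₁ (adj.unit.app E)
  have hC : DCoh.IsQCohD C :=
    isQCohD_obj₁ hT hE (isQCohD_rpush _ (isQCohD_restrictD _ hE))
  obtain ⟨N, ⟨eN⟩⟩ := exists_tildeD_iso hC
  let T := Triangle.mk ι₀ (adj.unit.app E) δ₀
  have h11 : eN.inv⟦(1 : ℤ)⟧' ≫ eN.hom⟦(1 : ℤ)⟧' = 𝟙 _ := by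
    rw [← Functor.map_comp, eN.inv_hom_id, CategoryTheory.Functor.map_id]
  have hT' : Triangle.mk (eN.hom ≫ ι₀) (adj.unit.app E) (δ₀ ≫ eN.inv⟦(1 : ℤ)⟧') ∈ distTriang _ :=
    isomorphic_distinguished _ hT _ (Triangle.isoMk _ _ eN (Iso.refl _) (Iso.refl _)
      (Category.comp_id _) ((Category.comp_id _).trans (Category.id_comp _).symm)
      (((Category.assoc _ _ _).trans (congrArg (δ₀ ≫ ·) h11)).trans
        ((Category.comp_id _).trans (Category.id_comp _).symm)))
  have hu : IsIso (R.map (adj.unit.app E)) := by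
    obtain ⟨c⟩ := nonempty_rpush_restrictD_self (outOpen l).ι
    haveI : G.Full := (adj.fullyFaithfulROfCompIsoId c).full
    haveI : G.Faithful := (adj.fullyFaithfulROfCompIsoId c).faithful
    infer_instance
  have hz : IsZero (R.obj ((DCoh.tildeD A).obj N)) :=
    (Triangle.isZero₁_iff_isIso₂ _ (R.map_distinguished _ hT')).2 hu
  refine ⟨N, eN.hom ≫ ι₀, _, hT', (isTorsD_iff_support l N).2 fun i =>
    support_subset_of_isZero_restrictD (outOpen l) _ hz i, fun n => ⟨fun φ φ' he => ?_, fun ψ => ?_⟩⟩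
  · obtain ⟨χ, hχ⟩ := Triangle.coyoneda_exact₂ _ (inv_rot_of_distTriang _ hT') (φ - φ')
      ((Preadditive.sub_comp _ _ _).trans (sub_eq_zero.2 he))
    have h0 : χ⟦(1 : ℤ)⟧' ≫ (shiftNegShift _ (1 : ℤ)).hom = 0 := by
      refine (cancel_epi ((shiftFunctorAdd' _ n 1 (n + 1) rfl).app (kX l)).hom).1 ?_
      rw [comp_zero]
      exact hom_kX_rpush_eq_zero l adj (n + 1) _ _
    have hχ0 : χ = 0 := by
      apply (shiftFunctor _ (1 : ℤ)).map_injective
      rw [Functor.map_zero]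
      exact (cancel_mono (shiftNegShift _ (1 : ℤ)).hom).1 (h0.trans zero_comp.symm)
    exact sub_eq_zero.1 (hχ.trans (by rw [hχ0]; exact zero_comp))
  · obtain ⟨χ, hχ⟩ := Triangle.coyoneda_exact₂ _ hT' ψ (hom_kX_rpush_eq_zero l adj n _ _)
    exact ⟨χ, hχ.symm⟩

/-- Vanishing of maps from a shifted Koszul object into a torsion tilde forces acyclicity. -/
theorem isZero_homology_of_hom_kX {N : DerivedCategory (ModuleCat.{u} A)}
    (hN : ∀ f ∈ l, IsTorsD f N) (n : ℤ) (h : ∀ φ : (kX l)⟦-n⟧ ⟶ (DCoh.tildeD A).obj N, φ = 0) :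
    IsZero ((DerivedCategory.homologyFunctor (ModuleCat.{u} A) n).obj N) :=
  (isZero_h0_of_hom_kz_eq_zero l (N⟦n⟧) (fun f hf => (hN f hf).shift n)
    ((hom_kX_eq_zero_iff l N n).1 h)).of_iso (hShiftA N n 0 n (add_zero n)).symm

end Fibre

end Groth.Agent.PerfD40
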