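import Groth.Agent.KFlatLib.PsiC
import Groth.Agent.KFlatLib.Scheme.TildeD
import Groth.Prelude.Def_Koszul
import Mathlib.Algebra.Homology.DerivedCategory.Linear

/-!
# Morphisms out of Koszul complexes in `D(A)`
-/

set_option linter.style.haveILetI false

universe u

open CategoryTheory CategoryTheory.Limits Pretriangulated

attribute [local instance] HasDerivedCategory.standard

namespace Groth.Agent.PerfD40

open Groth.Agent.KFlatLib

variable {A : CommRingCat.{u}}

/-- The Koszul object. -/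
noncomputable abbrev kz (l : List A) : DerivedCategory (ModuleCat.{u} A) :=
  DerivedCategory.Q.obj (Koszul.koszul A l)

/-- All cohomology is killed by powers of `f`. -/
def IsTorsD (f : A) (N : DerivedCategory (ModuleCat.{u} A)) : Prop :=
  ∀ (i : ℤ) (x : (DerivedCategory.homologyFunctor (ModuleCat.{u} A) i).obj N), ∃ k : ℕ, f ^ k • x = 0

/-- The cohomology of a shift, for modules. -/
noncomputable def hShiftA (N : DerivedCategory (ModuleCat.{u} A)) (n i j : ℤ) (h : n + i = j) :
    (DerivedCategory.homologyFunctor (ModuleCat.{u} A) i).obj (N⟦n⟧) ≅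
      (DerivedCategory.homologyFunctor (ModuleCat.{u} A) j).obj N :=
  ((DerivedCategory.homologyFunctor (ModuleCat.{u} A) 0).shiftIso n i j h).app N

lemma IsTorsD.shift {f : A} {N : DerivedCategory (ModuleCat.{u} A)} (h : IsTorsD f N) (n : ℤ) :
    IsTorsD f (N⟦n⟧) := fun i x => by
  let e := (hShiftA N n i (n + i) rfl).toLinearEquiv
  obtain ⟨k, hk⟩ := h (n + i) (e x)
  exact ⟨k, e.injective (by rw [map_smul, hk, map_zero])⟩

/-- The triangle `K_l → K_l → K_{f::l} →`. -/
lemma koszul_triangle (f : A) (l : List A) :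
    ∃ (i : kz l ⟶ kz (f :: l)) (δ : kz (f :: l) ⟶ (kz l)⟦(1 : ℤ)⟧),
      Triangle.mk (f • 𝟙 (kz l)) i δ ∈ distTriang _ := by
  let φ : Koszul.koszul A l ⟶ Koszul.koszul A l := f • 𝟙 _
  have hφ : DerivedCategory.Q.map φ = f • 𝟙 (kz l) := by
    rw [Functor.map_smul, CategoryTheory.Functor.map_id]
  refine ⟨(DerivedCategory.Q.mapTriangle.obj (CochainComplex.mappingCone.triangle φ)).mor₂,
    (DerivedCategory.Q.mapTriangle.obj (CochainComplex.mappingCone.triangle φ)).mor₃, ?_⟩
  have h := DerivedCategory.mappingCone_triangle_distinguished φ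
  rw [← hφ]
  exact h

/-- Maps out of a shift. -/
lemma comp_eq_zero_of_shift {K N M : DerivedCategory (ModuleCat.{u} A)} (ψ : K⟦(1 : ℤ)⟧ ⟶ N)
    (ι : N ⟶ M) (h : ((shiftShiftNeg K (1 : ℤ)).inv ≫ ψ⟦(-1 : ℤ)⟧') ≫ ι⟦(-1 : ℤ)⟧' = 0) :
    ψ ≫ ι = 0 := by
  apply (shiftFunctor _ (-1 : ℤ)).map_injective
  rw [Functor.map_zero, Functor.map_comp, ← cancel_epi (shiftShiftNeg K (1 : ℤ)).inv, comp_zero]
  exact (Category.assoc _ _ _).symm.trans h

/-- The free module of rank one in degree zero. -/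
lemma kz_nil : Nonempty (kz ([] : List A) ≅
    (DerivedCategory.singleFunctor (ModuleCat.{u} A) 0).obj (ModuleCat.of A A)) :=
  ⟨((DerivedCategory.singleFunctorIsoCompQ _ 0).app _).symm⟩

lemma bijective_psiC_A (N : DerivedCategory (ModuleCat.{u} A)) :
    Function.Bijective (psiC 0 (ModuleCat.of A A) N) :=
  haveI : Projective (ModuleCat.of A A) := inferInstance
  bijective_psiC_of_projective 0 N

lemma psiC_zero' {N : DerivedCategory (ModuleCat.{u} A)} :
    psiC 0 (ModuleCat.of A A) N 0 = 0 := by simp [psiC]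

/-- A map from the unit Koszul object vanishes when it does in degree-zero cohomology. -/
lemma kz_nil_comp_eq_zero {N M : DerivedCategory (ModuleCat.{u} A)} (φ : kz ([] : List A) ⟶ N)
    (ι : N ⟶ M) (h : (DerivedCategory.homologyFunctor (ModuleCat.{u} A) 0).map ι = 0) :
    φ ≫ ι = 0 := by
  obtain ⟨e⟩ := kz_nil (A := A)
  have : (e.inv ≫ φ) ≫ ι = 0 := (bijective_psiC_A M).1 (by rw [psiC_comp, h, comp_zero, psiC_zero'])
  rw [Category.assoc] at this
  exact (cancel_epi e.inv).1 (this.trans comp_zero.symm)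

/-- Maps into objects concentrated below the range only see the bottom degree. -/
theorem kz_comp_eq_zero : ∀ (l : List A) (N M : DerivedCategory (ModuleCat.{u} A)) (φ : kz l ⟶ N)
    (ι : N ⟶ M),
    (∀ i : ℤ, -(l.length : ℤ) < i → i ≤ 0 →
      IsZero ((DerivedCategory.homologyFunctor (ModuleCat.{u} A) i).obj N)) →
    (DerivedCategory.homologyFunctor (ModuleCat.{u} A) (-(l.length : ℤ))).map ι = 0 → φ ≫ ι = 0 := by
  intro l
  induction l with
  | nil => intro N M φ ι _ hι; exact kz_nil_comp_eq_zero φ ι (by simpa using hι)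
  | cons f l ih =>
    intro N M φ ι hN hι
    simp only [List.length_cons, Nat.cast_add, Nat.cast_one] at hN hι
    obtain ⟨i, δ, hT⟩ := koszul_triangle f l
    have h1 : i ≫ φ = 0 := by
      have h := ih N N (i ≫ φ) (𝟙 N) (fun j h1 h2 => hN j (by omega) h2)
        ((hN _ (by omega) (by omega)).eq_of_src _ _)
      simpa using h
    obtain ⟨ψ, hψ⟩ : ∃ ψ : (kz l)⟦(1 : ℤ)⟧ ⟶ N, φ = δ ≫ ψ :=
      Triangle.yoneda_exact₂ _ (rot_of_distTriang _ hT) φ h1
    have h2 : ψ ≫ ι = 0 := by
      refine comp_eq_zero_of_shift ψ ι (ih _ _ _ _ (fun j h1 h2 => ?_) ?_)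
      · exact (hN (-1 + j) (by omega) (by omega)).of_iso (hShiftA N (-1) j _ rfl)
      · let F := DerivedCategory.homologyFunctor (ModuleCat.{u} A) 0
        have hn := (F.shiftIso (-1 : ℤ) (-(l.length : ℤ)) (-(l.length + 1 : ℤ)) (by ring)).hom.naturality ι
        refine (cancel_mono ((F.shiftIso (-1 : ℤ) (-(l.length : ℤ)) (-(l.length + 1 : ℤ))
          (by ring)).hom.app M)).1 (hn.trans ?_)
        erw [zero_comp, hι, comp_zero]
        rfl
    rw [hψ]
    exact (Category.assoc _ _ _).trans ((congrArg (δ ≫ ·) h2).trans comp_zero)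

/-- Maps out of a Koszul complex only see its range. -/
theorem kz_hom_eq_zero (l : List A) (N : DerivedCategory (ModuleCat.{u} A)) (φ : kz l ⟶ N)
    (hN : ∀ i : ℤ, -(l.length : ℤ) ≤ i → i ≤ 0 →
      IsZero ((DerivedCategory.homologyFunctor (ModuleCat.{u} A) i).obj N)) : φ = 0 := by
  simpa using kz_comp_eq_zero l N N φ (𝟙 N) (fun i h1 h2 => hN i h1.le h2)
    ((hN _ le_rfl (by omega)).eq_of_src _ _)

/-- Maps from a Koszul complex into a torsion object are killed by a power. -/
theorem exists_pow_smul_kz (f : A) : ∀ (l : List A) (N : DerivedCategory (ModuleCat.{u} A)),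
    IsTorsD f N → ∀ φ : kz l ⟶ N, ∃ k : ℕ, f ^ k • φ = 0 := by
  intro l
  induction l with
  | nil =>
    intro N hN φ
    obtain ⟨e⟩ := kz_nil (A := A)
    let y := psiC 0 (ModuleCat.of A A) N (e.inv ≫ φ)
    obtain ⟨k, hk⟩ := hN 0 (y.hom (1 : A))
    refine ⟨k, (cancel_epi e.inv).1 ((bijective_psiC_A N).1 ?_)⟩
    rw [comp_zero, psiC_zero', Linear.comp_smul,
      show f ^ k • (e.inv ≫ φ) = (DerivedCategory.singleFunctor (ModuleCat.{u} A) 0).map
        (f ^ k • 𝟙 (ModuleCat.of A A)) ≫ e.inv ≫ φ by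
        rw [Functor.map_smul, CategoryTheory.Functor.map_id, Linear.smul_comp, Category.id_comp],
      psiC_single_map, Linear.smul_comp, Category.id_comp]
    exact ModuleCat.hom_ext (LinearMap.ext_ring hk)
  | cons g l ih =>
    intro N hN φ
    obtain ⟨i, δ, hT⟩ := koszul_triangle g l
    obtain ⟨k, hk⟩ := ih N hN (i ≫ φ)
    obtain ⟨ψ, hψ⟩ : ∃ ψ : (kz l)⟦(1 : ℤ)⟧ ⟶ N, f ^ k • φ = δ ≫ ψ :=
      Triangle.yoneda_exact₂ _ (rot_of_distTriang _ hT) (f ^ k • φ)
        ((Linear.comp_smul ..).trans hk)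
    obtain ⟨k', hk'⟩ := ih _ (hN.shift (-1)) ((shiftShiftNeg _ (1 : ℤ)).inv ≫ ψ⟦(-1 : ℤ)⟧')
    have h2 : f ^ k' • ψ = 0 := by
      apply (shiftFunctor _ (-1 : ℤ)).map_injective
      rw [Functor.map_zero, Functor.map_smul, ← cancel_epi (shiftShiftNeg (kz l) (1 : ℤ)).inv,
        comp_zero, Linear.comp_smul]
      exact hk'
    refine ⟨k' + k, ?_⟩
    rw [pow_add, mul_smul, hψ, ← Linear.comp_smul, h2, comp_zero]

/-- An object which is torsion for the sequence and orthogonal to its Koszul complex is acyclic in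
degree zero. -/
theorem isZero_h0_of_hom_kz_eq_zero : ∀ (l : List A) (N : DerivedCategory (ModuleCat.{u} A)),
    (∀ f ∈ l, IsTorsD f N) → (∀ φ : kz l ⟶ N, φ = 0) →
      IsZero ((DerivedCategory.homologyFunctor (ModuleCat.{u} A) 0).obj N) := by
  intro l
  induction l with
  | nil =>
    intro N _ h
    obtain ⟨e⟩ := kz_nil (A := A)
    rw [IsZero.iff_id_eq_zero]
    refine ModuleCat.hom_ext (LinearMap.ext fun x => ?_)
    obtain ⟨φ, hφ⟩ := (bijective_psiC_A N).2 ((evalOne _).symm x)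
    have hx : (evalOne _).symm x = 0 := by
      rw [← hφ, show φ = 0 by simpa using congrArg (e.inv ≫ ·) (h (e.hom ≫ φ)), psiC_zero']
    have := congrArg (evalOne _) hx
    rw [Equiv.apply_symm_apply] at this
    exact this
  | cons f l ih =>
    intro N hN h
    obtain ⟨i, δ, hT⟩ := koszul_triangle f l
    refine ih N (fun g hg => hN g (List.mem_cons_of_mem _ hg)) fun φ => ?_
    obtain ⟨k, hk⟩ := exists_pow_smul_kz f l N (hN f List.mem_cons_self) φ
    induction k generalizing φ with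
    | zero => simpa using hk
    | succ k ihk =>
      refine ihk φ ?_
      obtain ⟨χ, hχ⟩ := Triangle.yoneda_exact₂ _ hT (f ^ k • φ) (by
        change (f • 𝟙 (kz l)) ≫ (f ^ k • φ) = 0
        rw [Linear.smul_comp, Category.id_comp, smul_smul, ← pow_succ', hk])
      rw [hχ, h χ]
      exact comp_zero

end Groth.Agent.PerfD40
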