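import Groth.Agent.PerfD40.KoszulAffine
import Mathlib.AlgebraicGeometry.Modules.Tilde

/-!
# Sections supported on a closed set factor through Koszul complexes of powers
-/

set_option linter.style.haveILetI false

universe u

open CategoryTheory CategoryTheory.Limits Pretriangulated AlgebraicGeometry

attribute [local instance] HasDerivedCategory.standard

namespace Groth.Agent.PerfD40

open Groth.Agent.KFlatLib

variable {A : CommRingCat.{u}}

/-- Torsion in one degree. -/
def IsTorsAt (f : A) (N : DerivedCategory (ModuleCat.{u} A)) (i : ℤ) : Prop :=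
  ∀ x : (DerivedCategory.homologyFunctor (ModuleCat.{u} A) i).obj N, ∃ k : ℕ, f ^ k • x = 0

lemma IsTorsAt.shift {f : A} {N : DerivedCategory (ModuleCat.{u} A)} {n i j : ℤ} (h : IsTorsAt f N j)
    (hij : n + i = j) : IsTorsAt f (N⟦n⟧) i := fun x => by
  let e := (hShiftA N n i j hij).toLinearEquiv
  obtain ⟨k, hk⟩ := h (e x)
  exact ⟨k, e.injective (by rw [map_smul, hk, map_zero])⟩

/-- Maps out of a Koszul complex are killed by a power as soon as the cohomology is torsion in its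
range. -/
theorem exists_pow_smul_kz_range (f : A) : ∀ (l : List A) (N : DerivedCategory (ModuleCat.{u} A)),
    (∀ i : ℤ, -(l.length : ℤ) ≤ i → i ≤ 0 → IsTorsAt f N i) →
    ∀ φ : kz l ⟶ N, ∃ k : ℕ, f ^ k • φ = 0 := by
  intro l
  induction l with
  | nil =>
    intro N hN φ
    obtain ⟨e⟩ := kz_nil (A := A)
    let y := psiC 0 (ModuleCat.of A A) N (e.inv ≫ φ)
    obtain ⟨k, hk⟩ := hN 0 (by simp) le_rfl (y.hom (1 : A))
    refine ⟨k, (cancel_epi e.inv).1 ((bijective_psiC_A N).1 ?_)⟩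
    rw [comp_zero, psiC_zero', Linear.comp_smul,
      show f ^ k • (e.inv ≫ φ) = (DerivedCategory.singleFunctor (ModuleCat.{u} A) 0).map
        (f ^ k • 𝟙 (ModuleCat.of A A)) ≫ e.inv ≫ φ by
        rw [Functor.map_smul, CategoryTheory.Functor.map_id, Linear.smul_comp, Category.id_comp],
      psiC_single_map, Linear.smul_comp, Category.id_comp]
    exact ModuleCat.hom_ext (LinearMap.ext_ring hk)
  | cons g l ih =>
    intro N hN φ
    simp only [List.length_cons, Nat.cast_add, Nat.cast_one] at hN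
    obtain ⟨i, δ, hT⟩ := koszul_triangle g l
    obtain ⟨k, hk⟩ := ih N (fun j h1 h2 => hN j (by omega) h2) (i ≫ φ)
    obtain ⟨ψ, hψ⟩ : ∃ ψ : (kz l)⟦(1 : ℤ)⟧ ⟶ N, f ^ k • φ = δ ≫ ψ :=
      Triangle.yoneda_exact₂ _ (rot_of_distTriang _ hT) (f ^ k • φ)
        ((Linear.comp_smul ..).trans hk)
    obtain ⟨k', hk'⟩ := ih _ (fun j h1 h2 => (hN (-1 + j) (by omega) (by omega)).shift rfl)
      ((shiftShiftNeg _ (1 : ℤ)).inv ≫ ψ⟦(-1 : ℤ)⟧')
    have h2 : f ^ k' • ψ = 0 := by
      apply (shiftFunctor _ (-1 : ℤ)).map_injective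
      rw [Functor.map_zero, Functor.map_smul, ← cancel_epi (shiftShiftNeg (kz l) (1 : ℤ)).inv,
        comp_zero, Linear.comp_smul]
      exact hk'
    refine ⟨k' + k, ?_⟩
    rw [pow_add, mul_smul, hψ, ← Linear.comp_smul, h2, comp_zero]

/-- The unit of a Koszul complex. -/
noncomputable def kUnit : ∀ l : List A, kz ([] : List A) ⟶ kz l
  | [] => 𝟙 _
  | f :: l => kUnit l ≫ DerivedCategory.Q.map
      (CochainComplex.mappingCone.inr (f • 𝟙 (Koszul.koszul A l)))

/-- The transition map between Koszul complexes of powers. -/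
lemma exists_kTrans (n m : ℕ) (h : n ≤ m) : ∀ l : List A,
    ∃ c : kz (l.map (· ^ m)) ⟶ kz (l.map (· ^ n)), kUnit (l.map (· ^ m)) ≫ c = kUnit (l.map (· ^ n)) := by
  suffices H : ∀ l : List A, ∃ c : Koszul.koszul A (l.map (· ^ m)) ⟶ Koszul.koszul A (l.map (· ^ n)),
      kUnit (l.map (· ^ m)) ≫ DerivedCategory.Q.map c = kUnit (l.map (· ^ n)) from
    fun l => ⟨_, (H l).choose_spec⟩
  intro l
  induction l with
  | nil => exact ⟨𝟙 _, (congrArg (kUnit ([] : List A) ≫ ·) (DerivedCategory.Q.map_id _)).trans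
      (Category.comp_id _)⟩
  | cons f l ih =>
    obtain ⟨c, hc⟩ := ih
    let φ₁ := f ^ m • 𝟙 (Koszul.koszul A (l.map (· ^ m)))
    let φ₂ := f ^ n • 𝟙 (Koszul.koszul A (l.map (· ^ n)))
    have comm : φ₁ ≫ c = (f ^ (m - n) • c) ≫ φ₂ := by
      simp only [φ₁, φ₂, Linear.smul_comp, Linear.comp_smul, Category.id_comp, Category.comp_id,
        smul_smul, ← pow_add, Nat.add_sub_cancel' h, Nat.sub_add_cancel h]
    refine ⟨CochainComplex.mappingCone.map φ₁ φ₂ (f ^ (m - n) • c) c comm, ?_⟩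
    have hinr : CochainComplex.mappingCone.inr φ₁ ≫
        CochainComplex.mappingCone.map φ₁ φ₂ (f ^ (m - n) • c) c comm =
        c ≫ CochainComplex.mappingCone.inr φ₂ := by
      simp [CochainComplex.mappingCone.map]
    exact (Category.assoc _ _ _).trans ((congrArg (kUnit (l.map (· ^ m)) ≫ ·)
      ((DerivedCategory.Q.map_comp _ _).symm.trans ((congrArg DerivedCategory.Q.map hinr).trans
        (DerivedCategory.Q.map_comp _ _)))).trans ((Category.assoc _ _ _).symm.trans
          (congrArg (· ≫ DerivedCategory.Q.map (CochainComplex.mappingCone.inr φ₂)) hc)))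

/-- An element of `H^0` which is torsion along the sequence factors through a Koszul complex of
powers. -/
theorem exists_kUnit_factor (N : DerivedCategory (ModuleCat.{u} A)) : ∀ l : List A,
    (∀ f ∈ l, ∀ i : ℤ, -(l.length : ℤ) < i → i ≤ 0 → IsTorsAt f N i) →
    ∀ s : kz ([] : List A) ⟶ N, ∃ (e : ℕ) (ψ : kz (l.map (· ^ e)) ⟶ N),
      kUnit (l.map (· ^ e)) ≫ ψ = s := by
  intro l
  induction l with
  | nil => exact fun _ s => ⟨0, s, Category.id_comp s⟩
  | cons f l ih =>
    intro hN s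
    simp only [List.length_cons, Nat.cast_add, Nat.cast_one] at hN
    obtain ⟨e₀, ψ₀, h₀⟩ := ih (fun g hg i h1 h2 => hN g (List.mem_cons_of_mem _ hg) i (by omega) h2) s
    obtain ⟨k, hk⟩ := exists_pow_smul_kz_range f _ N (fun i h1 h2 => hN f List.mem_cons_self i (by
      rw [List.length_map] at h1; omega) h2) ψ₀
    let e := max e₀ k
    obtain ⟨c, hc⟩ := exists_kTrans e₀ e (le_max_left _ _) l
    let φ : Koszul.koszul A (l.map (· ^ e)) ⟶ Koszul.koszul A (l.map (· ^ e)) := f ^ e • 𝟙 _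
    have h0 : DerivedCategory.Q.map φ ≫ c ≫ ψ₀ = 0 := by
      rw [Functor.map_smul, CategoryTheory.Functor.map_id, Linear.smul_comp, Category.id_comp,
        show f ^ e = f ^ (e - k) * f ^ k by
          rw [← pow_add, Nat.sub_add_cancel (le_max_right e₀ k : k ≤ e)], mul_smul, ← Linear.comp_smul, hk,
        comp_zero, smul_zero]
    obtain ⟨ψ, hψ⟩ : ∃ ψ : DerivedCategory.Q.obj (CochainComplex.mappingCone φ) ⟶ N,
        c ≫ ψ₀ = DerivedCategory.Q.map (CochainComplex.mappingCone.inr φ) ≫ ψ :=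
      Triangle.yoneda_exact₂ _ (DerivedCategory.mappingCone_triangle_distinguished φ) (c ≫ ψ₀) h0
    refine ⟨e, ψ, ?_⟩
    change (kUnit (l.map (· ^ e)) ≫ DerivedCategory.Q.map (CochainComplex.mappingCone.inr φ)) ≫ ψ = s
    rw [Category.assoc, ← hψ, ← Category.assoc, hc, h₀]

variable [PreservesFiniteLimits (tilde.functor A)]

/-- Vanishing on the open makes a cohomology module torsion. -/
lemma isTorsAt_of_isZero_restrict (l : List A) (N : DerivedCategory (ModuleCat.{u} A)) (i : ℤ)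
    (h : IsZero ((DCoh.HD ((DCoh.tildeD A).obj N) i).restrict (outOpen l).ι)) (f : A) (hf : f ∈ l) :
    IsTorsAt f N i := fun m => by
  let J : Ideal A := LinearMap.ker (LinearMap.toSpanSingleton A _ m)
  suffices f ∈ J.radical by
    obtain ⟨k, hk⟩ := this
    exact ⟨k, by simpa [J] using hk⟩
  rw [Ideal.radical_eq_sInf, Submodule.mem_sInf]
  rintro p ⟨hJp, hp⟩
  by_contra hfp
  let x : Spec A := ⟨p, hp⟩
  have hxU : x ∈ outOpen l := (mem_outOpen_iff l x).2 ⟨f, hf, hfp⟩
  have hx := notMem_support_of_isZero_restrict (outOpen l) h hxU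
  let e := (DerSch.stalkFunctor (Spec A) x).mapIso ((mapDCHomologyIso (tilde.functor A) i).app N)
  have hsub : Subsingleton _ := e.toLinearEquiv.toEquiv.subsingleton_congr.1 (not_not.1 hx)
  obtain ⟨s, hs, hsm⟩ := (subsingleton_stalk_iff _ x).1 hsub m
  exact hs (hJp (by simpa [J] using hsm))

/-- Sections supported off the open factor through Koszul objects of powers. -/
theorem exists_section_factor (fs : List A) (E : DCoh.D (Spec A)) (hE : DCoh.IsQCohD E)
    (hU : ∀ i : ℤ, -(fs.length : ℤ) < i → i ≤ 0 →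
      IsZero ((DCoh.HD E i).restrict (outOpen fs).ι))
    (s : DCoh.inD (Spec A) (Coh.structureModule (Spec A)) ⟶ E) :
    ∃ (e : ℕ) (ψ : kX (fs.map (· ^ e)) ⟶ E)
      (t : DCoh.inD (Spec A) (Coh.structureModule (Spec A)) ⟶ kX (fs.map (· ^ e))), t ≫ ψ = s := by
  obtain ⟨N, ⟨eN⟩⟩ := exists_tildeD_iso hE
  obtain ⟨ek⟩ := kz_nil (A := A)
  let eO : DCoh.inD (Spec A) (Coh.structureModule (Spec A)) ≅ (DCoh.tildeD A).obj (kz ([] : List A)) :=
    (DerivedCategory.singleFunctor (Spec A).Modules 0).mapIso tildeSelf.symm ≪≫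
      (((tilde.functor A).mapDerivedCategorySingleFunctor 0).app _).symm ≪≫
      (DCoh.tildeD A).mapIso ek.symm
  obtain ⟨s₀, hs₀⟩ := (tildeD_map_bijective _ N).2 (eO.inv ≫ s ≫ eN.inv)
  obtain ⟨e, ψ, hψ⟩ := exists_kUnit_factor N fs (fun f hf i h1 h2 =>
    isTorsAt_of_isZero_restrict fs N i
      ((hU i h1 h2).of_iso ((Scheme.Modules.restrictFunctor (outOpen fs).ι).mapIso
        ((DerivedCategory.homologyFunctor _ i).mapIso eN))) f hf) s₀
  refine ⟨e, (DCoh.tildeD A).map ψ ≫ eN.hom, eO.hom ≫ (DCoh.tildeD A).map (kUnit _), ?_⟩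
  rw [Category.assoc, ← Functor.map_comp_assoc, hψ, hs₀]
  simp

end Groth.Agent.PerfD40
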