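import Groth.Agent.PerfD40.KoszulCore
import Groth.Agent.PerfD40.Support
import Mathlib.AlgebraicGeometry.Modules.Tilde

/-!
# The cohomology of Koszul complexes is torsion; torsion and supports
-/

set_option linter.style.haveILetI false

universe u

open CategoryTheory CategoryTheory.Limits Pretriangulated AlgebraicGeometry

attribute [local instance] HasDerivedCategory.standard

namespace Groth.Agent.PerfD40

open Groth.Agent.KFlatLib

variable {A : CommRingCat.{u}}

/-- Homology of a multiplication. -/
lemma homology_map_Q_smul (f : A) (K : CochainComplex (ModuleCat.{u} A) ℤ) (i : ℤ)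
    (x : (DerivedCategory.homologyFunctor (ModuleCat.{u} A) i).obj (DerivedCategory.Q.obj K)) :
    (DerivedCategory.homologyFunctor (ModuleCat.{u} A) i).map
      (DerivedCategory.Q.map (f • 𝟙 K)) x = f • x := by
  let e := (DerivedCategory.homologyFunctorFactors (ModuleCat.{u} A) i).app K
  have h1 : HomologicalComplex.homologyMap (f • 𝟙 K) i = f • 𝟙 (K.homology i) := by
    have h0 : (HomologicalComplex.shortComplexFunctor (ModuleCat.{u} A) (ComplexShape.up ℤ) i).map
        (f • 𝟙 K) = f • 𝟙 (K.sc i) := by ext <;> rfl
    show ShortComplex.homologyMap _ = _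
    rw [h0, ShortComplex.homologyMap_smul, ShortComplex.homologyMap_id]
    rfl
  have h2 := (DerivedCategory.homologyFunctorFactors (ModuleCat.{u} A) i).hom.naturality (f • 𝟙 K)
  apply e.toLinearEquiv.injective
  rw [map_smul]
  refine (ConcreteCategory.congr_hom h2 x).trans ?_
  change HomologicalComplex.homologyMap (f • 𝟙 K) i (e.hom x) = _
  rw [h1]
  rfl

/-- Torsion passes through exact triangles. -/
lemma IsTorsD.of_triangle {f : A} (T : Triangle (DerivedCategory (ModuleCat.{u} A)))
    (hT : T ∈ distTriang _) (h₁ : IsTorsD f T.obj₁) (h₃ : IsTorsD f T.obj₃) :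
    IsTorsD f T.obj₂ := fun i x => by
  let H := DerivedCategory.homologyFunctor (ModuleCat.{u} A) i
  obtain ⟨k, hk⟩ := h₃ i (H.map T.mor₂ x)
  obtain ⟨y, hy⟩ := (ShortComplex.moduleCat_exact_iff _).1
    (DerivedCategory.HomologySequence.exact₂ T hT i) (f ^ k • x) ((map_smul _ _ _).trans hk)
  obtain ⟨k', hk'⟩ := h₁ i y
  refine ⟨k' + k, ?_⟩
  rw [pow_add, mul_smul, ← hy]
  exact (map_smul (H.map T.mor₁).hom _ _).symm.trans ((congrArg _ hk').trans (map_zero _))

/-- The cohomology of a Koszul complex is torsion for each of its elements. -/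
theorem isTorsD_kz : ∀ (l : List A) (f : A), f ∈ l → IsTorsD f (kz l) := by
  intro l
  induction l with
  | nil => intro f hf; simp at hf
  | cons g l ih =>
    intro f hf
    let φ : Koszul.koszul A l ⟶ Koszul.koszul A l := g • 𝟙 _
    let T := DerivedCategory.Q.mapTriangle.obj (CochainComplex.mappingCone.triangle φ)
    have hT : T ∈ distTriang _ := DerivedCategory.mappingCone_triangle_distinguished φ
    rcases eq_or_ne f g with rfl | hfg
    · intro i x
      let H := DerivedCategory.homologyFunctor (ModuleCat.{u} A) i
      let d := DerivedCategory.HomologySequence.δ T i (i + 1) rfl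
      have hd : d (f • x) = 0 := by
        have hc := ConcreteCategory.congr_hom
          (DerivedCategory.HomologySequence.δ_comp T hT i (i + 1) rfl) x
        erw [homology_map_Q_smul] at hc
        exact (map_smul d.hom f x).trans hc
      obtain ⟨y, hy⟩ := (ShortComplex.moduleCat_exact_iff _).1
        (DerivedCategory.HomologySequence.exact₃ T hT i (i + 1) rfl) (f • x) hd
      refine ⟨2, ?_⟩
      rw [pow_two, mul_smul, ← hy]
      refine (map_smul (H.map T.mor₂).hom f y).symm.trans ?_
      refine (congrArg (H.map T.mor₂).hom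
        (homology_map_Q_smul f (Koszul.koszul A l) i y).symm).trans ?_
      exact (ConcreteCategory.congr_hom (H.map_comp T.mor₁ T.mor₂) y).symm.trans (by
        rw [comp_distTriang_mor_zero₁₂ T hT, Functor.map_zero]; rfl)
    · have h' : IsTorsD f (kz l) := ih f ((List.mem_cons.1 hf).resolve_left hfg)
      exact IsTorsD.of_triangle T.rotate (rot_of_distTriang _ hT) h' (h'.shift 1)

end Groth.Agent.PerfD40
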