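import Groth.Agent.PerfD40.RelAmp
import Groth.Agent.PerfD40.BaseChangeAcyclic
import Groth.Agent.KFlatLib.Perfect.Basic

/-!
# Derived pullback along a base change and finite tor dimension relative to the base
-/

set_option linter.style.haveILetI false
set_option backward.isDefEq.respectTransparency false

universe u

open CategoryTheory CategoryTheory.Limits AlgebraicGeometry CategoryTheory.Pretriangulated
  CochainComplex

attribute [local instance] HasDerivedCategory.standard

namespace Groth.Agent.PerfD40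

open Groth.Agent.KFlatLib

variable {X S X' S' : Scheme.{u}} {f : X ⟶ S} {f' : X' ⟶ S'} {g' : X' ⟶ X} {g : S' ⟶ S}

/-- Pullback along a base change preserves acyclicity of bounded above complexes of modules flat
over the base. -/
lemma acyclic_pullCx_of_flatOver [Flat f] (hc : IsPullback g' f' f g)
    (E : CochainComplex X.Modules ℤ) (b : ℤ) [E.IsStrictlyLE b]
    (hE : ∀ n, FlatMod.IsFlatOver f (E.X n)) (hac : E.Acyclic) :
    ((pullCx g').obj E).Acyclic := by
  haveI := (Scheme.Modules.pullbackPushforwardAdjunction g').leftAdjoint_preservesColimits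
  have hz : ∀ n, IsZero (E.homology n) := fun n =>
    (HomologicalComplex.exactAt_iff_isZero_homology _ _).1 (hac n)
  intro n
  obtain ⟨k, rfl⟩ : ∃ k, n = k + 1 := ⟨n - 1, by omega⟩
  haveI := mono_fromOpcycles' E k (k + 1) rfl (hz k)
  haveI := mono_fromOpcycles' E (k + 1) (k + 1 + 1) rfl (hz (k + 1))
  let T : ℤ → ShortComplex X.Modules := fun i =>
    ShortComplex.mk (E.fromOpcycles i (i + 1)) (E.pOpcycles (i + 1))
      (by rw [← cancel_epi (E.pOpcycles i)]; simp)
  have hT : ∀ i, (T i).ShortExact := fun i => by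
    have hS : (T i).Exact := (T i).exact_of_g_is_cokernel
      (CokernelCofork.IsColimit.ofπ' _ _ fun {A} l hl =>
      ⟨E.descOpcycles l i (by simp) (by
          rw [← E.p_fromOpcycles i (i + 1), Category.assoc]
          exact (E.pOpcycles i ≫= hl).trans comp_zero),
        E.p_descOpcycles _ _ _ _⟩)
    exact ShortComplex.ShortExact.mk' hS (mono_fromOpcycles' E i (i + 1) rfl (hz i))
      (inferInstanceAs (Epi (E.pOpcycles (i + 1))))
  let F := Scheme.Modules.pullback g'
  have hF : ∀ i, ((T i).map F).ShortExact := fun i =>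
    shortExact_pullback_of_flatOver f f' g' g hc (hT i)
      ((ampClass_isFlatOver f).opcycles_of_acyclic E b hE hz (i + 1))
  haveI : Mono (F.map (E.fromOpcycles (k + 1) (k + 1 + 1))) := (hF (k + 1)).mono_f
  let S₂ : ShortComplex X'.Modules :=
    ShortComplex.mk (F.map (E.fromOpcycles k (k + 1))) (F.map (E.d (k + 1) (k + 1 + 1))) (by
      rw [← F.map_comp, show E.fromOpcycles k (k + 1) ≫ E.d (k + 1) (k + 1 + 1) = 0 by
        rw [← cancel_epi (E.pOpcycles k)]; simp, F.map_zero])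
  have h₂ : S₂.Exact := by
    let φ : (T k).map F ⟶ S₂ :=
      { τ₁ := 𝟙 _
        τ₂ := 𝟙 _
        τ₃ := F.map (E.fromOpcycles (k + 1) (k + 1 + 1))
        comm₂₃ := by
          show 𝟙 _ ≫ F.map (E.d (k + 1) (k + 1 + 1)) = F.map (E.pOpcycles (k + 1)) ≫ _
          rw [Category.id_comp, ← F.map_comp, E.p_fromOpcycles] }
    haveI : Epi φ.τ₁ := inferInstanceAs (Epi (𝟙 _))
    haveI : IsIso φ.τ₂ := inferInstanceAs (IsIso (𝟙 _))
    haveI : Mono φ.τ₃ := inferInstanceAs (Mono (F.map _))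
    exact (ShortComplex.exact_iff_of_epi_of_isIso_of_mono φ).1 (hF k).exact
  rw [HomologicalComplex.exactAt_iff' _ k (k + 1) (k + 1 + 1) (by simp) (by simp)]
  let ψ : ((pullCx g').obj E).sc' k (k + 1) (k + 1 + 1) ⟶ S₂ :=
    { τ₁ := F.map (E.pOpcycles k)
      τ₂ := 𝟙 _
      τ₃ := 𝟙 _
      comm₁₂ := by
        show F.map (E.pOpcycles k) ≫ F.map (E.fromOpcycles k (k + 1)) = F.map (E.d k (k + 1)) ≫ 𝟙 _
        rw [Category.comp_id, ← F.map_comp, E.p_fromOpcycles]
      comm₂₃ := (Category.id_comp _).trans (Category.comp_id _).symm }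
  haveI : Epi ψ.τ₁ := inferInstanceAs (Epi (F.map _))
  haveI : IsIso ψ.τ₂ := inferInstanceAs (IsIso (𝟙 _))
  haveI : Mono ψ.τ₃ := inferInstanceAs (Mono (𝟙 _))
  exact (ShortComplex.exact_iff_of_epi_of_isIso_of_mono ψ).2 h₂

/-- Derived pullback along a base change of an object of relative amplitude. -/
lemma hasAmp_lpull [Flat f] (hc : IsPullback g' f' f g) [DCoh.HasLpull g'] {a b : ℤ}
    {K : DCoh.D X} (h : HasAmp (FlatMod.IsFlatOver f) a b K) :
    HasAmp (FlatMod.IsFlatOver f') a b ((DCoh.Lpull g').obj K) := by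
  obtain ⟨G, hG1, hG2, hG3, ⟨e⟩⟩ := h
  obtain ⟨R, ρ, hρ, hflat, hz⟩ := (flatCover X).exists_bounded_resolution G b fun m hm =>
    (G.exactAt_of_isLE b m hm).isZero_homology
  haveI := hρ
  haveI : R.IsStrictlyLE b := (CochainComplex.isStrictlyLE_iff _ _).2 hz
  haveI := isStrictlyLE_cone ρ b
  have hac : (mappingCone ρ).Acyclic := acyclic_cone_of_quasiIso ρ
  have hac' := acyclic_pullCx_of_flatOver hc (mappingCone ρ) b
    ((ampClass_isFlatOver f).cone_X ρ (fun n => isFlatOver_of_isFlat f (hflat n)) hG3) hac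
  haveI : QuasiIso ((pullCx g').map ρ) := quasiIso_of_acyclic_cone _
    (acyclic_of_iso (mappingCone.mapHomologicalComplexIso ρ (Scheme.Modules.pullback g')) hac')
  exact ⟨(pullCx g').obj G,
    (CochainComplex.isStrictlyGE_iff _ _).2 fun i hi =>
      (Scheme.Modules.pullback g').map_isZero (G.isZero_of_isStrictlyGE a i hi),
    (CochainComplex.isStrictlyLE_iff _ _).2 fun i hi =>
      (Scheme.Modules.pullback g').map_isZero (G.isZero_of_isStrictlyLE b i hi),
    fun n x => MorLib.FlatBC.isFlatOverAt_baseChange f f' g' g hc _ x (hG3 n (g'.base x)),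
    ⟨(@asIso _ _ _ _ _ (KFlatLib.isIso_Q_map ((pullCx g').map ρ) inferInstance)).symm ≪≫
      (lpullIso g' (isKFlat_of_isStrictlyLE R b hflat)).symm ≪≫
      (DCoh.Lpull g').mapIso (@asIso _ _ _ _ _ (KFlatLib.isIso_Q_map ρ inferInstance) ≪≫ e)⟩⟩

/-- Derived pullback commutes with restriction to an open and its preimage. -/
lemma nonempty_lpull_restrict {Y : Scheme.{u}} (p : Y ⟶ X) [DCoh.HasLpull p] (V : X.Opens)
    [DCoh.HasLpull (p ∣_ V)] (K : DCoh.D X) :
    Nonempty ((DCoh.Lpull (p ∣_ V)).obj ((rho V.ι).obj K) ≅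
      (rho (p ⁻¹ᵁ V).ι).obj ((DCoh.Lpull p).obj K)) :=
  ⟨(DCoh.Lpull (p ∣_ V)).mapIso ((rho V.ι).mapIso (repKIso K).symm ≪≫ (rhoQ V.ι).app _) ≪≫
    lpullIso (p ∣_ V) (isKFlat_restrict V.ι (isKFlat_repK K)) ≪≫
    DerivedCategory.Q.mapIso (restrictPullIso p V (repK K)).symm ≪≫
    ((rhoQ (p ⁻¹ᵁ V).ι).app _).symm ≪≫ (rho (p ⁻¹ᵁ V).ι).mapIso (lpullRepIso p K)⟩

/-- Finite relative tor dimension is stable under base change. -/
theorem locRelTor_lpull [Flat f] (hc : IsPullback g' f' f g) [DCoh.HasLpull g'] {K : DCoh.D X}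
    (h : DCoh.LocHasFiniteRelTorDim f K) :
    DCoh.LocHasFiniteRelTorDim f' ((DCoh.Lpull g').obj K) := (locRelTor_iff f' _).2 fun x => by
  obtain ⟨V, a, b, hx, hV⟩ := (locRelTor_iff f K).1 h (g'.base x)
  haveI := hasLpull (g' ∣_ V)
  obtain ⟨e⟩ := nonempty_lpull_restrict g' V K
  exact ⟨g' ⁻¹ᵁ V, a, b, hx,
    (hasAmp_lpull ((isPullback_morphismRestrict g' V).paste_vert hc) hV).of_iso e⟩

end Groth.Agent.PerfD40
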