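import Groth.Agent.CExt24.Models
import Groth.Agent.PerfD40.FPSupport
import Groth.Agent.QCoh.RpushClosed
import Groth.Agent.QCoh.RpushExchange

/-!
# Direct images of flat families without higher cohomology are locally free
-/

set_option backward.isDefEq.respectTransparency false
set_option backward.isDefEq.respectTransparency.types false
set_option linter.style.haveILetI false
set_option autoImplicit false

universe u

open CategoryTheory CategoryTheory.Limits AlgebraicGeometry TopologicalSpace Opposite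

noncomputable section

namespace Groth.Agent.PerfD40

variable {X S : Scheme.{u}}

theorem isFinLocFree_of_isZero {M : S.Modules} (h : IsZero M) : FlatMod.IsFinLocFree M := fun _ =>
  ⟨⊤, 0, trivial, ⟨(Functor.map_isZero (Scheme.Modules.restrictFunctor (⊤ : S.Opens).ι) h).iso
    (QCoh.isZero_freeMod_zero' _)⟩⟩

/-- The proper case. -/
theorem isFinLocFree_Rpush_zero (f : X ⟶ S) [IsProper f] [LocallyOfFinitePresentation f]
    [HasInjectiveResolutions X.Modules] {F : X.Modules} (hF : CohB1.IsFP F) (hfl : FlatMod.IsFlatOver f F)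
    (hvan : ∀ i : ℕ, 0 < i → IsZero ((Coh.Rpush f i).obj F)) :
    FlatMod.IsFinLocFree ((Coh.Rpush f 0).obj F) := by
  have hq := QCoh.isQCoh_of_isFP hF
  have hm : CExt24.HasModels f F := CExt24.hasModels f hq hF hfl
  have hgood : ∀ (s : S) (p : ℕ), CExt24.GoodNhd f F (-(p : ℤ)) s := fun s => by
    obtain ⟨c, hc⟩ := CExt24.exists_goodNhd_bottom hm s
    have key : ∀ (k p : ℕ), -(p : ℤ) < c + k → CExt24.GoodNhd f F (-(p : ℤ)) s := by
      intro k
      induction k with
      | zero => exact fun p hp => hc _ (by simpa using hp)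
      | succ k ih =>
        intro p hp
        have h1 := CExt24.goodNhd_of_isFinLocFree hq (p + 1) (U := ⊤) (s := s) trivial
          (isFinLocFree_of_isZero (Functor.map_isZero (Scheme.Modules.restrictFunctor (⊤ : S.Opens).ι)
            (hvan (p + 1) p.succ_pos))) (ih (p + 1) (by push_cast at hp ⊢; omega))
        rwa [show -((p + 1 : ℕ) : ℤ) + 1 = -(p : ℤ) by push_cast; ring] at h1
    intro p
    exact key ((-(p : ℤ) + 1 - c).toNat) p (by omega)
  have h := CExt24.isFinLocFree_Rpush_restrict hq 0 (U := ⊤) fun z _ =>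
    ⟨hgood z 0, CExt24.goodNhd_top hm (by simp) z⟩
  intro z
  obtain ⟨W, n, -, hzW, hn⟩ := CExt24.free_restrict_of_open h (s := z) trivial
  exact ⟨W, n, hzW, hn⟩

/-- Direct images of flat families without higher cohomology are finite locally free. -/
theorem isFinLocFree_push (f : X ⟶ S) [LocallyOfFinitePresentation f] [QuasiCompact f] [QuasiSeparated f]
    [HasInjectiveResolutions X.Modules] {F : X.Modules} (hF : CohB1.IsFP F) (hfl : FlatMod.IsFlatOver f F)
    (hsupp : ClSub.IsProperOver f (CohB1.support F))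
    (hvan : ∀ i : ℕ, 0 < i → IsZero ((Coh.Rpush f i).obj F)) :
    FlatMod.IsFinLocFree ((Coh.push f).obj F) := by
  obtain ⟨Z, i, G, hi, hlfp, hr, hG, ⟨e⟩⟩ := exists_fp_closed_model hF
  haveI := hi
  haveI := hlfp
  rw [← hr] at hsupp
  haveI : IsProper (i ≫ f) := (QCoh.isProperOver_iff i).1 hsupp
  haveI : HasInjectiveResolutions Z.Modules := KFlatLib.hasInjectiveResolutions_modules
  have hGq := QCoh.isQCoh_of_isFP hG
  have hvan' : ∀ p : ℕ, 0 < p → IsZero ((Coh.Rpush (i ≫ f) p).obj G) := fun p hp => by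
    obtain ⟨e'⟩ := QCoh.nonempty_Rpush_affine_push i f hGq p
    exact (hvan p hp).of_iso (e'.symm ≪≫ (Coh.Rpush f p).mapIso e)
  have h0 := isFinLocFree_Rpush_zero (i ≫ f) hG (isFlatOver_of_push f i e hfl) hvan'
  obtain ⟨e'⟩ := QCoh.nonempty_Rpush_affine_push i f hGq 0
  haveI := CExt24.isIso_toRightDerivedZero_app f F
  exact (ConsPropLib.isFinLocFree_iso (e'.symm ≪≫ (Coh.Rpush f 0).mapIso e ≪≫
    (@asIso _ _ _ _ ((Scheme.Modules.pushforward f).toRightDerivedZero.app F) inferInstance).symm)).1 h0

end Groth.Agent.PerfD40
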