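import Groth.Agent.PerfD40.HocolimApprox
import Groth.Agent.KFlatLib.Scheme.RpushUnbounded
import Groth.Agent.KFlatLib.Scheme.RpushTriangle

/-!
# Derived direct images respect approximations up to their amplitude
-/

set_option linter.style.haveILetI false

universe u

open CategoryTheory CategoryTheory.Limits Pretriangulated AlgebraicGeometry

attribute [local instance] HasDerivedCategory.standard

namespace Groth.Agent.PerfD40

open Groth.Agent.KFlatLib

variable {X Y : Scheme.{u}} (f : X ⟶ Y) [QuasiCompact f] [QuasiSeparated f]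

/-- A uniform shift for derived direct images of approximations. -/
theorem exists_isPcMap_rpush [DCoh.HasRpush f] [CompactSpace Y] :
    ∃ N : ℕ, ∀ (m : ℤ) {P E : DCoh.D X}, DCoh.IsQCohD P → DCoh.IsQCohD E → ∀ α : P ⟶ E,
      IsPcMap m α → IsPcMap (m + N) ((DCoh.Rpush f).map α) := by
  haveI : HasInjectiveResolutions X.Modules := hasInjectiveResolutions_modules
  obtain ⟨N, hN⟩ := exists_Rpush_bound f
  refine ⟨N, fun m P E hP hE α hα => ?_⟩
  obtain ⟨C, g, δ, hT⟩ := distinguished_cocone_triangle α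
  have hC : DCoh.IsQCohD C := isQCohD_obj₃ hT hP hE
  obtain ⟨c, hc⟩ := exists_rpush_triangle f _ hT
  haveI : C.IsLE (m - 1) := (DerivedCategory.isLE_iff _ _).2 fun i hi =>
    (isPcMap_iff_obj₃ m hT).1 hα i (by omega)
  refine (isPcMap_iff_obj₃ (m + N) hc).2 fun i hi => isZero_of_isZero_restrict _ fun y => ?_
  exact ⟨⊤, trivial, isZero_restrict_hd_rpush f hC (m - 1) ⊤ N (fun M hM p hp =>
    (Scheme.Modules.restrictFunctor (⊤ : Y.Opens).ι).map_isZero (hN M hM p hp)) i (by omega)⟩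

/-- Pseudo-coherence of `Rf_* Φ(E)` from the perfect case, for functors `Φ` moving approximations by a
bounded amount. -/
theorem isPseudoCoherentD_rpush_of_perfect_test [CompactSpace X] [QuasiSeparatedSpace X]
    [DCoh.HasRpush f] [CompactSpace Y] (Φ : DCoh.D X ⥤ DCoh.D X) (d : ℤ)
    (hq : ∀ G, DCoh.IsQCohD G → DCoh.IsQCohD (Φ.obj G))
    (hpc : ∀ (m : ℤ) {P E : DCoh.D X} (α : P ⟶ E), IsPcMap m α → IsPcMap (m + d) (Φ.map α))
    (h : ∀ E : DCoh.D X, DCoh.IsPerfect E → ∀ m : ℤ,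
      DCoh.IsPseudoCoherentD m ((DCoh.Rpush f).obj (Φ.obj E)))
    (E : DCoh.D X) (hE : ∀ m : ℤ, DCoh.IsPseudoCoherentD m E) (m : ℤ) :
    DCoh.IsPseudoCoherentD m ((DCoh.Rpush f).obj (Φ.obj E)) := by
  obtain ⟨N, hN⟩ := exists_isPcMap_rpush f
  obtain ⟨P, g, i, hP, -, -, hi⟩ := exists_perfect_system (⊥ : X.Opens) isCompact_empty hE
    ((isZero_restrictD_iff_support _ E).2 fun _ x _ hx => hx)
  let m₁ : ℤ := m - N - d
  have h₁ : IsPcMap m₁ (i m₁.natAbs) :=
    ⟨fun p hp => hi _ p (by omega), by haveI := hi m₁.natAbs m₁ (by omega); infer_instance⟩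
  have hEq : DCoh.IsQCohD E := fun p => isQCoh_HD_of_pseudoCoherent (hE (p - 1)) p (by omega)
  have h₂ := hN _ (hq _ (isQCohD_of_isPerfect (hP _))) (hq _ hEq) _ (hpc _ _ h₁)
  exact (isPseudoCoherentD_iff _ _).2 (locPC_of_isPcMap (h₂.mono (by omega))
    ((isPseudoCoherentD_iff _ _).1 (h _ (hP _) m)))

end Groth.Agent.PerfD40
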