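import Groth.Agent.PerfD40.RelAmp
import Groth.Agent.PerfD40.AmpMore
import Groth.Agent.PerfD40.KoszulOrth
import Groth.Agent.KFlatLib.Scheme.TildeAmp
import Groth.Agent.FlatLimHx.Flat
import Groth.Agent.S2394

/-!
# Finite relative tor dimension on affine schemes
-/

set_option linter.style.haveILetI false
set_option backward.isDefEq.respectTransparency false

universe u

open CategoryTheory CategoryTheory.Limits AlgebraicGeometry CategoryTheory.Pretriangulated

attribute [local instance] HasDerivedCategory.standard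

namespace Groth.Agent.PerfD40

open Groth.Agent.KFlatLib

variable (R A : Type u) [CommRing R] [CommRing A] [Algebra R A]

/-- The structure map of an affine scheme over an affine base. -/
noncomputable abbrev specMor : Spec (CommRingCat.of A) ⟶ Spec (CommRingCat.of R) :=
  Spec.map (CommRingCat.ofHom (algebraMap R A))

lemma isFlatOver_tilde_iff (M : ModuleCat.{u} A) :
    FlatMod.IsFlatOver (specMor R A) ((tilde.functor (CommRingCat.of A)).obj M) ↔
      Module.Flat R ((ModuleCat.restrictScalars (algebraMap R A)).obj M) := by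
  letI : Module R M := Module.compHom _ (algebraMap R A)
  haveI : IsScalarTower R A M := IsScalarTower.of_algebraMap_smul fun _ _ => rfl
  exact S2394.result R A M

variable [Module.Flat R A] [PreservesFiniteLimits (tilde.functor (CommRingCat.of A))]

/-- Finite relative tor dimension of `M^~` is finite tor dimension of `M` over the base. -/
theorem locRelTor_tildeD_iff (M : Dual.D A) :
    DCoh.LocHasFiniteRelTorDim (specMor R A) ((DCoh.tildeD (CommRingCat.of A)).obj M) ↔
      DRing.HasFiniteTorDimCx R ((DRing.restrictD (algebraMap R A)).obj M) := by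
  haveI : Flat (specMor R A) :=
    (HasRingHomProperty.Spec_iff (P := @Flat)).2 (RingHom.flat_algebraMap_iff.2 inferInstance)
  let T : CochainComplex (ModuleCat.{u} A) ℤ ⥤ CochainComplex (Spec (CommRingCat.of A)).Modules ℤ :=
    (tilde.functor (CommRingCat.of A)).mapHomologicalComplex (ComplexShape.up ℤ)
  haveI : (tilde.functor (CommRingCat.of A)).PreservesHomology :=
    QCoh.tilde_preservesHomology (R := CommRingCat.of A)
  constructor
  · intro h
    have h' := (locRelTor_iff _ _).1 h
    choose V a b hx hV using h'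
    let U : Spec (CommRingCat.of A) → Set (Spec (CommRingCat.of A)) := fun x => (V x).1
    obtain ⟨s, hs⟩ := isCompact_univ.elim_finite_subcover U (fun x => (V x).2)
      (fun x _ => (Set.mem_iUnion (s := U)).2 ⟨x, hx x⟩)
    let a₀ : ℤ := -((s.sup fun x => (-a x).toNat : ℕ) : ℤ)
    let b₀ : ℤ := ((s.sup fun x => (b x).toNat : ℕ) : ℤ)
    have key : ∀ x : Spec (CommRingCat.of A), ∃ W : (Spec (CommRingCat.of A)).Opens, x ∈ W ∧
        HasAmp (FlatMod.IsFlatOver (W.ι ≫ specMor R A)) a₀ b₀
          ((rho W.ι).obj ((DCoh.tildeD (CommRingCat.of A)).obj M)) := fun x => by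
      obtain ⟨y, hy, hxy⟩ := Set.mem_iUnion₂.1 (hs (Set.mem_univ x))
      refine ⟨V y, hxy, (hV y).mono ?_ ?_⟩
      · have := Finset.le_sup (f := fun x => (-a x).toNat) hy
        dsimp only [a₀] at this ⊢
        omega
      · have := Finset.le_sup (f := fun x => (b x).toNat) hy
        dsimp only [b₀] at this ⊢
        omega
    have hz : ∀ i, i < a₀ ∨ b₀ < i →
        IsZero ((DerivedCategory.homologyFunctor (ModuleCat.{u} A) i).obj M) := fun i hi => by
      refine isZero_homology_of_tildeD (A := CommRingCat.of A) M i ?_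
      refine isZero_of_stalk _ fun x => ?_
      obtain ⟨W, hxW, hW⟩ := key x
      exact isZero_stalk_of_restrict W.ι (⟨x, hxW⟩ : (W : Scheme.{u}))
        ((DerSch.stalkFunctor _ _).map_isZero ((hW.isZero_homology i hi).of_iso (hdRhoIso W.ι _ i).symm))
    haveI : M.IsLE b₀ := (DerivedCategory.isLE_iff M b₀).2 fun i hi => hz i (Or.inr hi)
    obtain ⟨P, hP, hPΦ, ⟨e⟩⟩ := (ampClass_flatOverRing (R := R) (A := A)).exists_rep M b₀
    refine ⟨a₀ - 1, b₀, restrict_of_amp M
      ((ampClass_flatOverRing (R := R) (A := A)).amp_of_opcycles e (a₀ - 1) b₀ hPΦ ?_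
        fun i hi => hz i (Or.inl (by omega)))⟩
    refine (isFlatOver_tilde_iff R A _).1 fun x => ?_
    obtain ⟨W, hxW, hW⟩ := key x
    let P' := (rCx W.ι).obj (T.obj P)
    haveI : CochainComplex.IsStrictlyLE P' b₀ := (CochainComplex.isStrictlyLE_iff _ _).2 fun i hi =>
      (Scheme.Modules.restrictFunctor W.ι).map_isZero
        ((tilde.functor (CommRingCat.of A)).map_isZero (P.isZero_of_isStrictlyLE b₀ i hi))
    have hP' := (ampClass_isFlatOver (W.ι ≫ specMor R A)).opcycles_rep (R := P')
      (fun n => isFlatOver_restrict _ W.ι ((isFlatOver_tilde_iff R A _).2 (hPΦ n)))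
      (hW.of_iso ((rho W.ι).mapIso ((DCoh.tildeD (CommRingCat.of A)).mapIso e.symm ≪≫ toDTildeIso (R := CommRingCat.of A) P) ≪≫
        (rhoQ W.ι).app (T.obj P))) (a₀ - 1) (by omega)
    let eo : P'.opcycles (a₀ - 1) ≅ (Scheme.Modules.restrictFunctor W.ι).obj
        ((tilde.functor (CommRingCat.of A)).obj (P.opcycles (a₀ - 1))) :=
      ((T.obj P).sc (a₀ - 1)).mapOpcyclesIso (Scheme.Modules.restrictFunctor W.ι) ≪≫
        (Scheme.Modules.restrictFunctor W.ι).mapIso
          ((P.sc (a₀ - 1)).mapOpcyclesIso (tilde.functor (CommRingCat.of A)))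
    exact FlatLimHx.isFlatOverAt_of_pullback (specMor R A) W.ι _ ⟨x, hxW⟩
      (GrFlat5.isFlatOverAt_of_iso _
        (eo ≪≫ (Scheme.Modules.restrictFunctorIsoPullback W.ι).app _) _ (hP' ⟨x, hxW⟩))
  · rintro ⟨a, b, h⟩
    obtain ⟨P, h1, h2, hf, ⟨e⟩⟩ := amp_of_restrict M h
    have hamp : HasAmp (FlatMod.IsFlatOver (specMor R A)) (a - 1) b
        ((DCoh.tildeD (CommRingCat.of A)).obj M) :=
      ⟨T.obj P,
        (CochainComplex.isStrictlyGE_iff _ _).2 fun i hi =>
          (tilde.functor (CommRingCat.of A)).map_isZero (P.isZero_of_isStrictlyGE _ i hi),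
        (CochainComplex.isStrictlyLE_iff _ _).2 fun i hi =>
          (tilde.functor (CommRingCat.of A)).map_isZero (P.isZero_of_isStrictlyLE _ i hi),
        fun n => (isFlatOver_tilde_iff R A _).2 (hf n),
        ⟨(toDTildeIso (R := CommRingCat.of A) P).symm ≪≫ (DCoh.tildeD (CommRingCat.of A)).mapIso e⟩⟩
    exact (locRelTor_iff _ _).2 fun x => ⟨⊤, a - 1, b, trivial, hamp.restrict _ (⊤ : (Spec
      (CommRingCat.of A)).Opens).ι _ rfl⟩

end Groth.Agent.PerfD40
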