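import Groth.Agent.PerfD40.RelAmpLocal
import Groth.Agent.RelPC13.Generalize
import Groth.Prelude.Def_DerSch

/-!
# Relative amplitude in representative form gives stalkwise tor amplitude
-/

set_option linter.style.haveILetI false
set_option backward.isDefEq.respectTransparency false
set_option backward.isDefEq.respectTransparency.types false

universe u

open CategoryTheory CategoryTheory.Limits AlgebraicGeometry

attribute [local instance] HasDerivedCategory.standard

namespace Groth.Agent.PerfD40

open Groth.Agent.KFlatLib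

variable {X S : Scheme.{u}} (f : X ⟶ S)

lemma flat_restrictScalars_congr {R A : Type u} [CommRing R] [CommRing A] {φ ψ : R →+* A}
    (h : φ = ψ) (M : ModuleCat.{u} A) (hM : Module.Flat R ((ModuleCat.restrictScalars φ).obj M)) :
    Module.Flat R ((ModuleCat.restrictScalars ψ).obj M) := by
  subst h; exact hM

/-- A representative by modules flat over the base on an open gives tor amplitude at its points. -/
lemma hasTorAmplitudeAt_of_hasAmp (F : CochainComplex X.Modules ℤ) {V : Scheme.{u}} (j : V ⟶ X)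
    [IsOpenImmersion j] {a b : ℤ}
    (h : HasAmp (FlatMod.IsFlatOver (j ≫ f)) a b ((rho j).obj (DCoh.toD X F))) (u : V) :
    DerSch.HasTorAmplitudeAt f a b F (j.base u) := by
  obtain ⟨P, h1, h2, h3, ⟨e⟩⟩ := h
  let c := ComplexShape.up ℤ
  let β := (f.stalkMap (j.base u) ≫ j.stalkMap u).hom
  let σ : Scheme.Modules.restrictFunctor j ⋙ DerSch.stalkFunctor V u ⋙
      ModuleCat.restrictScalars β ≅ DerSch.stalkOver f (j.base u) :=
    Functor.isoWhiskerLeft _ (Functor.isoWhiskerLeft _
      (RelPC13.resComp (f.stalkMap (j.base u)).hom (j.stalkMap u).hom β rfl)) ≪≫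
      (Functor.isoWhiskerRight (RelPC13.stalkRestrictModIso' j u)
        (ModuleCat.restrictScalars (f.stalkMap (j.base u)).hom) :)
  let Tz := DerSch.stalkFunctor V u ⋙ ModuleCat.restrictScalars β
  refine ⟨(Tz.mapHomologicalComplex c).obj P, fun i hi => ?_, fun i => ?_, ⟨?_⟩⟩
  · refine Tz.map_isZero ?_
    rcases hi with hi | hi
    · exact P.isZero_of_isStrictlyGE a i hi
    · exact P.isZero_of_isStrictlyLE b i hi
  · have hβ : ((j ≫ f).stalkMap u).hom = β := by
      rw [Scheme.Hom.stalkMap_comp]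
    have h' := (isFlatOverAt_iff_stalkBase (j ≫ f) (P.X i) u).1 (h3 i u)
    exact flat_restrictScalars_congr hβ ((DerSch.stalkFunctor V u).obj (P.X i)) h'
  · exact (Tz.mapDerivedCategoryFactors.app P).symm ≪≫
      Tz.mapDerivedCategory.mapIso (e ≪≫ (rhoQ j).app F) ≪≫
      Tz.mapDerivedCategoryFactors.app ((rCx j).obj F) ≪≫
      DerivedCategory.Q.mapIso ((NatIso.mapHomologicalComplex σ c).app F)

/-- Locally finite relative tor dimension gives stalkwise finite tor amplitude near each point. -/
lemma locFiniteTorAmplitude_of_locRelTor (F : CochainComplex X.Modules ℤ)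
    (h : DCoh.LocHasFiniteRelTorDim f (DCoh.toD X F)) : DerSch.LocFiniteTorAmplitude f F := fun x => by
  obtain ⟨V, a, b, hx, hV⟩ := (locRelTor_iff f _).1 h x
  exact ⟨V, a, b, hx, fun x' hx' => hasTorAmplitudeAt_of_hasAmp f F V.ι hV ⟨x', hx'⟩⟩

/-- Tor amplitude is monotone. -/
lemma hasTorAmplitudeAt_mono {F : CochainComplex X.Modules ℤ} {a b a' b' : ℤ} {x : X}
    (h : DerSch.HasTorAmplitudeAt f a b F x) (ha : a' ≤ a) (hb : b ≤ b') :
    DerSch.HasTorAmplitudeAt f a' b' F x := by
  obtain ⟨T, hT, hfl, e⟩ := h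
  exact ⟨T, fun i hi => hT i (hi.imp (fun h => by omega) (fun h => by omega)), hfl, e⟩

/-- On a compact space locally finite tor amplitude is uniform. -/
lemma hasFiniteTorAmplitude_of_loc [CompactSpace X] {F : CochainComplex X.Modules ℤ}
    (h : DerSch.LocFiniteTorAmplitude f F) : DerSch.HasFiniteTorAmplitude f F := by
  choose V a b hx hV using h
  obtain ⟨t, ht⟩ := isCompact_univ.elim_finite_subcover (fun x => (V x : Set X))
    (fun x => (V x).2) fun x _ => Set.mem_iUnion.2 ⟨x, hx x⟩
  obtain ⟨A, hA⟩ := (t.image a).bddBelow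
  obtain ⟨B, hB⟩ := (t.image b).bddAbove
  refine ⟨A, B, fun y => ?_⟩
  obtain ⟨x, hxt, hyx⟩ : ∃ x ∈ t, y ∈ V x := by simpa using ht (Set.mem_univ y)
  exact hasTorAmplitudeAt_mono f (hV x y hyx) (hA (Finset.mem_image_of_mem a hxt))
    (hB (Finset.mem_image_of_mem b hxt))

end Groth.Agent.PerfD40
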