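import Groth.Agent.DEqLib.Sib.ResProp
import Groth.Agent.KFlatLib.Perfect.Criterion
import Groth.Agent.KFlatLib.Perfect.Corollaries
import Groth.Agent.KFlatLib.Perfect.Amplitude
import Groth.Agent.KFlatLib.Perfect.Lift
import Groth.Agent.KFlatLib.Scheme.TildePC
import Groth.Agent.KFlatLib.Scheme.QCohDerived
import Groth.Agent.QCoh.Serre

/-!
# Strictly perfect resolutions of complexes of quasi-coherent modules
-/

set_option autoImplicit false
set_option linter.style.haveILetI false
set_option backward.isDefEq.respectTransparency false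
set_option backward.isDefEq.respectTransparency.types false

universe u v

open CategoryTheory CategoryTheory.Limits AlgebraicGeometry TopologicalSpace Opposite CochainComplex
open CochainComplex.HomComplex
open scoped ZeroObject

attribute [local instance] HasDerivedCategory.standard

noncomputable section

namespace Groth.Agent.PerfD40.ResCore

section Abelian

variable {A : Type u} [Category.{v} A] [Abelian A] {E F : CochainComplex A ℤ}

theorem isIso_inr_f {S E : CochainComplex A ℤ} (g : S ⟶ E) (i : ℤ) (h : IsZero (S.X (i + 1))) :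
    IsIso ((mappingCone.inr g).f i) :=
  ⟨(mappingCone.snd g).v i i (add_zero i), by simp, by
    have := mappingCone.id_X g i (i + 1) rfl
    rw [← this, h.eq_of_tgt ((mappingCone.fst g).1.v i (i + 1) rfl) 0, zero_comp, zero_add]⟩

/-- Killing the top cohomology of a mapping cone by one more term. -/
theorem exists_cone_step (α : E ⟶ F) {n' n : ℤ} (hn : n' + 1 = n)
    (hexact : ∀ i, n ≤ i → IsZero ((mappingCone α).homology i)) {N : A} (φ : N ⟶ (mappingCone α).X n')
    (hφ : φ ≫ (mappingCone α).d n' n = 0)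
    (hepi : Epi ((mappingCone α).liftCycles φ n ((CochainComplex.next ℤ n').trans hn) hφ ≫ (mappingCone α).homologyπ n')) :
    ∃ (E' : CochainComplex A ℤ) (α' : E' ⟶ F),
      (∀ i, Nonempty (E'.X i ≅ ((HomologicalComplex.single A (ComplexShape.up ℤ) n).obj N).X (i + 1) ⊞ E.X i)) ∧
      ∀ i, n' ≤ i → IsZero ((mappingCone α').homology i) := by
  obtain ⟨n'', hn''⟩ : ∃ n'' : ℤ, n'' + 1 = n' := ⟨n' - 1, by omega⟩
  let S := (HomologicalComplex.single A (ComplexShape.up ℤ) n).obj N
  let σ := HomologicalComplex.singleObjXSelf (ComplexShape.up ℤ) n N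
  let g : S ⟶ E := HomologicalComplex.mkHomFromSingle (-(φ ≫ (mappingCone.fst α).1.v n' n hn)) (by
    intro j hj
    obtain rfl : n + 1 = j := hj
    have := φ ≫= mappingCone.d_fst_v α n' n (n + 1) hn rfl
    rw [← Category.assoc, hφ, zero_comp] at this
    simp only [Category.assoc, Preadditive.neg_comp, Preadditive.comp_neg] at this ⊢
    exact this.symm)
  have hgn : g.f n = σ.hom ≫ (-(φ ≫ (mappingCone.fst α).1.v n' n hn)) :=
    HomologicalComplex.mkHomFromSingle_f _ _
  let f : S.X n ⟶ F.X n' := σ.hom ≫ φ ≫ (mappingCone.snd α).v n' n' (add_zero n')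
  let β : Cochain S F (-1) := Cochain.single f (-1)
  have heq : δ (-1) 0 β = Cochain.ofHom (g ≫ α) := by
    have h2 := φ ≫= mappingCone.d_snd_v α n' n hn
    rw [← Category.assoc, hφ, zero_comp, Preadditive.comp_add] at h2
    rw [Cochain.δ_single f (-1) 0 (by omega) n' n hn hn]
    refine Cochain.ext₀ _ _ fun p => ?_
    rcases eq_or_ne p n with hp | hp
    · subst hp
      rw [Cochain.add_v, Cochain.units_smul_v, Cochain.single_v,
        Cochain.single_v_eq_zero _ _ p p (add_zero p) (by omega), smul_zero, add_zero, Cochain.ofHom_v,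
        HomologicalComplex.comp_f, hgn]
      simp only [f, Category.assoc, Preadditive.neg_comp]
      exact congrArg (σ.hom ≫ ·) (eq_neg_of_add_eq_zero_right h2.symm)
    · exact (HomologicalComplex.isZero_single_obj_X (ComplexShape.up ℤ) n N p hp).eq_of_src _ _
  let α' := mappingCone.desc g β α heq
  let ι := mappingCone.inr g
  have hfac : ι ≫ α' = α := mappingCone.inr_desc ..
  have hiso : ∀ i, n ≤ i → IsIso (ι.f i) := fun i hi => isIso_inr_f g i
    (HomologicalComplex.isZero_single_obj_X (ComplexShape.up ℤ) n N (i + 1) (by omega))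
  let θ : mappingCone α ⟶ mappingCone α' := mappingCone.map α α' ι (𝟙 F) (by rw [hfac, Category.comp_id])
  have hθf : ∀ p q (h : p + 1 = q), θ.f p = (mappingCone.fst α).1.v p q h ≫ ι.f q ≫
      (mappingCone.inl α').v q p (by omega) +
      (mappingCone.snd α).v p p (add_zero p) ≫ (mappingCone.inr α').f p := fun p q h => by
    simp [θ, mappingCone.map, mappingCone.desc_f _ _ _ _ p q h]
  have hθ : ∀ i, n' ≤ i → IsIso (θ.f i) := fun i hi => by
    haveI := hiso (i + 1) (by omega)
    refine ⟨(mappingCone.fst α').1.v i (i + 1) rfl ≫ inv (ι.f (i + 1)) ≫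
      (mappingCone.inl α).v (i + 1) i (by omega) +
      (mappingCone.snd α').v i i (add_zero i) ≫ (mappingCone.inr α).f i, ?_, ?_⟩
    · rw [hθf i (i + 1) rfl, ← mappingCone.id_X α i (i + 1) rfl]; simp
    · rw [hθf i (i + 1) rfl, ← mappingCone.id_X α' i (i + 1) rfl]; simp
  have h3 : φ ≫ θ.f n' =
      (σ.inv ≫ (mappingCone.inl g).v n n' (by omega) ≫ (mappingCone.inl α').v n' n'' (by omega)) ≫
        (mappingCone α').d n'' n' := by
    have hd : S.d n (n + 1) = 0 :=
      (HomologicalComplex.isZero_single_obj_X (ComplexShape.up ℤ) n N (n + 1) (by omega)).eq_of_tgt _ _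
    rw [hθf n' n hn, Category.assoc, Category.assoc, mappingCone.inl_v_d α' n' n'' n (by omega) (by omega),
      Preadditive.comp_sub, mappingCone.inl_v_desc_f_assoc,
      mappingCone.inl_v_d_assoc g n n' (n + 1) (by omega) (by omega)]
    simp [β, f, hgn, hd, Preadditive.comp_add]
    abel
  refine ⟨mappingCone g, α', fun i => ⟨HomologicalComplex.homotopyCofiber.XIsoBiprod g i (i + 1) rfl⟩,
    fun i hi => ?_⟩
  rcases eq_or_lt_of_le hi with h | h
  · subst h
    let C := mappingCone α
    let C' := mappingCone α'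
    haveI : IsIso (HomologicalComplex.cyclesMap θ n') :=
      ShortComplex.isIso_cyclesMap_of_isIso_of_mono' _ (hθ n' le_rfl)
        (by
          haveI := hθ ((ComplexShape.up ℤ).next n') (by simp)
          exact inferInstanceAs (Mono (θ.f _)))
    have hzero : HomologicalComplex.homologyMap θ n' = 0 := by
      rw [← cancel_epi (C.liftCycles φ n ((CochainComplex.next ℤ n').trans hn) hφ ≫ C.homologyπ n'), comp_zero,
        Category.assoc, HomologicalComplex.homologyπ_naturality, ← Category.assoc,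
        HomologicalComplex.liftCycles_comp_cyclesMap]
      exact C'.liftCycles_homologyπ_eq_zero_of_boundary _ n ((CochainComplex.next ℤ n').trans hn) _ h3
    haveI : Epi (HomologicalComplex.homologyMap θ n') := by
      haveI : Epi (HomologicalComplex.cyclesMap θ n' ≫ C'.homologyπ n') := epi_comp _ _
      rw [← HomologicalComplex.homologyπ_naturality] at *
      exact epi_of_epi (C.homologyπ n') _
    exact IsZero.of_epi_eq_zero _ hzero
  · haveI := hθ (i - 1) (by omega)
    haveI := hθ i hi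
    haveI := hθ (i + 1) (by omega)
    haveI : QuasiIsoAt θ i := by
      rw [quasiIsoAt_iff' _ (i - 1) i (i + 1) (by simp) (by simp)]
      let ψ := (HomologicalComplex.shortComplexFunctor' A (ComplexShape.up ℤ) (i - 1) i (i + 1)).map θ
      haveI : IsIso ψ.τ₁ := hθ (i - 1) (by omega)
      haveI : IsIso ψ.τ₂ := hθ i hi
      haveI : IsIso ψ.τ₃ := hθ (i + 1) (by omega)
      exact ShortComplex.quasiIso_of_epi_of_isIso_of_mono ψ
    exact (hexact i (by omega)).of_iso (isoOfQuasiIsoAt θ i).symm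

end Abelian

variable {X : Scheme.{u}}

open KFlatLib

/-- Lifting a finite type quotient through a bundle. -/
theorem exists_bundle_lift [CompactSpace X] [QuasiSeparatedSpace X] (hX : PerfAux.HasResolutionProperty X)
    {Z H : X.Modules} (hZ : Coh.IsQCoh Z) (hH : Coh.IsQCoh H) (hft : CohB1.IsFT H) (q : Z ⟶ H) [Epi q] :
    ∃ (N : X.Modules) (ψ : N ⟶ Z), FlatMod.IsFinLocFree N ∧ Epi (ψ ≫ q) := by
  classical
  obtain ⟨c, hc⟩ := isCompact_univ.elim_finite_subcover (fun V : X.affineOpens => (V.1 : Set X))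
    (fun V => V.1.2) fun x _ => by
      obtain ⟨_, ⟨V, hV, rfl⟩, hxV, -⟩ := X.isBasis_affineOpens.exists_subset_of_mem_open
        (Set.mem_univ x) isOpen_univ
      exact Set.mem_iUnion.2 ⟨⟨V, hV⟩, hxV⟩
  have hfin : ∀ V : X.affineOpens, ∃ T : Finset Γ(H, V.1),
      Submodule.span Γ(X, V.1) (T : Set Γ(H, V.1)) = ⊤ := fun V =>
    (QCoh.finite_of_isFT hH hft V.2).fg_top
  choose T hT using hfin
  choose l hl using fun V : X.affineOpens => QCoh.app_surjective_of_epi hZ hH q V.2
  obtain ⟨N, ψ, hN, hψ⟩ := DEqLib.Sib.ResProp.exists_sections_finset hX hZ c (fun V => V.1) (fun V => V.2)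
    (fun V => l V '' (T V : Set Γ(H, V.1))) (fun V => (T V).finite_toSet.image _)
  refine ⟨N, ψ, hN, Preadditive.epi_of_cancel_zero _ fun {Q} g hg => ?_⟩
  refine DEqLib.Sib.ResProp.eq_zero_of_affine_cover hH g (fun V : c => V.1.1) (fun V => V.1.2)
    (fun z => ?_) fun V s => ?_
  · obtain ⟨V, hV, hz⟩ := Set.mem_iUnion₂.1 (hc (Set.mem_univ z))
    exact ⟨⟨V, hV⟩, hz⟩
  · have hs : s ∈ Submodule.span Γ(X, V.1.1) (T V.1 : Set Γ(H, V.1.1)) := by
      rw [hT]; trivial
    induction hs using Submodule.span_induction with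
    | mem x hx =>
      obtain ⟨e, he⟩ := hψ V.1 V.2 _ ⟨x, hx, rfl⟩
      rw [← hl V.1 x, ← he]
      exact congr(($hg).app V.1.1 e)
    | zero => exact map_zero _
    | add x y _ _ hx hy => rw [map_add, hx, hy, add_zero]
    | smul a x _ hx => rw [Scheme.Modules.Hom.app_smul, hx, smul_zero]

/-- A perfect object has a global amplitude. -/
theorem exists_amplitude [CompactSpace X] {K : DCoh.D X} (hK : DCoh.IsPerfect K) :
    ∃ m n : ℤ, m ≤ n ∧ DCoh.HasFlatAmplitudeIn m n K := by
  have h := (isPerfect_iff K).1 hK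
  choose U j hj hx P hP hiso using h
  choose a b hb using fun x => (hP x).1
  obtain ⟨t, ht⟩ := isCompact_univ.elim_finite_subcover
    (fun x : X => Set.range (j x).base)
    (fun x => haveI := hj x; (j x).isOpenEmbedding.isOpen_range)
    (fun x _ => Set.mem_iUnion.2 ⟨x, hx x⟩)
  let N : ℕ := ∑ x ∈ t, ((a x).natAbs + (b x).natAbs)
  refine ⟨-(N : ℤ), N, by omega, ((perfectAmplitude_iff K _ _ (by omega)).1 fun y => ?_).2⟩
  obtain ⟨x, hxt, hy⟩ := Set.mem_iUnion₂.1 (ht (Set.mem_univ y))
  have hN : (a x).natAbs + (b x).natAbs ≤ N :=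
    Finset.single_le_sum (f := fun x => (a x).natAbs + (b x).natAbs) (fun _ _ => Nat.zero_le _) hxt
  exact ⟨U x, j x, hj x, hy, P x, fun i hi => hb x i (by omega), (hP x).2, hiso x⟩

/-- Cohomology outside the amplitude vanishes. -/
theorem isZero_hd_of_flatAmplitude {K : DCoh.D X} {m n : ℤ} (h : DCoh.HasFlatAmplitudeIn m n K) (i : ℤ)
    (hi : i < m ∨ n < i) : IsZero (DCoh.HD K i) := by
  obtain ⟨E, hv, -, ⟨e⟩⟩ := h
  exact (ShortComplex.isZero_homology_of_isZero_X₂ _ (hv i hi)).of_iso
    ((DerivedCategory.homologyFunctor X.Modules i).mapIso e.symm ≪≫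
      (DerivedCategory.homologyFunctorFactors X.Modules i).app E)

theorem isQCoh_mappingCone_X {E F : CochainComplex X.Modules ℤ} (α : E ⟶ F) (hE : ∀ i, Coh.IsQCoh (E.X i))
    (hF : ∀ i, Coh.IsQCoh (F.X i)) (i : ℤ) : Coh.IsQCoh ((mappingCone α).X i) :=
  isQCoh_of_iso (HomologicalComplex.homotopyCofiber.XIsoBiprod α i (i + 1) rfl).symm
    (QCoh.isQCoh_X₂ (ShortComplex.Splitting.ofHasBinaryBiproduct (E.X (i + 1)) (F.X i)).shortExact
      (hE (i + 1)) (hF i))

theorem exists_stage [CompactSpace X] [QuasiSeparatedSpace X] (hX : PerfAux.HasResolutionProperty X)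
    {F : CochainComplex X.Modules ℤ} (hFq : ∀ i, Coh.IsQCoh (F.X i))
    (hF : DCoh.IsPerfect (DCoh.toD X F)) (n : ℤ) :
    ∃ (E : CochainComplex X.Modules ℤ) (α : E ⟶ F), DCoh.IsStrictlyPerfect E ∧
      ∀ i, n ≤ i → IsZero ((mappingCone α).homology i) := by
  obtain ⟨p, q, -, hamp⟩ := exists_amplitude hF
  suffices ∀ (k : ℕ), ∃ (E : CochainComplex X.Modules ℤ) (α : E ⟶ F), DCoh.IsStrictlyPerfect E ∧
      ∀ i, q + 1 - k ≤ i → IsZero ((mappingCone α).homology i) by
    obtain ⟨E, α, hE, h⟩ := this (q + 1 - n).toNat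
    exact ⟨E, α, hE, fun i hi => h i (by omega)⟩
  intro k
  induction k with
  | zero =>
    have hz : ∀ i, IsZero ((0 : CochainComplex X.Modules ℤ).X i) := fun i =>
      (HomologicalComplex.eval _ _ i).map_isZero (isZero_zero _)
    refine ⟨0, 0, ⟨⟨0, 0, fun i _ => hz i⟩, fun i => isFinLocFree_of_isZero (hz i)⟩, fun i hi => ?_⟩
    haveI : ∀ i, IsIso ((mappingCone.inr (0 : (0 : CochainComplex X.Modules ℤ) ⟶ F)).f i) :=
      fun i => isIso_inr_f _ i (hz _)
    haveI : IsIso (mappingCone.inr (0 : (0 : CochainComplex X.Modules ℤ) ⟶ F)) :=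
      HomologicalComplex.Hom.isIso_of_components _
    exact ((isZero_hd_of_flatAmplitude hamp i (Or.inr (by omega))).of_iso
      ((DerivedCategory.homologyFunctorFactors X.Modules i).app F).symm).of_iso
      ((HomologicalComplex.homologyFunctor _ _ i).mapIso (asIso (mappingCone.inr _)).symm)
  | succ k ih =>
    obtain ⟨E, α, hE, hex⟩ := ih
    let n := q + 1 - (k : ℤ)
    let n' := n - 1
    let C := mappingCone α
    have hCq : ∀ i, Coh.IsQCoh (C.X i) :=
      isQCoh_mappingCone_X α (fun i => QCoh.isQCoh_of_isFinLocFree (hE.2 i)) hFq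
    let T := DerivedCategory.Q.mapTriangle.obj (mappingCone.triangle α)
    have hT : T ∈ Pretriangulated.distinguishedTriangles :=
      DerivedCategory.mappingCone_triangle_distinguished α
    have hEsp : LocSP (DCoh.toD X E) := fun x => ⟨_, (⊤ : X.Opens).ι, inferInstance, ⟨⟨x, trivial⟩, rfl⟩,
      (rCx (⊤ : X.Opens).ι).obj E, isStrictlyPerfect_restrict _ hE, ⟨((rhoQ _).app E).symm⟩⟩
    have hC : LocPC n' T.obj₃ :=
      locPC_obj₃ T hT (hEsp.locPC _) (((isPerfect_iff _).1 hF).locPC n')
    have hft : CohB1.IsFT (C.homology n') := isFT_of_iso'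
      ((DerivedCategory.homologyFunctorFactors X.Modules n').app C)
      (isFT_top hC fun i hi => (hex i (by omega)).of_iso
        ((DerivedCategory.homologyFunctorFactors X.Modules i).app C))
    have hnext : (ComplexShape.up ℤ).next n' = n := by simp [n']
    let Z := C.cycles n'
    have hZ : Coh.IsQCoh Z := isQCoh_of_iso
      (IsLimit.conePointUniqueUpToIso (kernelIsKernel (C.d n' n)) (C.cyclesIsKernel n' n hnext))
      (QCoh.isQCoh_kernel (hCq n') (hCq n) _)
    have hH : Coh.IsQCoh (C.homology n') := isQCoh_homology_of_terms C hCq n'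
    obtain ⟨N, ψ, hN, hψ⟩ := exists_bundle_lift hX hZ hH hft (C.homologyπ n')
    have hlift : C.liftCycles (ψ ≫ C.iCycles n') n hnext (by rw [Category.assoc, C.iCycles_d, comp_zero]) = ψ := by
      rw [← cancel_mono (C.iCycles n'), HomologicalComplex.liftCycles_i]
    obtain ⟨E', α', hX', hex'⟩ := exists_cone_step α (show n' + 1 = n by omega) hex (ψ ≫ C.iCycles n')
      (by rw [Category.assoc, C.iCycles_d, comp_zero]) (by
        change Epi (C.liftCycles (ψ ≫ C.iCycles n') n hnext _ ≫ C.homologyπ n')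
        rw [hlift]; exact hψ)
    obtain ⟨⟨a, b, hab⟩, hfl⟩ := hE
    refine ⟨E', α', ⟨⟨min a n', max b n', fun i hi => ?_⟩, fun i => ?_⟩, fun i hi => hex' i (by push_cast at hi; omega)⟩
    · exact IsZero.of_iso ((biprod_isZero_iff _ _).2
        ⟨HomologicalComplex.isZero_single_obj_X (ComplexShape.up ℤ) n N (i + 1) (by omega), hab i (by omega)⟩)
        (hX' i).some
    · refine H23.PullPush.isFinLocFree_of_iso (hX' i).some.symm (isFinLocFree_biprod ?_ (hfl i))
      by_cases hi : i + 1 = n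
      · rw [hi]
        exact H23.PullPush.isFinLocFree_of_iso (HomologicalComplex.singleObjXSelf (ComplexShape.up ℤ) n N).symm hN
      · exact isFinLocFree_of_isZero (HomologicalComplex.isZero_single_obj_X (ComplexShape.up ℤ) n N (i + 1) hi)

/-- Strictly perfect resolutions. -/
theorem exists_resolution [CompactSpace X] [QuasiSeparatedSpace X] (hX : PerfAux.HasResolutionProperty X)
    {F : CochainComplex X.Modules ℤ} (hFb : ∃ a : ℤ, ∀ n : ℤ, n < a → IsZero (F.X n))
    (hFq : ∀ i, Coh.IsQCoh (F.X i)) (hF : DCoh.IsPerfect (DCoh.toD X F)) :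
    ∃ (E : CochainComplex X.Modules ℤ) (φ : E ⟶ F), DCoh.IsStrictlyPerfect E ∧ QuasiIso φ := by
  obtain ⟨a, ha⟩ := hFb
  obtain ⟨p, q, hpq, hamp⟩ := exists_amplitude hF
  let m := min a p
  obtain ⟨E, α, ⟨⟨a₀, b₀, hz⟩, hfl⟩, hex⟩ := exists_stage hX hFq hF (m - 1)
  have hpc := (isPcMap_iff_cone (m - 1) α).2 hex
  have hiso : ∀ i, m ≤ i → IsIso (HomologicalComplex.homologyMap α i) := fun i hi =>
    (NatIso.isIso_map_iff (DerivedCategory.homologyFunctorFactors X.Modules i) α).1 (hpc.1 i (by omega))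
  haveI : F.IsStrictlyGE m := (CochainComplex.isStrictlyGE_iff F m).2 fun i hi => ha i (by omega)
  haveI : IsIso (F.πTruncGE m) := (CochainComplex.isIso_πTruncGE_iff F m).2 inferInstance
  haveI hq : QuasiIso (CochainComplex.truncGEMap α m) :=
    (CochainComplex.quasiIso_truncGEMap_iff α m).2 fun i hi =>
      (quasiIsoAt_iff_isIso_homologyMap α i).2 (hiso i hi)
  let P := E.truncGE m
  let φ : P ⟶ F := CochainComplex.truncGEMap α m ≫ inv (F.πTruncGE m)
  haveI : QuasiIso φ := inferInstance
  haveI : IsIso (DerivedCategory.Q.map φ) := isIso_Q_map _ inferInstance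
  let B := max m (max b₀ q)
  have hz' : DCoh.VanishesOutside P m B := by
    rintro i (hi | hi)
    · exact P.isZero_of_isStrictlyGE m i hi
    · exact (hz i (Or.inr (by omega))).of_iso (E.truncGEXIso m i (by omega))
  have hflat' : ∀ i, m < i → FlatMod.IsFlat (P.X i) := fun i hi =>
    IsFlat.of_iso (E.truncGEXIso m i hi).symm (isFlat_of_isFinLocFree (hfl i))
  have hampP : DCoh.HasFlatAmplitudeIn p q (DCoh.toD X P) := by
    obtain ⟨G, hv, hflat, ⟨eG⟩⟩ := hamp
    exact ⟨G, hv, hflat, ⟨eG ≪≫ (asIso (DerivedCategory.Q.map φ)).symm⟩⟩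
  have hbot : FlatMod.IsFlat (P.X m) := isFlat_lowest hz' hflat' @fun G _ =>
    torAmplitude_of_flatAmplitude hampP G (m - 1) (Or.inl (by omega))
  let ec₀ := IsColimit.coconePointUniqueUpToIso (cokernelIsCokernel (E.d (m - 1) m))
    (E.opcyclesIsCokernel (m - 1) m (by simp))
  let ec : cokernel (E.d (m - 1) m) ≅ P.X m := ec₀ ≪≫ (E.truncGEXIsoOpcycles m).symm
  refine ⟨P, φ, ⟨⟨m, B, hz'⟩, fun i => ?_⟩, inferInstance⟩
  rcases lt_trichotomy i m with hi | hi | hi
  · exact isFinLocFree_of_isZero (P.isZero_of_isStrictlyGE m i hi)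
  · subst hi
    exact H23.PullPush.isFinLocFree_of_iso ec
      (isFinLocFree_cokernel _ (hfl _) (hfl _) (IsFlat.of_iso ec.symm hbot))
  · exact H23.PullPush.isFinLocFree_of_iso (E.truncGEXIso m i hi).symm (hfl i)

end Groth.Agent.PerfD40.ResCore
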