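import Groth.Agent.SerreVan45.ProjAffine
import Groth.Agent.BunLib68.Bundle
import Groth.Agent.RefX.QCoh
import Groth.Agent.RefX.Reflexive
import Groth.Agent.KFlatLib.Scheme.TensorAssoc
import Groth.Agent.KFlatLib.Scheme.QCohTensor
import Groth.Agent.KFlatLib.Scheme.InnerHom
import Groth.Agent.KFlatLib.Perfect.Tensor
import Groth.Agent.AmpleVan.AdicBase
import Groth.Agent.QCoh.RpushStalk
import Groth.Agent.QCoh.LocFree
import Groth.Agent.S9716
import Groth.Agent.KFlatLib.Scheme.TildePC
import Groth.Prelude.Def_PerfAux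

/-!
# Descent of the resolution property along finite locally free morphisms
-/

set_option autoImplicit false
set_option linter.style.haveILetI false
set_option backward.isDefEq.respectTransparency false
set_option backward.isDefEq.respectTransparency.types false

universe u

open CategoryTheory CategoryTheory.Limits AlgebraicGeometry TopologicalSpace Opposite

noncomputable section

namespace Groth.Agent.PerfD40.ResDescent

variable {X Y : Scheme.{u}}

/-- Direct images of vector bundles along finite locally free morphisms. -/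
theorem isFinLocFree_push (f : X ⟶ Y) [IsFinite f] [Flat f] [LocallyOfFinitePresentation f]
    {E : X.Modules} (hE : FlatMod.IsFinLocFree E) :
    FlatMod.IsFinLocFree ((Scheme.Modules.pushforward f).obj E) := by
  have hEq := QCoh.isQCoh_of_isFinLocFree hE
  obtain ⟨hEf, hEp⟩ := QCoh.isFlat_and_isFP_iff.2 hE
  have hM := QCoh.isQCoh_pushforward f hEq
  rw [← QCoh.isFlat_and_isFP_iff, QCoh.isFlat_iff hM, QCoh.isFP_iff hM]
  suffices ∀ U : Y.affineOpens, Module.Flat Γ(Y, U.1) Γ((Scheme.Modules.pushforward f).obj E, U.1) ∧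
      Module.FinitePresentation Γ(Y, U.1) Γ((Scheme.Modules.pushforward f).obj E, U.1) from
    ⟨fun U => (this U).1, fun U => (this U).2⟩
  intro U
  let W := f ⁻¹ᵁ U.1
  have hW : IsAffineOpen W := U.2.preimage f
  letI := (f.app U.1).hom.toAlgebra
  haveI := (QCoh.isFP_iff hEq).1 hEp ⟨W, hW⟩
  haveI := (QCoh.isFlat_iff hEq).1 hEf ⟨W, hW⟩
  have h1 := f.finitePresentation_appLE U.2 hW le_rfl
  have h2 := f.flat_appLE U.2 hW le_rfl
  rw [← Scheme.Hom.app_eq_appLE] at h1 h2
  haveI : Algebra.FinitePresentation Γ(Y, U.1) Γ(X, W) := h1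
  haveI : Module.Finite Γ(Y, U.1) Γ(X, W) := IsFinite.finite_app f U.1 U.2
  haveI : Module.Flat Γ(Y, U.1) Γ(X, W) := h2
  haveI : Module.FinitePresentation Γ(Y, U.1) Γ(X, W) :=
    Module.FinitePresentation.of_finite_of_finitePresentation _ _
  letI : Module Γ(Y, U.1) Γ(E, W) := Module.compHom _ (algebraMap Γ(Y, U.1) Γ(X, W))
  haveI : IsScalarTower Γ(Y, U.1) Γ(X, W) Γ(E, W) := .of_algebraMap_smul fun _ _ => rfl
  let e : Γ(E, W) ≃ₗ[Γ(Y, U.1)] Γ((Scheme.Modules.pushforward f).obj E, U.1) :=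
    { toFun := fun x => x
      invFun := fun x => x
      left_inv := fun _ => rfl
      right_inv := fun _ => rfl
      map_add' := fun _ _ => rfl
      map_smul' := fun _ _ => rfl }
  haveI := Module.Flat.trans Γ(Y, U.1) Γ(X, W) Γ(E, W)
  haveI : Module.FinitePresentation Γ(Y, U.1) Γ(E, W) := Module.FinitePresentation.trans Γ(Y, U.1) Γ(E, W) Γ(X, W)
  exact ⟨.of_linearEquiv e.symm, .of_equiv e⟩

/-- Duals of vector bundles are vector bundles, over any scheme. -/
theorem isFinLocFree_dual {F : X.Modules} (hF : FlatMod.IsFinLocFree F) :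
    FlatMod.IsFinLocFree (RefHull.dual F) := by
  obtain ⟨hFf, hFp⟩ := QCoh.isFlat_and_isFP_iff.2 hF
  have hFq := QCoh.isQCoh_of_isFinLocFree hF
  have hOq : Coh.IsQCoh (Coh.structureModule X) := QCoh.isQCoh_structureModule
  have hM : Coh.IsQCoh (RefHull.dual F) := RefX.isQCoh_homSh hFp hOq
  rw [← QCoh.isFlat_and_isFP_iff, QCoh.isFlat_iff hM, QCoh.isFP_iff hM]
  suffices ∀ U : X.affineOpens, Module.Flat Γ(X, U.1) Γ(RefHull.dual F, U.1) ∧
      Module.FinitePresentation Γ(X, U.1) Γ(RefHull.dual F, U.1) from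
    ⟨fun U => (this U).1, fun U => (this U).2⟩
  intro U
  haveI := (QCoh.isFP_iff hFq).1 hFp U
  haveI := (QCoh.isFlat_iff hFq).1 hFf U
  haveI : Module.Projective Γ(X, U.1) Γ(F, U.1) := Module.Flat.projective_of_finitePresentation
  let G := Coh.structureModule X
  haveI : Module.Finite Γ(X, U.1) Γ(G, U.1) := inferInstanceAs (Module.Finite Γ(X, U.1) Γ(X, U.1))
  haveI : Module.Projective Γ(X, U.1) Γ(G, U.1) := inferInstanceAs (Module.Projective Γ(X, U.1) Γ(X, U.1))
  let t : Γ(RefHull.homSh F G, U.1) →ₗ[Γ(X, U.1)] (Γ(F, U.1) →ₗ[Γ(X, U.1)] Γ(G, U.1)) :=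
    { toFun := RefX.toLin
      map_add' := fun a b => LinearMap.ext fun m => ZClosLib.section_ext G _ _ fun y hy => by
        show G.presheaf.germ _ y hy (RefX.app le_rfl (a + b) m) =
          G.presheaf.germ _ y hy (RefX.app le_rfl a m + RefX.app le_rfl b m)
        rw [map_add, RefX.germ_app, RefX.germ_app, RefX.germ_app]; rfl
      map_smul' := fun r a => LinearMap.ext fun m => ZClosLib.section_ext G _ _ fun y hy => by
        show G.presheaf.germ _ y hy (RefX.app le_rfl (r • a) m) = G.presheaf.germ _ y hy (r • RefX.app le_rfl a m)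
        rw [QCoh.germ_smul', RefX.germ_app, RefX.germ_app]; rfl }
  have hinj : Function.Injective t := fun a b h =>
    RefX.toLin_injective hFq U.2 a b fun m => LinearMap.congr_fun h m
  have hsurj : Function.Surjective t := fun θ => by
    have hsm : ∀ (r : Γ(X, U.1)) (m : Γ(F, U.1)), θ (r • m) = AModX.resR (le_refl U.1) r • θ m := fun r m => by
      rw [AModX.resR_self]; exact map_smul θ r m
    let θ' : letI := RefX.resModule G (le_refl U.1); Γ(F, U.1) →ₗ[Γ(X, U.1)] Γ(G, U.1) :=
      letI := RefX.resModule G (le_refl U.1)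
      { toFun := θ
        map_add' := map_add θ
        map_smul' := hsm }
    refine ⟨RefX.ofLin hFq U.2 le_rfl θ', LinearMap.ext fun m => ZClosLib.section_ext G _ _ fun y hy => ?_⟩
    show G.presheaf.germ _ y hy (RefX.app le_rfl _ m) = G.presheaf.germ _ y hy (θ m)
    rw [RefX.germ_app]
    exact RefX.ofLin_germ hFq U.2 le_rfl θ' hy m
  let e : Γ(RefHull.dual F, U.1) ≃ₗ[Γ(X, U.1)] (Γ(F, U.1) →ₗ[Γ(X, U.1)] Γ(G, U.1)) :=
    LinearEquiv.ofBijective t ⟨hinj, hsurj⟩
  have hfp : Module.Finite Γ(X, U.1) (Γ(F, U.1) →ₗ[Γ(X, U.1)] Γ(G, U.1)) ∧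
      Module.Projective Γ(X, U.1) (Γ(F, U.1) →ₗ[Γ(X, U.1)] Γ(G, U.1)) := by
    obtain ⟨n, q, hq⟩ := Module.Finite.exists_fin' Γ(X, U.1) Γ(F, U.1)
    obtain ⟨s, hs⟩ := Module.projective_lifting_property q LinearMap.id hq
    have hret : (LinearMap.lcomp Γ(X, U.1) Γ(G, U.1) s) ∘ₗ (LinearMap.lcomp Γ(X, U.1) Γ(G, U.1) q) = LinearMap.id :=
      LinearMap.ext fun g => by
        show (g ∘ₗ q) ∘ₗ s = g
        rw [LinearMap.comp_assoc, hs, LinearMap.comp_id]
    let eG : ((Fin n → Γ(X, U.1)) →ₗ[Γ(X, U.1)] Γ(G, U.1)) ≃ₗ[Γ(X, U.1)] (Fin n → Γ(G, U.1)) :=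
      (Pi.basisFun Γ(X, U.1) (Fin n)).constr Γ(X, U.1) |>.symm
    haveI : Module.Projective Γ(X, U.1) (Fin n → Γ(G, U.1)) :=
      inferInstanceAs (Module.Projective Γ(X, U.1) (Fin n → Γ(X, U.1)))
    haveI := Module.Projective.of_equiv eG.symm
    haveI := Module.Finite.equiv eG.symm
    exact ⟨Module.Finite.of_surjective (LinearMap.lcomp Γ(X, U.1) Γ(G, U.1) s) (fun g => ⟨_, LinearMap.congr_fun hret g⟩),
      Module.Projective.of_split _ _ hret⟩
  haveI := hfp.1
  haveI := hfp.2
  haveI : Module.FinitePresentation Γ(X, U.1) (Γ(F, U.1) →ₗ[Γ(X, U.1)] Γ(G, U.1)) :=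
    Module.finitePresentation_of_projective _ _
  exact ⟨.of_linearEquiv e, .of_equiv e.symm⟩

/-- The evaluation pairing. -/
def evalBilin (F : X.Modules) : H23.TensorDesc.Bilin (RefHull.dual F) F (Coh.structureModule X) where
  b U θ a := RefX.app le_rfl θ a
  add_left U m m' n := ZClosLib.section_ext _ _ _ fun y hy => by
    rw [map_add, RefX.germ_app, RefX.germ_app, RefX.germ_app]; rfl
  smul_left U r m n := ZClosLib.section_ext _ _ _ fun y hy => by
    rw [QCoh.germ_smul', RefX.germ_app, RefX.germ_app]; rfl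
  add_right U m n n' := RefX.app_add le_rfl m n n'
  smul_right U r m n := RefX.app_smul le_rfl m r n
  res {U V} h m n := ZClosLib.section_ext _ _ _ fun y hy => by
    refine (RefX.germ_res _ h hy _).trans ?_
    rw [RefX.germ_app, RefX.germ_app]
    exact congrArg _ (RefX.germ_res F h hy n).symm

/-- The evaluation map `dual F ⊗ F ⟶ O`. -/
def evalDual (F : X.Modules) : CohB1.tensorMod (RefHull.dual F) F ⟶ Coh.structureModule X :=
  H23.TensorDesc.desc (evalBilin F)

/-- Epimorphisms are detected on stalks. -/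
theorem epi_of_stalkMap_surjective {M N : X.Modules} (φ : M ⟶ N)
    (h : ∀ x, Function.Surjective (RefHull.stalkMapₗ φ x)) : Epi φ := by
  refine Preadditive.epi_of_cancel_zero _ fun {W} g hg => QCoh.hom_ext_app fun U n => ?_
  refine ZClosLib.section_ext W _ _ fun x hx => ?_
  obtain ⟨m, hm⟩ := h x (N.presheaf.germ U x hx n)
  obtain ⟨V, hV, m', rfl⟩ := TopCat.Presheaf.exists_germ_eq M.presheaf m
  rw [RefHull.stalkMapₗ_germ] at hm
  refine (RefHull.stalkMapₗ_germ g x hx n).symm.trans ?_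
  rw [← hm, RefHull.stalkMapₗ_germ]
  exact (congrArg _ (congr(($hg).app V m'))).trans ((map_zero _).trans (map_zero _).symm)

/-- Evaluation is onto for nowhere zero bundles. -/
theorem epi_evalDual {F : X.Modules} (hF : FlatMod.IsFinLocFree F)
    (hne : ∀ x, Nontrivial (F.presheaf.stalk x)) : Epi (evalDual F) := by
  refine epi_of_stalkMap_surjective _ fun x => ?_
  haveI := QCoh.free_stalk_of_isFinLocFree hF x
  haveI := BunLib68.finite_stalk hF x
  haveI := hne x
  let b := Module.Free.chooseBasis (X.presheaf.stalk x) (F.presheaf.stalk x)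
  obtain ⟨i⟩ : Nonempty (Module.Free.ChooseBasisIndex (X.presheaf.stalk x) (F.presheaf.stalk x)) :=
    b.index_nonempty
  obtain ⟨θ₀, hθ₀⟩ := (BunLib68.evalStalk_bij (G := Coh.structureModule X) hF x).2
    ((RefX.unitStalk x).toLinearMap.comp (b.coord i))
  obtain ⟨U, hxU, θ, rfl⟩ := TopCat.Presheaf.exists_germ_eq (RefHull.dual F).presheaf θ₀
  obtain ⟨U', hxU', a, ha⟩ := TopCat.Presheaf.exists_germ_eq F.presheaf (b i)
  let V := U ⊓ U'
  let θ' := AModX.res (RefHull.dual F) (inf_le_left : V ≤ U) θ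
  let a' := AModX.res F (inf_le_right : V ≤ U') a
  have hxV : x ∈ V := ⟨hxU, hxU'⟩
  have h1 : RefHull.stalkMapₗ (evalDual F) x ((CohB1.tensorMod (RefHull.dual F) F).presheaf.germ V x hxV
      (SecTwist.tmul (RefHull.dual F) F V θ' a')) = RefX.unitStalk x 1 := by
    rw [RefHull.stalkMapₗ_germ]
    refine (congrArg _ (H23.TensorDesc.desc_tmul (evalBilin F) V θ' a')).trans ?_
    show (Coh.structureModule X).presheaf.germ V x hxV (RefX.app le_rfl θ' a') = _
    rw [RefX.germ_app, RefX.germ_res, ha]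
    rw [RefHull.evalStalk_germ] at hθ₀
    refine (LinearMap.congr_fun hθ₀ (b i)).trans ?_
    simp
  intro z
  obtain ⟨r, rfl⟩ := (RefX.unitStalk x).surjective z
  exact ⟨r • _, by rw [map_smul, h1, ← map_smul, smul_eq_mul, mul_one]⟩

/-- The direct image of the structure sheaf of a surjective finite locally free morphism is nowhere zero. -/
theorem nontrivial_stalk_push (f : X ⟶ Y) [Surjective f] (y : Y) :
    Nontrivial (((Scheme.Modules.pushforward f).obj (Coh.structureModule X)).presheaf.stalk y) := by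
  obtain ⟨x, rfl⟩ := f.surjective y
  let M := (Scheme.Modules.pushforward f).obj (Coh.structureModule X)
  refine ⟨⟨M.presheaf.germ ⊤ (f x) (Opens.mem_top _) (show Γ(M, ⊤) from (1 : Γ(X, f ⁻¹ᵁ ⊤))), 0, fun h => ?_⟩⟩
  rw [← map_zero (M.presheaf.germ ⊤ (f x) (Opens.mem_top _)).hom] at h
  obtain ⟨W, hW, i₁, i₂, h1⟩ := TopCat.Presheaf.germ_eq M.presheaf (f x) (Opens.mem_top _) (Opens.mem_top _) _ _ h
  haveI : Nontrivial Γ(X, f ⁻¹ᵁ W) := (X.presheaf.germ (f ⁻¹ᵁ W) x hW).hom.domain_nontrivial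
  refine one_ne_zero (α := Γ(X, f ⁻¹ᵁ W)) ?_
  have h2 := h1.trans (map_zero _)
  rw [← h2]
  exact (map_one (X.presheaf.map _).hom).symm

/-- The resolution property descends. -/
theorem resolutionProperty_descends (f : X ⟶ Y) [IsFinite f] [Flat f] [LocallyOfFinitePresentation f]
    [Surjective f] (hX : PerfAux.HasResolutionProperty X) : PerfAux.HasResolutionProperty Y := by
  intro F hFq hFt
  let O := Coh.structureModule X
  let A := (Scheme.Modules.pushforward f).obj O
  have hOq : Coh.IsQCoh O := QCoh.isQCoh_structureModule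
  have hA : FlatMod.IsFinLocFree A :=
    ((S9716.result f).2 ⟨inferInstance, inferInstance, inferInstance⟩).2
  let P := (DCoh.tensorBi.obj O).obj ((Scheme.Modules.pullback f).obj F)
  let eP : P ≅ (Scheme.Modules.pullback f).obj F := KFlatLib.structureTensorIso _
  have hPq : Coh.IsQCoh P := KFlatLib.isQCoh_tensor hOq (QCoh.isQCoh_pullback f hFq)
  haveI hPt : CohB1.IsFT P := by
    have h := QCoh.isFT_pullback f hFq hFt
    exact KFlatLib.isFT_of_iso' eP.symm h
  obtain ⟨E, π, hE, hπ⟩ := hX P hPq hPt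
  haveI := hπ
  haveI : Epi ((Scheme.Modules.pushforward f).map π) :=
    AmpleVan.epi_push f (QCoh.isQCoh_of_isFinLocFree hE) hPq π
  haveI : IsIso (KFlatLib.projMod f O F) := SerreVan45.isIso_projMod f O F hOq hFq
  let D := RefHull.dual A
  let p : (Scheme.Modules.pushforward f).obj E ⟶ (DCoh.tensorBi.obj A).obj F :=
    (Scheme.Modules.pushforward f).map π ≫ inv (KFlatLib.projMod f O F)
  haveI : Epi p := inferInstance
  haveI : PreservesColimitsOfSize.{u, u} (DCoh.tensorBi.obj D) := ⟨fun {K} _ => inferInstance⟩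
  haveI := KFlatLib.preservesColimitsOfSize_tensorBi_flip F
  haveI : Epi (evalDual A) := epi_evalDual hA (nontrivial_stalk_push f)
  haveI : Epi ((DCoh.tensorBi.flip.obj F).map (evalDual A)) := Functor.map_epi _ _
  haveI : Epi ((DCoh.tensorBi.obj D).map p) := Functor.map_epi _ _
  refine ⟨(DCoh.tensorBi.obj D).obj ((Scheme.Modules.pushforward f).obj E),
    (DCoh.tensorBi.obj D).map p ≫ ((((KFlatLib.tensorAssocSch Y).app D).app A).app F).inv ≫
      (DCoh.tensorBi.flip.obj F).map (evalDual A) ≫ (KFlatLib.structureTensorIso F).hom,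
    KFlatLib.isFinLocFree_tensor (isFinLocFree_dual hA) (isFinLocFree_push f hE), inferInstance⟩

end Groth.Agent.PerfD40.ResDescent
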