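import Groth.Agent.PerfD40.RpushPerfect
import Groth.Agent.PerfD40.RelAmpStalk
import Groth.Agent.QCoh.ProperOver

/-!
# Perfectness of `Rf_*` for coherent objects of locally finite relative tor dimension
-/

set_option linter.style.haveILetI false
set_option backward.isDefEq.respectTransparency false

universe u

open CategoryTheory CategoryTheory.Limits AlgebraicGeometry TopologicalSpace

attribute [local instance] HasDerivedCategory.standard

namespace Groth.Agent.PerfD40

open Groth.Agent.KFlatLib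

variable {X Y : Scheme.{u}}

lemma isProperOver_mono {f : X ⟶ Y} {Z C : Set X} (h : ClSub.IsProperOver f Z) (hC : IsClosed C)
    (hs : C ⊆ Z) : ClSub.IsProperOver f C := by
  obtain ⟨hZ, hp⟩ := h
  haveI := hp
  exact QCoh.isProperOver_of_subset (Scheme.IdealSheafData.vanishingIdeal ⟨Z, hZ⟩).subschemeι hC
    (by rw [QCoh.range_vanishing]; exact hs)

/-- A subset proper over the base is proper over it inside every open containing it. -/
lemma isProperOver_preimage {f : X ⟶ Y} {Z : Set X} (h : ClSub.IsProperOver f Z) (U : X.Opens)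
    (hZU : Z ⊆ (U : Set X)) : ClSub.IsProperOver (U.ι ≫ f) (U.ι ⁻¹' Z) := by
  obtain ⟨hZ, hp⟩ := h
  let i := (Scheme.IdealSheafData.vanishingIdeal ⟨Z, hZ⟩).subschemeι
  haveI := hp
  have hr : Set.range i ⊆ Set.range U.ι := by
    rw [QCoh.range_vanishing, Scheme.Opens.range_ι]
    exact hZU
  let l := IsOpenImmersion.lift U.ι i hr
  have hl : l ≫ U.ι = i := IsOpenImmersion.lift_fac _ _ _
  haveI : IsClosedImmersion l := by
    haveI : IsClosedImmersion (l ≫ U.ι) := by rw [hl]; infer_instance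
    exact IsClosedImmersion.of_comp l U.ι
  haveI : IsProper (l ≫ U.ι ≫ f) := by rw [← Category.assoc, hl]; exact hp
  refine QCoh.isProperOver_of_subset l (hZ.preimage U.ι.continuous) fun z hz => ?_
  have hz' : U.ι z ∈ Set.range i := by rw [QCoh.range_vanishing]; exact hz
  obtain ⟨w, hw⟩ := hz'
  refine ⟨w, U.ι.isOpenEmbedding.injective ?_⟩
  rw [← Scheme.Hom.comp_apply, hl, hw]

lemma isCompact_of_isProperOver [CompactSpace Y] {f : X ⟶ Y} {Z : Set X}
    (h : ClSub.IsProperOver f Z) : IsCompact Z := by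
  obtain ⟨hZ, hp⟩ := h
  haveI := hp
  haveI : CompactSpace (Scheme.IdealSheafData.vanishingIdeal ⟨Z, hZ⟩).subscheme :=
    QuasiCompact.compactSpace_of_compactSpace
      ((Scheme.IdealSheafData.vanishingIdeal ⟨Z, hZ⟩).subschemeι ≫ f)
  have hk := isCompact_range (Scheme.IdealSheafData.vanishingIdeal ⟨Z, hZ⟩).subschemeι.continuous
  exact (congrArg IsCompact (QCoh.range_vanishing hZ)).mp hk

/-- `Rf_*` of a coherent object of locally finite relative tor dimension with support in a set
proper over the base is perfect. -/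
theorem isPerfect_rpush_of_locRelTor [IsNoetherian Y] (f : X ⟶ Y) [LocallyOfFiniteType f]
    [DCoh.HasRpush f] (K : DCoh.D X) (hc : DCoh.IsCohD K) (Z : Set X)
    (hZ : ClSub.IsProperOver f Z) (hs : ∀ i : ℤ, CohB1.support (DCoh.HD K i) ⊆ Z)
    (hrel : DCoh.LocHasFiniteRelTorDim f K) : DCoh.IsPerfect ((DCoh.Rpush f).obj K) := by
  haveI : IsLocallyNoetherian X := LocallyOfFiniteType.isLocallyNoetherian f
  obtain ⟨t, ht⟩ := (isCompact_of_isProperOver hZ).elim_finite_subcover
    (fun W : X.affineOpens => (W.1 : Set X)) (fun W => W.1.2) fun x _ => by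
      obtain ⟨W, hW, hx, -⟩ := exists_isAffineOpen_mem_and_subset (x := x) (U := ⊤) trivial
      exact Set.mem_iUnion.2 ⟨⟨W, hW⟩, hx⟩
  let U : X.Opens := ⟨⋃ W ∈ t, (W.1 : Set X), isOpen_biUnion fun W _ => W.1.2⟩
  have hUk : IsCompact (U : Set X) := t.finite_toSet.isCompact_biUnion fun W _ => W.2.isCompact
  haveI : CompactSpace (U : Scheme.{u}) := isCompact_iff_compactSpace.1 hUk
  haveI : IsLocallyNoetherian (U : Scheme.{u}) := LocallyOfFiniteType.isLocallyNoetherian (U.ι ≫ f)
  haveI := hasRpush_scheme (U.ι ≫ f)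
  haveI := hasRpush_scheme U.ι
  obtain ⟨θ⟩ := nonempty_iso_rpush_restrict U Z hZ.1 ht K hs
  let E := (DCoh.restrictD U.ι).obj K
  let F := DerivedCategory.Q.objPreimage E
  let eF : DCoh.toD (U : Scheme.{u}) F ≅ E := repIso E
  have hrelU : DCoh.LocHasFiniteRelTorDim (U.ι ≫ f) (DCoh.toD (U : Scheme.{u}) F) :=
    locRelTor_of_iso _ (locRelTor_restrict f U.ι _ rfl hrel) eF.symm
  obtain ⟨a, b, hF⟩ := hasFiniteTorAmplitude_of_loc _ (locFiniteTorAmplitude_of_locRelTor _ F hrelU)
  have hcU : DCoh.IsCohD (DCoh.toD (U : Scheme.{u}) F) := isCohD_of_iso eF.symm fun i =>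
    isCoh_of_iso (hdRestrictIso U.ι K i).symm (isCoh_restrict U.ι (hc i))
  have hsuppU : ∀ i, ClSub.IsProperOver (U.ι ≫ f)
      (CohB1.support (DCoh.HD (DCoh.toD (U : Scheme.{u}) F) i)) := fun i => by
    refine isProperOver_mono (isProperOver_preimage hZ U ht)
      (QCoh.isClosed_support_of_isFT (hcU i).1 (hcU i).2) fun u hu => hs i ?_
    intro hne
    refine hu ?_
    have e₁ := ((DerSch.stalkFunctor (U : Scheme.{u}) u).mapIso
      ((DerivedCategory.homologyFunctor (U : Scheme.{u}).Modules i).mapIso eF ≪≫ hdRestrictIso U.ι K i))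
    have e₂ := ((Scheme.Modules.restrictStalkNatIso U.ι u).app (DCoh.HD K i)).addCommGroupIsoToAddEquiv
    haveI : Subsingleton (((Scheme.Modules.restrictFunctor U.ι).obj (DCoh.HD K i)).presheaf.stalk u) :=
      @Equiv.subsingleton _ _ e₂.toEquiv hne
    exact @Equiv.subsingleton _ _ e₁.toLinearEquiv.toEquiv this
  obtain ⟨A, B, hAB⟩ : ∃ A B : ℤ, ∀ i, i < A ∨ B < i →
      IsZero (DCoh.HD (DCoh.toD (U : Scheme.{u}) F) i) := by
    refine ⟨a, b, fun i hi => ?_⟩
    refine IsZero.of_iso ?_ ((DerivedCategory.homologyFunctorFactors (U : Scheme.{u}).Modules i).app F)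
    refine isZero_of_stalk _ fun u => ?_
    haveI : (DerSch.stalkFunctor (U : Scheme.{u}) u).PreservesHomology :=
      Functor.preservesHomology_of_map_exact _ fun T hT => (exact_iff_stalk T).1 hT u
    obtain ⟨T, hT, -, ⟨eT⟩⟩ := hF u
    let G := (stalkCx u).obj F
    have hz : IsZero (((DerSch.stalkCxOver (U.ι ≫ f) u).obj F).homology i) :=
      (ShortComplex.isZero_homology_of_isZero_X₂ _ (hT i hi)).of_iso
        (((DerivedCategory.homologyFunctorFactors _ i).app _).symm ≪≫
          (DerivedCategory.homologyFunctor _ i).mapIso eT.symm ≪≫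
          (DerivedCategory.homologyFunctorFactors _ i).app _)
    have h₃ : IsZero ((ModuleCat.restrictScalars ((U.ι ≫ f).stalkMap u).hom).obj
        ((DerSch.stalkFunctor (U : Scheme.{u}) u).obj (F.homology i))) :=
      hz.of_iso ((ModuleCat.restrictScalars _).mapIso
          ((F.sc i).mapHomologyIso (DerSch.stalkFunctor (U : Scheme.{u}) u)).symm ≪≫
        ((G.sc i).mapHomologyIso (ModuleCat.restrictScalars _)).symm)
    haveI := ModuleCat.subsingleton_of_isZero h₃
    exact @ModuleCat.isZero_of_subsingleton _ _ _ (this : Subsingleton _)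
  haveI : (DCoh.toD (U : Scheme.{u}) F).IsGE A :=
    (DerivedCategory.isGE_iff _ A).2 fun i hi => hAB i (Or.inl hi)
  haveI : (DCoh.toD (U : Scheme.{u}) F).IsLE B :=
    (DerivedCategory.isLE_iff _ B).2 fun i hi => hAB i (Or.inr hi)
  have hp := isPerfect_rpush_of_coh_torAmplitude (U.ι ≫ f) F hcU A B hsuppU hF
  exact isPerfect_of_iso' (((nonempty_rpush_comp U.ι f).some.app _).symm ≪≫
    (DCoh.Rpush f).mapIso ((DCoh.Rpush U.ι).mapIso eF ≪≫ θ.symm)) hp

end Groth.Agent.PerfD40
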