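import Mathlib.RingTheory.LocalRing.Module
import Mathlib.RingTheory.LocalProperties.Projective
import Mathlib.Algebra.Module.LocalizedModule.Exact
import Mathlib.RingTheory.Nakayama
import Mathlib.LinearAlgebra.Projection
import Mathlib.RingTheory.Localization.AtPrime.Basic

/-!
# Cokernels of maps with a one-dimensional fibre kernel spanned by a torsion-free global element
-/

set_option autoImplicit false
set_option linter.style.haveILetI false

universe u

open TensorProduct

namespace Groth.Agent.PerfD40.SplitAlg

variable {R : Type u} [CommRing R] [IsLocalRing R] {N Q C : Type u} [AddCommGroup N] [Module R N]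
  [Module.Finite R N] [AddCommGroup Q] [Module R Q] [Module.Finite R Q] [Module.Free R Q]
  [AddCommGroup C] [Module R C]

open IsLocalRing in
/-- The local statement. -/
theorem free_of_kernel (d : N →ₗ[R] Q) (q : Q →ₗ[R] C) (hex : Function.Exact d q)
    (hq : Function.Surjective q) (e : N) (hde : d e = 0) (he : ∀ r : R, r • e = 0 → r = 0) (g : N)
    (hg : ∀ x : N, d x ∈ maximalIdeal R • (⊤ : Submodule R Q) →
      ∃ c : R, x - c • g ∈ maximalIdeal R • (⊤ : Submodule R N)) :
    Module.Free R C := by
  classical
  let k := ResidueField R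
  let mk : Q →ₗ[R] k ⊗[R] Q := TensorProduct.mk R k Q 1
  obtain ⟨b, hbs, hspan, hli⟩ := exists_linearIndependent k (Set.range fun x => mk (d x))
  haveI : Fintype b := (hli.setFinite).fintype
  choose n hn using fun i : b => hbs i.2
  let φ : (b → R) →ₗ[R] N := Fintype.linearCombination R n
  have hkey : ∀ v : b → R, mk (d (φ v)) = ∑ i, residue R (v i) • (i : k ⊗[R] Q) := fun v => by
    simp only [φ, Fintype.linearCombination_apply, map_sum, map_smul]
    refine Finset.sum_congr rfl fun i _ => ?_
    rw [show mk (d (n i)) = (i : k ⊗[R] Q) from hn i]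
    exact (algebraMap_smul k (v i) (i : k ⊗[R] Q)).symm
  let l := d ∘ₗ φ
  have hinj : Function.Injective (l.lTensor k) := by
    rw [← LinearMap.ker_eq_bot, Submodule.eq_bot_iff]
    intro z hz
    obtain ⟨v, rfl⟩ := TensorProduct.mk_surjective R (b → R) k residue_surjective z
    have h0 : ∑ i, residue R (v i) • (i : k ⊗[R] Q) = 0 := by
      rw [← hkey]; exact hz
    have hv : ∀ i, v i ∈ maximalIdeal R := fun i =>
      (residue_eq_zero_iff _).1 (Fintype.linearIndependent_iff.1 hli _ h0 i)
    show (1 : k) ⊗ₜ[R] v = 0
    rw [pi_eq_sum_univ v, TensorProduct.tmul_sum]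
    refine Finset.sum_eq_zero fun i _ => ?_
    rw [← TensorProduct.smul_tmul, show v i • (1 : k) = 0 by
      rw [Algebra.smul_def, mul_one]; exact (residue_eq_zero_iff _).2 (hv i), TensorProduct.zero_tmul]
  obtain ⟨π, hπ⟩ := (IsLocalRing.split_injective_iff_lTensor_residueField_injective l).2 hinj
  have hπ' : ∀ v, π (d (φ v)) = v := fun v => LinearMap.congr_fun hπ v
  have htop : (⊤ : Submodule R N) ≤ LinearMap.range φ ⊔ Submodule.span R {g} := by
    refine Submodule.le_of_le_smul_of_le_jacobson_bot Module.Finite.fg_top
      (le_of_eq (jacobson_eq_maximalIdeal ⊥ bot_ne_top).symm) fun x _ => ?_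
    have hx : mk (d x) ∈ Submodule.span k b := hspan ▸ Submodule.subset_span ⟨x, rfl⟩
    obtain ⟨c, hc⟩ := Submodule.mem_span_range_iff_exists_fun k |>.1
      (show mk (d x) ∈ Submodule.span k (Set.range fun i : b => (i : k ⊗[R] Q)) by
        rwa [Subtype.range_coe_subtype, Set.ofPred_mem_eq])
    choose v hv using fun i => residue_surjective (c i)
    have h0 : mk (d (x - φ v)) = 0 := by
      rw [map_sub, map_sub, hkey, ← hc]
      simp only [hv, sub_self]
    obtain ⟨a, ha⟩ := hg (x - φ v) (by
      rw [← Submodule.Quotient.mk_eq_zero]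
      have := (congrArg (quotTensorEquivQuotSMul Q (maximalIdeal R)) h0).trans
        (LinearEquiv.map_zero (quotTensorEquivQuotSMul Q (maximalIdeal R)))
      rwa [show mk (d (x - φ v)) = (Ideal.Quotient.mk (maximalIdeal R) 1) ⊗ₜ[R] (d (x - φ v)) from rfl,
        quotTensorEquivQuotSMul_mk_tmul, one_smul] at this)
    rw [show x = (φ v + a • g) + (x - φ v - a • g) by abel]
    exact Submodule.add_mem_sup (Submodule.add_mem_sup ⟨v, rfl⟩ (Submodule.smul_mem _ a
      (Submodule.mem_span_singleton_self g))) ha
  have hdec : ∀ x, ∃ (v : b → R) (a : R), x = φ v + a • g := fun x => by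
    obtain ⟨_, ⟨v, rfl⟩, _, hz, rfl⟩ := Submodule.mem_sup.1 (htop (Submodule.mem_top : x ∈ ⊤))
    obtain ⟨a, rfl⟩ := Submodule.mem_span_singleton.1 hz
    exact ⟨v, a, rfl⟩
  obtain ⟨v, a, rfl⟩ := hdec e
  let g' := g - φ (π (d g))
  have hg' : π (d g') = 0 := by simp only [g', map_sub, hπ', sub_self]
  have hv : v + a • π (d g) = 0 := by
    have h1 := congrArg π hde
    simpa only [map_add, map_smul, hπ', map_zero] using h1
  have he' : φ v + a • g = a • g' := by
    have h2 := congrArg φ hv
    rw [map_add, map_smul, map_zero] at h2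
    simp only [g', smul_sub]
    rw [eq_neg_of_add_eq_zero_left h2]
    abel
  have ha : ∀ r : R, r * a = 0 → r = 0 := fun r hr => he r (by rw [he', smul_smul, hr, zero_smul])
  have hdg' : d g' = 0 := by
    have h1 : a • d g' = 0 := by rw [← map_smul, ← he', hde]
    let B := Module.Free.chooseBasis R Q
    refine B.repr.injective (Finsupp.ext fun i => ?_)
    rw [map_zero, Finsupp.zero_apply]
    refine ha _ ?_
    have := congrArg (fun z => B.repr z i) h1
    simpa only [map_smul, Finsupp.smul_apply, smul_eq_mul, map_zero, Finsupp.zero_apply, mul_comm] using this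
  have hrange : LinearMap.range d = LinearMap.range l := by
    refine le_antisymm ?_ (LinearMap.range_comp_le_range φ d)
    rintro _ ⟨x, rfl⟩
    obtain ⟨v, a, rfl⟩ := hdec x
    refine ⟨v + a • π (d g), ?_⟩
    have : d g = d (φ (π (d g))) := sub_eq_zero.1 ((map_sub d _ _).symm.trans hdg')
    simp only [l, LinearMap.comp_apply, map_add, map_smul, ← this]
  exact Module.free_of_lTensor_residueField_injective l q hq (fun y => by
    rw [hex y, ← LinearMap.coe_range, ← LinearMap.coe_range, hrange]) hinj

/-- The global statement. -/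
theorem projective_of_kernel {A : Type u} [CommRing A] {N Q C : Type u} [AddCommGroup N] [Module A N]
    [Module.Finite A N] [AddCommGroup Q] [Module A Q] [Module.Finite A Q] [Module.Projective A Q]
    [AddCommGroup C] [Module A C] (d : N →ₗ[A] Q) (q : Q →ₗ[A] C) (hex : Function.Exact d q)
    (hq : Function.Surjective q) (e : N) (hde : d e = 0) (he : ∀ r : A, r • e = 0 → r = 0)
    (hg : ∀ m : Ideal A, m.IsMaximal → ∃ g : N, ∀ x : N, d x ∈ m • (⊤ : Submodule A Q) →
      ∃ c : A, x - c • g ∈ m • (⊤ : Submodule A N)) : Module.Projective A C := by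
  haveI : Module.FinitePresentation A Q := Module.finitePresentation_of_projective A Q
  haveI : Module.FinitePresentation A C := Module.finitePresentation_of_surjective q hq (by
    rw [LinearMap.exact_iff.1 hex]
    rw [LinearMap.range_eq_map]
    exact Module.Finite.fg_top.map d)
  refine Module.projective_of_localization_maximal fun m hm => ?_
  haveI := hm
  let S := m.primeCompl
  let Aₘ := Localization.AtPrime m
  haveI : Module.Free Aₘ (LocalizedModule S Q) := Module.free_of_flat_of_isLocalRing
  let dl := LocalizedModule.map S d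
  let ql := LocalizedModule.map S q
  obtain ⟨g, hg⟩ := hg m hm
  have hmap : ∀ (x : N) (s : S), dl (LocalizedModule.mk x s) = LocalizedModule.mk (d x) s := fun x s =>
    IsLocalizedModule.map_LocalizedModules S d x s
  have hmax : ∀ {M : Type u} [AddCommGroup M] [Module A M] (z : LocalizedModule S M),
      z ∈ IsLocalRing.maximalIdeal Aₘ • (⊤ : Submodule Aₘ (LocalizedModule S M)) ↔
        z ∈ Submodule.localized S (m • (⊤ : Submodule A M)) := fun {M} _ _ z => by
    rw [← Localization.AtPrime.map_eq_maximalIdeal, Submodule.localized, Submodule.localized'_smul,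
      Submodule.localized'_top, ← Ideal.localized'_eq_map (Localization S) S]
  haveI : Module.Free Aₘ (LocalizedModule S C) :=
    free_of_kernel dl ql (LocalizedModule.map_exact S d q hex) (LocalizedModule.map_surjective S q hq)
      (LocalizedModule.mk e 1) (by rw [hmap, hde, LocalizedModule.zero_mk])
      (fun r hr => by
        induction r using Localization.induction_on with
        | H p =>
          obtain ⟨r, s⟩ := p
          rw [LocalizedModule.mk_smul_mk, ← LocalizedModule.zero_mk (1 : S), LocalizedModule.mk_eq] at hr
          obtain ⟨t, ht⟩ := hr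
          rw [mul_one] at *
          rw [Localization.mk_eq_mk', IsLocalization.mk'_eq_zero_iff]
          refine ⟨t, he _ ?_⟩
          simpa [mul_smul, Submonoid.smul_def] using ht)
      (LocalizedModule.mk g 1) (fun z hz => by
        induction z using LocalizedModule.induction_on with
        | h x s =>
          rw [hmap, hmax, Submodule.mem_localized'] at hz
          obtain ⟨y, hy, t, ht⟩ := hz
          rw [← IsLocalizedModule.mk_eq_mk', LocalizedModule.mk_eq] at ht
          obtain ⟨v, hv⟩ := ht
          obtain ⟨c, hc⟩ := hg ((v * t : S) • x) (by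
            simp only [Submonoid.smul_def, map_smul, mul_smul] at hv ⊢
            rw [← hv]
            exact Submodule.smul_mem _ _ (Submodule.smul_mem _ _ hy))
          refine ⟨Localization.mk c (v * t * s), (hmax _).2 ((Submodule.mem_localized' ..).2
            ⟨_, hc, v * t * s, ?_⟩)⟩
          rw [← IsLocalizedModule.mk_eq_mk', LocalizedModule.mk_smul_mk, sub_eq_add_neg, sub_eq_add_neg,
            ← LocalizedModule.mk_neg, LocalizedModule.mk_add_mk, LocalizedModule.mk_eq]
          refine ⟨1, ?_⟩
          simp only [one_smul, Submonoid.smul_def, Submonoid.coe_mul, mul_one, smul_add,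
            smul_neg, smul_smul]
          congr 2 <;> ring_nf)
  infer_instance

end Groth.Agent.PerfD40.SplitAlg

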