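import Groth.Agent.PerfD40.SplitAlg
import Groth.Agent.H9Misc.DRingPerfAmp
import Mathlib.Algebra.Homology.DerivedCategory.KProjective
import Mathlib.Algebra.Homology.DerivedCategory.FullyFaithful

/-!
# Splitting off `A` from a complex of finite projective modules
-/

set_option autoImplicit false
set_option linter.style.haveILetI false
set_option backward.isDefEq.respectTransparency false
set_option backward.isDefEq.respectTransparency.types false

universe u

open CategoryTheory CategoryTheory.Limits TensorProduct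
open scoped ChangeOfRings
open CategoryTheory.Pretriangulated

attribute [local instance] HasDerivedCategory.standard

noncomputable section

namespace Groth.Agent.PerfD40.SplitDRing

variable {A : Type u} [CommRing A]

/-- Reduction of a complex modulo an ideal. -/
abbrev redCx (m : Ideal A) :
    CochainComplex (ModuleCat.{u} A) ℤ ⥤ CochainComplex (ModuleCat.{u} (A ⧸ m)) ℤ :=
  (ModuleCat.extendScalars.{u, u, u} (Ideal.Quotient.mk m)).mapHomologicalComplex (ComplexShape.up ℤ)

lemma one_tmul_eq_zero_iff (m : Ideal A) (M : ModuleCat.{u} A) (x : M) :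
    ((1 : A ⧸ m) ⊗ₜ[A, Ideal.Quotient.mk m] x : (ModuleCat.extendScalars (Ideal.Quotient.mk m)).obj M) = 0 ↔
      x ∈ m • (⊤ : Submodule A M) := by
  rw [← Submodule.Quotient.mk_eq_zero, ← (quotTensorEquivQuotSMul M m).map_eq_zero_iff]
  have h := quotTensorEquivQuotSMul_mk_tmul (I := m) (M := M) (1 : A) x
  rw [one_smul] at h
  exact Iff.of_eq (congrArg (· = 0) h)

lemma exists_one_tmul (m : Ideal A) (M : ModuleCat.{u} A)
    (z : (ModuleCat.extendScalars (Ideal.Quotient.mk m)).obj M) :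
    ∃ x : M, ((1 : A ⧸ m) ⊗ₜ[A, Ideal.Quotient.mk m] x : (ModuleCat.extendScalars (Ideal.Quotient.mk m)).obj M) = z :=
  TensorProduct.mk_surjective A M (A ⧸ m) Ideal.Quotient.mk_surjective z

/-- A generator of the reduced cycles. -/
theorem exists_generator (m : Ideal A) [m.IsMaximal] (E : CochainComplex (ModuleCat.{u} A) ℤ)
    (β : ((redCx m).obj E).homology 0 ≅ ModuleCat.of (A ⧸ m) (A ⧸ m)) :
    ∃ g : E.X 0, ∀ x : E.X 0, (E.d 0 1) x ∈ m • (⊤ : Submodule A (E.X 1)) →
      ∃ c : A, x - c • g ∈ LinearMap.range (E.d (-1) 0).hom ⊔ m • (⊤ : Submodule A (E.X 0)) := by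
  let E' := (redCx m).obj E
  let S := E'.sc' (-1) 0 1
  let σ : S.moduleCatLeftHomologyData.H ≅ ModuleCat.of (A ⧸ m) (A ⧸ m) :=
    S.moduleCatHomologyIso.symm ≪≫ (E'.homologyIsoSc' (-1) 0 1 (by simp) (by simp)).symm ≪≫ β
  obtain ⟨⟨w, hw⟩, hz⟩ := Submodule.Quotient.mk_surjective _ (σ.inv (1 : A ⧸ m))
  obtain ⟨g, rfl⟩ := exists_one_tmul m (E.X 0) w
  refine ⟨g, fun x hx => ?_⟩
  have hker : ((1 : A ⧸ m) ⊗ₜ[A, Ideal.Quotient.mk m] x :
      (ModuleCat.extendScalars (Ideal.Quotient.mk m)).obj (E.X 0)) ∈ LinearMap.ker S.g.hom :=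
    LinearMap.mem_ker.2 ((one_tmul_eq_zero_iff m (E.X 1) _).2 hx)
  obtain ⟨c, hc⟩ := Ideal.Quotient.mk_surjective (σ.hom (Submodule.Quotient.mk ⟨_, hker⟩))
  refine ⟨c, ?_⟩
  have hx' : (Submodule.Quotient.mk ⟨_, hker⟩ : S.moduleCatLeftHomologyData.H) =
      (Ideal.Quotient.mk m c) • Submodule.Quotient.mk ⟨_, hw⟩ := by
    apply σ.toLinearEquiv.injective
    rw [map_smul, hz]
    show σ.hom _ = Ideal.Quotient.mk m c • σ.hom (σ.inv 1)
    rw [Iso.inv_hom_id_apply, smul_eq_mul, mul_one, hc]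
  rw [← Submodule.Quotient.mk_smul, Submodule.Quotient.eq] at hx'
  obtain ⟨v, hv⟩ := hx'
  obtain ⟨v₀, rfl⟩ := exists_one_tmul m (E.X (-1)) v
  have hv' := congrArg Subtype.val hv
  have h0 : ((1 : A ⧸ m) ⊗ₜ[A, Ideal.Quotient.mk m] (x - c • g - E.d (-1) 0 v₀) :
      (ModuleCat.extendScalars (Ideal.Quotient.mk m)).obj (E.X 0)) = 0 := by
    rw [TensorProduct.tmul_sub, TensorProduct.tmul_sub, TensorProduct.tmul_smul]
    refine sub_eq_zero.2 (Eq.trans ?_ hv'.symm)
    show _ = _ - Ideal.Quotient.mk m c • _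
    congr 1
  have := (one_tmul_eq_zero_iff m (E.X 0) _).1 h0
  rw [show x - c • g = E.d (-1) 0 v₀ + (x - c • g - E.d (-1) 0 v₀) by abel]
  exact Submodule.add_mem_sup ⟨v₀, rfl⟩ this

theorem ker_pOpcycles (E : CochainComplex (ModuleCat.{u} A) ℤ) (i j : ℤ) (h : i + 1 = j) :
    Function.Exact (E.d i j).hom (E.pOpcycles j).hom :=
  (ShortComplex.ShortExact.moduleCat_exact_iff_function_exact _).1
    (ShortComplex.exact_of_g_is_cokernel (ShortComplex.mk _ _ (E.d_pOpcycles i j))
      (E.opcyclesIsCokernel i j (by simpa using (by omega : j - 1 = i))))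

/-- The first truncation is a complex of finite projective modules. -/
theorem projective_opcycles_one (E : CochainComplex (ModuleCat.{u} A) ℤ)
    (hf : ∀ i, Module.Finite A (E.X i) ∧ Module.Projective A (E.X i))
    (α : E.homology 0 ≅ ModuleCat.of A A)
    (hfib : ∀ m : Ideal A, m.IsMaximal →
      Nonempty (((redCx m).obj E).homology 0 ≅ ModuleCat.of (A ⧸ m) (A ⧸ m))) :
    Module.Projective A (E.opcycles 1) := by
  haveI := fun i => (hf i).1
  haveI := fun i => (hf i).2
  have hp : ∀ i, Function.Surjective (E.pOpcycles i).hom := fun i => (ModuleCat.epi_iff_surjective _).1 inferInstance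
  haveI : Module.Finite A (E.opcycles 0) := Module.Finite.of_surjective _ (hp 0)
  have hp0 : ∀ x, E.fromOpcycles 0 1 (E.pOpcycles 0 x) = E.d 0 1 x := fun x =>
    ConcreteCategory.congr_hom (E.p_fromOpcycles 0 1) x
  have hex : Function.Exact (E.fromOpcycles 0 1).hom (E.pOpcycles 1).hom := fun y => by
    rw [ker_pOpcycles E 0 1 rfl y]
    exact ⟨fun ⟨x, hx⟩ => ⟨_, (hp0 x).trans hx⟩, fun ⟨n, hn⟩ => by
      obtain ⟨x, rfl⟩ := hp 0 n
      exact ⟨x, (hp0 x).symm.trans hn⟩⟩
  refine SplitAlg.projective_of_kernel _ _ hex (hp 1) (E.homologyι 0 (α.inv (1 : A)))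
    (ConcreteCategory.congr_hom (E.homologyι_comp_fromOpcycles 0 1) _) (fun r hr => ?_) (fun m hm => ?_)
  · have h1 : E.homologyι 0 (α.inv (r • (1 : A))) = E.homologyι 0 (α.inv (0 : A)) := by
      simpa only [map_smul, map_zero] using hr
    have h2 := (ConcreteCategory.bijective_of_isIso α.inv).1
      ((ModuleCat.mono_iff_injective (E.homologyι 0)).1 inferInstance h1)
    simpa using h2
  · haveI := hm
    obtain ⟨g, hg⟩ := exists_generator m E (hfib m hm).some
    refine ⟨E.pOpcycles 0 g, fun y hy => ?_⟩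
    obtain ⟨x, rfl⟩ := hp 0 y
    rw [hp0] at hy
    obtain ⟨c, hc⟩ := hg x hy
    refine ⟨c, ?_⟩
    rw [← map_smul, ← map_sub]
    obtain ⟨_, ⟨v, rfl⟩, z, hz, h⟩ := Submodule.mem_sup.1 hc
    rw [← h, map_add, show E.pOpcycles 0 (E.d (-1) 0 v) = 0 from
      ConcreteCategory.congr_hom (E.d_pOpcycles (-1) 0) v, zero_add]
    have := Submodule.mem_map_of_mem (f := (E.pOpcycles 0).hom) hz
    rw [Submodule.map_smul''] at this
    exact Submodule.smul_mono le_rfl le_top this

/-- The splitting. -/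
theorem exists_split (E : CochainComplex (ModuleCat.{u} A) ℤ) {a b : ℤ}
    (hz : ∀ i, i < a ∨ b < i → IsZero (E.X i))
    (hf : ∀ i, Module.Finite A (E.X i) ∧ Module.Projective A (E.X i))
    (hneg : ∀ i : ℤ, i < 0 → IsZero (E.homology i))
    (α : E.homology 0 ≅ ModuleCat.of A A)
    (hfib : ∀ m : Ideal A, m.IsMaximal →
      Nonempty (((redCx m).obj E).homology 0 ≅ ModuleCat.of (A ⧸ m) (A ⧸ m))) :
    ∃ (R : CochainComplex (ModuleCat.{u} A) ℤ) (B : ℤ), (∀ i, i < 1 ∨ B < i → IsZero (R.X i)) ∧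
      (∀ i, Module.Finite A (R.X i) ∧ Module.Projective A (R.X i)) ∧
      Nonempty (DerivedCategory.Q.obj E ≅
        (DerivedCategory.singleFunctor (ModuleCat.{u} A) 0).obj (ModuleCat.of A A) ⊞ DerivedCategory.Q.obj R) := by
  haveI := projective_opcycles_one E hf α hfib
  haveI := fun i => (hf i).1
  haveI := fun i => (hf i).2
  haveI : Module.Finite A (E.opcycles 1) :=
    Module.Finite.of_surjective _ ((ModuleCat.epi_iff_surjective (E.pOpcycles 1)).1 inferInstance)
  let R := E.truncGE 1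
  let B := max b 1
  have hzR : ∀ i, i < 1 ∨ B < i → IsZero (R.X i) := fun i hi => hi.elim
    (fun h => CochainComplex.isZero_of_isStrictlyGE R 1 i h)
    fun h => (hz i (Or.inr (by omega))).of_iso (E.truncGEXIso 1 i (by omega))
  have hfR : ∀ i, Module.Finite A (R.X i) ∧ Module.Projective A (R.X i) := fun i => by
    rcases lt_trichotomy i 1 with hi | rfl | hi
    · haveI := ModuleCat.subsingleton_of_isZero (hzR i (Or.inl hi))
      exact ⟨inferInstance, inferInstance⟩
    · exact ⟨Module.Finite.equiv (E.truncGEXIsoOpcycles 1).symm.toLinearEquiv,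
        Module.Projective.of_equiv (E.truncGEXIsoOpcycles 1).symm.toLinearEquiv⟩
    · exact ⟨Module.Finite.equiv (E.truncGEXIso 1 i hi).symm.toLinearEquiv,
        Module.Projective.of_equiv (E.truncGEXIso 1 i hi).symm.toLinearEquiv⟩
  haveI : ∀ i, Projective (R.X i) := fun i => (IsProjective.iff_projective (R.X i)).1 (hfR i).2
  haveI : R.IsStrictlyLE B := (CochainComplex.isStrictlyLE_iff R B).2 fun i hi => hzR i (Or.inr hi)
  haveI : R.IsKProjective := CochainComplex.isKProjective_of_projective R B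
  have hS := E.shortComplexTruncLE_shortExact 0
  let T := DerivedCategory.triangleOfSES hS
  let eR : T.obj₃ ≅ DerivedCategory.Q.obj R :=
    asIso (DerivedCategory.Q.map (E.shortComplexTruncLEX₃ToTruncGE 0 1 (by omega)))
  let Z := E.truncLE 0
  have h3 : T.mor₃ = 0 := by
    let Zs := (shiftFunctor (CochainComplex (ModuleCat.{u} A) ℤ) (1 : ℤ)).obj Z
    haveI : Zs.IsStrictlyLE (-1) := CochainComplex.isStrictlyLE_shift Z 0 1 (-1) (by omega)
    let σ := ((DerivedCategory.Q (C := ModuleCat.{u} A)).commShiftIso (1 : ℤ)).app Z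
    suffices eR.inv ≫ T.mor₃ ≫ σ.inv = 0 by
      rwa [← cancel_epi eR.inv, ← cancel_mono σ.inv, comp_zero, zero_comp, Category.assoc]
    let qi := DerivedCategory.quotientCompQhIso (ModuleCat.{u} A)
    obtain ⟨u', hu⟩ := (CochainComplex.IsKProjective.Qh_map_bijective R
      ((HomotopyCategory.quotient _ _).obj Zs)).2 (qi.hom.app R ≫ (eR.inv ≫ T.mor₃ ≫ σ.inv) ≫ qi.inv.app Zs)
    obtain ⟨v, rfl⟩ := (HomotopyCategory.quotient _ _).map_surjective u'
    have : v = 0 := by
      ext i : 1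
      rcases lt_or_ge i 1 with hi | hi
      · exact (hzR i (Or.inl hi)).eq_of_src _ _
      · exact (CochainComplex.isZero_of_isStrictlyLE Zs (-1) i (by omega)).eq_of_tgt _ _
    rw [this, Functor.map_zero, Functor.map_zero] at hu
    rw [← cancel_epi (qi.hom.app R), ← cancel_mono (qi.inv.app Zs), comp_zero, zero_comp, Category.assoc, ← hu]
  obtain ⟨e, -, -⟩ := exists_iso_binaryBiproduct_of_distTriang T
    (DerivedCategory.triangleOfSES_distinguished hS) h3
  have hiso : ∀ i, i ≤ 0 → Nonempty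
      ((DerivedCategory.homologyFunctor (ModuleCat.{u} A) i).obj T.obj₁ ≅ E.homology i) := fun i hi => by
    haveI := E.quasiIsoAt_ιTruncLE 0 i hi
    exact ⟨(DerivedCategory.homologyFunctorFactors _ i).app Z ≪≫ isoOfQuasiIsoAt (E.ιTruncLE 0) i⟩
  haveI : T.obj₁.IsLE 0 := inferInstanceAs ((DerivedCategory.Q.obj Z).IsLE 0)
  haveI : T.obj₁.IsGE 0 := (DerivedCategory.isGE_iff _ 0).2 fun i hi =>
    (hneg i hi).of_iso (hiso i (by omega)).some
  obtain ⟨Y, ⟨eY⟩⟩ := DerivedCategory.exists_iso_singleFunctor_obj_of_isGE_of_isLE T.obj₁ 0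
  let eYA : Y ≅ ModuleCat.of A A :=
    ((DerivedCategory.singleFunctorCompHomologyFunctorIso (ModuleCat.{u} A) 0).app Y).symm ≪≫
      (DerivedCategory.homologyFunctor _ 0).mapIso eY.symm ≪≫ (hiso 0 le_rfl).some ≪≫ α
  exact ⟨R, B, hzR, hfR, ⟨e ≪≫
    biprod.mapIso (eY ≪≫ (DerivedCategory.singleFunctor _ 0).mapIso eYA) eR⟩⟩

end Groth.Agent.PerfD40.SplitDRing
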