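import Groth.Agent.PerfD40.SplitDRing
import Groth.Agent.PerfD40.FlatProper
import Groth.Agent.PerfD40.ConstFibres
import Groth.Agent.KFlatLib.Scheme.TildePerf
import Groth.Agent.KFlatLib.Scheme.TildePull
import Groth.Agent.KFlatLib.Scheme.RpushQCoh
import Groth.Agent.KFlatLib.Scheme.RGammaPush
import Groth.Agent.SurfInt.Curve
import Groth.Agent.KFlatLib.Scheme.ProjCx

/-!
# Splitting of `Rf_*O` for proper flat morphisms with constant functions on the fibres
-/

set_option autoImplicit false
set_option linter.style.haveILetI false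
set_option backward.isDefEq.respectTransparency false
set_option backward.isDefEq.respectTransparency.types false

universe u

open CategoryTheory CategoryTheory.Limits AlgebraicGeometry TopologicalSpace

attribute [local instance] HasDerivedCategory.standard

noncomputable section

namespace Groth.Agent.PerfD40.SplitRpush

open Groth.Agent.KFlatLib

attribute [local instance] hasLpull hasRpush_scheme

variable {X Y : Scheme.{u}}

/-- The structure sheaf in degree zero. -/
abbrev oD (X : Scheme.{u}) : DCoh.D X := DCoh.inD X (Coh.structureModule X)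

/-- The derived pullback of the structure sheaf. -/
theorem nonempty_lpull_oD (f : X ⟶ Y) : Nonempty ((DCoh.Lpull f).obj (oD Y) ≅ oD X) := by
  let C := (CochainComplex.singleFunctor Y.Modules 0).obj (Coh.structureModule Y)
  have hz : DCoh.VanishesOutside C 0 0 := fun i hi =>
    HomologicalComplex.isZero_single_obj_X (ComplexShape.up ℤ) 0 _ i (by omega)
  have hflat : ∀ i, FlatMod.IsFlat (C.X i) := fun i => by
    by_cases hi : i = 0
    · subst hi
      exact isFlat_of_iso' (HomologicalComplex.singleObjXSelf (ComplexShape.up ℤ) 0 _).symm isFlat_structureModule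
    · intro x
      haveI : Subsingleton ((DerSch.stalkFunctor Y x).obj (C.X i) : Type u) :=
        ModuleCat.subsingleton_of_isZero ((DerSch.stalkFunctor Y x).map_isZero
          (HomologicalComplex.isZero_single_obj_X (ComplexShape.up ℤ) 0 _ i hi))
      exact (inferInstance : Module.Flat (Y.presheaf.stalk x) ((DerSch.stalkFunctor Y x).obj (C.X i) : Type u))
  haveI := isIso_lpullComparison f (isKFlat_of_vanishesOutside hz hflat)
  haveI : IsIso (SheafOfModules.pullbackObjUnitToUnit f.toRingCatSheafHom) := inferInstance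
  let e : (Scheme.Modules.pullback f).obj (Coh.structureModule Y) ≅ Coh.structureModule X :=
    asIso (SheafOfModules.pullbackObjUnitToUnit f.toRingCatSheafHom)
  let eS : (pullCx f).obj C ≅ (CochainComplex.singleFunctor X.Modules 0).obj (Coh.structureModule X) :=
    (HomologicalComplex.singleMapHomologicalComplex (Scheme.Modules.pullback f) _ 0).app _ ≪≫
      (HomologicalComplex.single _ _ 0).mapIso e
  exact ⟨(DCoh.Lpull f).mapIso ((DerivedCategory.singleFunctorIsoCompQ Y.Modules 0).app _) ≪≫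
    asIso ((lpullComparison f).app C) ≪≫ DerivedCategory.Q.mapIso eS ≪≫
    ((DerivedCategory.singleFunctorIsoCompQ X.Modules 0).app _).symm⟩

/-- The structure sheaf on a spectrum. -/
theorem nonempty_oD_spec (R : CommRingCat.{u}) [PreservesFiniteLimits (tilde.functor R)] :
    Nonempty (oD (Spec R) ≅ (DCoh.tildeD R).obj
      ((DerivedCategory.singleFunctor (ModuleCat.{u} R) 0).obj (ModuleCat.of R R))) :=
  ⟨(DerivedCategory.singleFunctor (Spec R).Modules 0).mapIso tildeSelf.symm ≪≫
      (((tilde.functor R).mapDerivedCategorySingleFunctor 0).app _).symm⟩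

theorem isPerfect_oD_spec (R : CommRingCat.{u}) [PreservesFiniteLimits (tilde.functor R)] :
    DCoh.IsPerfect (oD (Spec R)) := by
  obtain ⟨e⟩ := nonempty_oD_spec R
  refine isPerfect_of_iso' e.symm ((perfect_tildeD_iff _).2
    ⟨(CochainComplex.singleFunctor (ModuleCat.{u} R) 0).obj (ModuleCat.of R R), 0, 0, fun i hi =>
      HomologicalComplex.isZero_single_obj_X (ComplexShape.up ℤ) 0 _ i (by omega), fun i => ?_,
      ⟨((DerivedCategory.singleFunctorIsoCompQ (ModuleCat.{u} R) 0).app _).symm⟩⟩)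
  by_cases hi : i = 0
  · subst hi
    let s := (HomologicalComplex.singleObjXSelf (ComplexShape.up ℤ) 0 (ModuleCat.of R R)).toLinearEquiv
    haveI : Module.Finite R (ModuleCat.of R R) := inferInstanceAs (Module.Finite R R)
    haveI : Module.Projective R (ModuleCat.of R R) := inferInstanceAs (Module.Projective R R)
    exact ⟨Module.Finite.equiv s.symm, Module.Projective.of_equiv s.symm⟩
  · haveI : Subsingleton (((CochainComplex.singleFunctor (ModuleCat.{u} R) 0).obj (ModuleCat.of R R)).X i) :=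
      ModuleCat.subsingleton_of_isZero
      (HomologicalComplex.isZero_single_obj_X (ComplexShape.up ℤ) 0 (ModuleCat.of R R) i hi)
    haveI : Module.Free R (((CochainComplex.singleFunctor (ModuleCat.{u} R) 0).obj (ModuleCat.of R R)).X i) :=
      Module.Free.of_subsingleton R _
    haveI : Finite (((CochainComplex.singleFunctor (ModuleCat.{u} R) 0).obj (ModuleCat.of R R)).X i) :=
      Finite.of_subsingleton
    exact ⟨Module.Finite.of_finite, Module.Projective.of_free⟩

/-- `f_* O = O` gives the degree zero cohomology of the derived direct image. -/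
theorem nonempty_hd_zero_rpush_oD (f : X ⟶ Y) [QuasiCompact f] [QuasiSeparated f]
    (h : ∀ V : Y.Opens, Function.Bijective (f.app V)) :
    Nonempty (DCoh.HD ((DCoh.Rpush f).obj (oD X)) 0 ≅ Coh.structureModule Y) := by
  haveI : HasInjectiveResolutions X.Modules := hasInjectiveResolutions_modules
  obtain ⟨e⟩ := nonempty_hd_rpush_single f (Coh.structureModule X) 0
  haveI : IsIso (ClSub.unitToPush f) := Scheme.Modules.Hom.isIso_iff_isIso_app.2 fun U => by
    rw [ConcreteCategory.isIso_iff_bijective]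
    exact h U
  exact ⟨e ≪≫ (Scheme.Modules.pushforward f).rightDerivedZeroIsoSelf.app _ ≪≫
    (asIso (ClSub.unitToPush f)).symm⟩

/-- Constant functions on all field-valued fibres. -/
def ConstOnFields (f : X ⟶ Y) : Prop :=
  ∀ (K : Type u) [Field K] (g : Spec (CommRingCat.of K) ⟶ Y), Function.Bijective (pullback.snd f g).appTop

theorem ConstOnFields.of_isPullback {X' Y' : Scheme.{u}} {g' : X' ⟶ X} {f' : X' ⟶ Y'} {f : X ⟶ Y} {g : Y' ⟶ Y}
    (h : ConstOnFields f) (H : IsPullback g' f' f g) : ConstOnFields f' := fun K _ a =>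
  ConstFibres.bijective_of_isPullback ((IsPullback.of_hasPullback f' a).paste_horiz H) (h K (a ≫ g))

theorem ConstOnFields.bijective_app {f : X ⟶ Y} [IsProper f] [Flat f] [LocallyOfFinitePresentation f]
    (h : ConstOnFields f) (V : Y.Opens) : Function.Bijective (f.app V) :=
  ConstFibres.bijective_app_of_fibres f (fun s => h (Y.residueField s) (Y.fromSpecResidueField s)) V

variable {R : CommRingCat.{u}} [PreservesFiniteLimits (tilde.functor R)]

theorem nonempty_hd_tildeD (E : CochainComplex (ModuleCat.{u} R) ℤ) {K : DCoh.D (Spec R)}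
    (e : (DCoh.tildeD R).obj (DerivedCategory.Q.obj E) ≅ K) (i : ℤ) :
    Nonempty (DCoh.HD K i ≅ (tilde.functor R).obj (E.homology i)) :=
  ⟨(DerivedCategory.homologyFunctor (Spec R).Modules i).mapIso e.symm ≪≫
    (mapDCHomologyIso (tilde.functor R) i).app _ ≪≫
    (tilde.functor R).mapIso ((DerivedCategory.homologyFunctorFactors _ i).app E)⟩

/-- The reduced complex computes the pullback to a closed point. -/
theorem nonempty_lpull_tildeD_red (m : Ideal R) (E : CochainComplex (ModuleCat.{u} R) ℤ) {a b : ℤ}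
    [PreservesFiniteLimits (tilde.functor (CommRingCat.of (R ⧸ m)))]
    (hz : ∀ i, i < a ∨ b < i → IsZero (E.X i)) (hf : ∀ i, Module.Flat R (E.X i)) :
    Nonempty ((DCoh.Lpull (Spec.map (CommRingCat.ofHom (Ideal.Quotient.mk m)))).obj
        ((DCoh.tildeD R).obj (DerivedCategory.Q.obj E)) ≅
      (DCoh.tildeD (CommRingCat.of (R ⧸ m))).obj (DerivedCategory.Q.obj ((SplitDRing.redCx m).obj E))) := by
  let g : R ⟶ CommRingCat.of (R ⧸ m) := CommRingCat.ofHom (Ideal.Quotient.mk m)
  let tA : CochainComplex (ModuleCat.{u} R) ℤ ⥤ CochainComplex (Spec R).Modules ℤ :=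
    (tilde.functor R).mapHomologicalComplex (ComplexShape.up ℤ)
  let tB : CochainComplex (ModuleCat.{u} (R ⧸ m)) ℤ ⥤ CochainComplex (Spec (CommRingCat.of (R ⧸ m))).Modules ℤ :=
    (tilde.functor (CommRingCat.of (R ⧸ m))).mapHomologicalComplex (ComplexShape.up ℤ)
  haveI := isIso_lpullComparison (Spec.map g) (isKFlat_of_vanishesOutside (E := tA.obj E)
    (fun i hi => (tilde.functor R).map_isZero (hz i hi)) (fun i => (isFlat_tilde_iff _).2 (hf i)))
  let e₃ : tB.obj ((SplitDRing.redCx m).obj E) ≅ (pullCx (Spec.map g)).obj (tA.obj E) :=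
    HomologicalComplex.Hom.isoOfComponents
      (fun n => ((QCoh.tildePullbackIso g).symm.app (E.X n)))
      (fun i j _ => ((QCoh.tildePullbackIso g).inv.naturality (E.d i j)).symm)
  exact ⟨(DCoh.Lpull (Spec.map g)).mapIso (toDTildeIso E) ≪≫ asIso ((lpullComparison (Spec.map g)).app _) ≪≫
    DerivedCategory.Q.mapIso e₃.symm ≪≫ (toDTildeIso (R := CommRingCat.of (R ⧸ m)) _).symm⟩

/-- The affine case. -/
theorem exists_split_of_spec (f : X ⟶ Spec R) [IsProper f] [Flat f] [LocallyOfFinitePresentation f] (h : ConstOnFields f) :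
    ∃ (P : DCoh.D (Spec R)) (b : ℤ), DCoh.IsPerfect P ∧ DCoh.HasFlatAmplitudeIn 1 b P ∧
      Nonempty ((DCoh.Rpush f).obj (oD X) ≅ oD (Spec R) ⊞ P) := by
  haveI : (DCoh.tildeD R).Full := ⟨fun f => (tildeD_map_bijective _ _).2 f⟩
  haveI : (DCoh.tildeD R).Faithful := ⟨fun h => (tildeD_map_bijective _ _).1 h⟩
  obtain ⟨eO⟩ := nonempty_lpull_oD f
  have hO : DCoh.IsPerfect (oD X) := isPerfect_of_iso' eO (isPerfect_lpull f (isPerfect_oD_spec R))
  have hq : DCoh.IsQCohD (oD X) := isQCohD_of_isPerfect hO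
  let K := (DCoh.Rpush f).obj (oD X)
  have hK : DCoh.IsPerfect K := isPerfect_rpush_of_flat_proper f hO
  obtain ⟨M, ⟨eM⟩⟩ := exists_tildeD_iso (isQCohD_of_isPerfect hK)
  obtain ⟨E, a, b, hz, hf, ⟨eE⟩⟩ := (perfect_tildeD_iff M).1 (isPerfect_of_iso' eM.symm hK)
  let e : (DCoh.tildeD R).obj (DerivedCategory.Q.obj E) ≅ K := (DCoh.tildeD R).mapIso eE ≪≫ eM
  have hneg : ∀ i : ℤ, i < 0 → IsZero (E.homology i) := fun i hi => by
    have h1 : IsZero ((tilde.functor R).obj (E.homology i)) :=
      (isZero_hd_rpush_of_lt f (oD X) 0 i hi).of_iso (nonempty_hd_tildeD E e i).some.symm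
    rw [IsZero.iff_id_eq_zero] at h1 ⊢
    exact (tilde.functor R).map_injective
      (((tilde.functor R).map_id _).trans (h1.trans ((tilde.functor R).map_zero _ _).symm))
  obtain ⟨e0⟩ := nonempty_hd_zero_rpush_oD f h.bijective_app
  let α : E.homology 0 ≅ ModuleCat.of R R :=
    (tilde.functor R).preimageIso ((nonempty_hd_tildeD E e 0).some.symm ≪≫ e0 ≪≫ tildeSelf.symm)
  have hfib : ∀ m : Ideal R, m.IsMaximal →
      Nonempty (((SplitDRing.redCx m).obj E).homology 0 ≅ ModuleCat.of (R ⧸ m) (R ⧸ m)) := fun m hm => by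
    haveI := hm
    let S := CommRingCat.of (R ⧸ m)
    haveI : PreservesFiniteLimits (tilde.functor (CommRingCat.of (R ⧸ m))) :=
      @QCoh.tilde_preservesFiniteLimits (CommRingCat.of (R ⧸ m))
    haveI : (tilde.functor S).Full := tilde.fullyFaithfulFunctor.full
    haveI : (tilde.functor S).Faithful := tilde.fullyFaithfulFunctor.faithful
    let g : Spec S ⟶ Spec R := Spec.map (CommRingCat.ofHom (Ideal.Quotient.mk m))
    have H := IsPullback.of_hasPullback f g
    obtain ⟨eb⟩ := (BC.bcAt_of_flat H hq).nonempty_iso H.w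
    obtain ⟨eO'⟩ := nonempty_lpull_oD (pullback.fst f g)
    obtain ⟨er⟩ := nonempty_lpull_tildeD_red m E hz fun i => haveI := (hf i).2; inferInstance
    obtain ⟨e1⟩ := nonempty_hd_zero_rpush_oD (pullback.snd f g) (h.of_isPullback H).bijective_app
    let e' : (DCoh.tildeD S).obj (DerivedCategory.Q.obj ((SplitDRing.redCx m).obj E)) ≅
        (DCoh.Rpush (pullback.snd f g)).obj (oD (pullback f g)) :=
      er.symm ≪≫ (DCoh.Lpull g).mapIso e ≪≫ eb ≪≫ (DCoh.Rpush _).mapIso eO'
    exact ⟨(tilde.functor S).preimageIso ((nonempty_hd_tildeD (R := S) _ e' 0).some.symm ≪≫ e1 ≪≫ tildeSelf.symm)⟩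
  obtain ⟨R', B, hzR, hfR, ⟨eS⟩⟩ := SplitDRing.exists_split E hz hf hneg α hfib
  refine ⟨(DCoh.tildeD R).obj (DerivedCategory.Q.obj R'), B,
    (perfect_tildeD_iff _).2 ⟨R', 1, B, hzR, hfR, ⟨Iso.refl _⟩⟩,
    (flatAmplitude_tildeD_iff _ 1 B).2 ⟨R', hzR, fun i => haveI := (hfR i).2; inferInstance, ⟨Iso.refl _⟩⟩, ?_⟩
  haveI := preservesBinaryBiproducts_of_preservesBiproducts (DCoh.tildeD R)
  exact ⟨e.symm ≪≫ (DCoh.tildeD R).mapIso eS ≪≫ (DCoh.tildeD R).mapBiprod _ _ ≪≫
    biprod.mapIso (nonempty_oD_spec R).some.symm (Iso.refl _)⟩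

/-- The splitting over an affine open. -/
theorem exists_split_restrict {S : Scheme.{u}} (f : X ⟶ S) [IsProper f] [Flat f]
    [LocallyOfFinitePresentation f] (h : ConstOnFields f) {V : S.Opens} (hV : IsAffineOpen V) :
    ∃ (P : DCoh.D (V : Scheme.{u})) (b : ℤ), DCoh.IsPerfect P ∧ DCoh.HasTorAmplitudeIn 1 b P ∧
      Nonempty ((DCoh.Rpush (f ∣_ V)).obj (oD (f ⁻¹ᵁ V : Scheme.{u})) ≅ oD (V : Scheme.{u}) ⊞ P) := by
  let a := hV.isoSpec.hom
  let fA := pullback.snd f hV.fromSpec
  have H3 := IsPullback.of_hasPullback f hV.fromSpec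
  have hsq : IsPullback (f ⁻¹ᵁ V).ι (f ∣_ V) f V.ι := (isPullback_morphismRestrict f V).flip
  have ha : a ≫ hV.fromSpec = V.ι := hV.isoSpec_hom_fromSpec
  let m := H3.lift (f ⁻¹ᵁ V).ι ((f ∣_ V) ≫ a) (by rw [Category.assoc, ha]; exact hsq.w)
  have H4 : IsPullback m (f ∣_ V) fA a :=
    IsPullback.of_right (by rw [H3.lift_fst, ha]; exact hsq) (H3.lift_snd _ _ _) H3
  haveI : IsProper fA := MorphismProperty.of_isPullback H3 inferInstance
  haveI : Flat fA := MorphismProperty.of_isPullback H3 inferInstance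
  haveI : LocallyOfFinitePresentation fA := MorphismProperty.of_isPullback H3 inferInstance
  obtain ⟨P, b, hP, hamp, ⟨e⟩⟩ := exists_split_of_spec fA (h.of_isPullback H3)
  obtain ⟨eY⟩ := nonempty_lpull_oD fA
  have hq : DCoh.IsQCohD (oD (pullback f hV.fromSpec)) :=
    isQCohD_of_isPerfect (isPerfect_of_iso' eY (isPerfect_lpull fA (isPerfect_oD_spec _)))
  obtain ⟨eb⟩ := (BC.bcAt_of_flat H4 hq).nonempty_iso H4.w
  obtain ⟨eO⟩ := nonempty_lpull_oD m
  obtain ⟨eV⟩ := nonempty_lpull_oD a
  haveI : (DCoh.Lpull a).Additive := (BC.semiExact_lpull a).1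
  haveI := preservesBinaryBiproducts_of_preservesBiproducts (DCoh.Lpull a)
  exact ⟨(DCoh.Lpull a).obj P, b, isPerfect_lpull a hP,
    torAmplitude_of_flatAmplitude (flatAmplitude_lpull a hamp),
    ⟨(DCoh.Rpush (f ∣_ V)).mapIso eO.symm ≪≫ eb.symm ≪≫ (DCoh.Lpull a).mapIso e ≪≫
      (DCoh.Lpull a).mapBiprod _ _ ≪≫ biprod.mapIso eV (Iso.refl _)⟩⟩

end Groth.Agent.PerfD40.SplitRpush
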