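import Groth.Agent.PerfD40.SumShift
import Groth.Agent.KFlatLib.Perfect.Amplitude

/-!
# A perfect object plus a shifted vector bundle extends from an open of an affine scheme
-/

set_option linter.style.haveILetI false

universe u

open CategoryTheory CategoryTheory.Limits AlgebraicGeometry Pretriangulated

attribute [local instance] HasDerivedCategory.standard

namespace Groth.Agent.PerfD40

open Groth.Agent.KFlatLib

section Tri

variable {C : Type*} [Category C] [Preadditive C] [HasZeroObject C] [HasShift C ℤ]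
  [∀ n : ℤ, (shiftFunctor C n).Additive] [Pretriangulated C]

/-- Adding a summand to the target adds it to the cone. -/
theorem nonempty_cone_inr {P X Y Z Z' : C} [HasBinaryBiproduct P Y] [HasBinaryBiproduct P Z]
    (u : X ⟶ Y) (g : Y ⟶ Z) (h : Z ⟶ X⟦(1 : ℤ)⟧) (hT : Triangle.mk u g h ∈ distTriang C)
    (g' : P ⊞ Y ⟶ Z') (h' : Z' ⟶ X⟦(1 : ℤ)⟧)
    (hT' : Triangle.mk (u ≫ biprod.inr) g' h' ∈ distTriang C) : Nonempty (Z' ≅ P ⊞ Z) := by
  obtain ⟨q, hq⟩ : ∃ q : Z' ⟶ P, biprod.fst = g' ≫ q :=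
    Triangle.yoneda_exact₂ _ hT' (biprod.fst : P ⊞ Y ⟶ P)
      (show (u ≫ biprod.inr) ≫ biprod.fst = 0 by simp)
  obtain ⟨c, hc₁, hc₂⟩ : ∃ c : Z ⟶ Z', g ≫ c = biprod.inr ≫ g' ∧ h ≫ (𝟙 X)⟦(1 : ℤ)⟧' = c ≫ h' :=
    complete_distinguished_triangle_morphism _ _ hT hT' (𝟙 X) biprod.inr (Category.id_comp _).symm
  obtain ⟨d, hd₁, hd₂⟩ : ∃ d : Z' ⟶ Z, g' ≫ d = biprod.snd ≫ g ∧ h' ≫ (𝟙 X)⟦(1 : ℤ)⟧' = d ≫ h :=
    complete_distinguished_triangle_morphism _ _ hT' hT (𝟙 X) biprod.snd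
      (show (u ≫ biprod.inr) ≫ biprod.snd = 𝟙 X ≫ u by simp)
  rw [CategoryTheory.Functor.map_id, Category.comp_id] at hc₂ hd₂
  haveI : IsIso (c ≫ d) := isIso₃_of_isIso₁₂
    (Triangle.homMk (Triangle.mk u g h) (Triangle.mk u g h) (𝟙 X) (𝟙 Y) (c ≫ d)
      (show u ≫ 𝟙 Y = 𝟙 X ≫ u by simp)
      (show g ≫ c ≫ d = 𝟙 Y ≫ g by rw [reassoc_of% hc₁, hd₁]; simp)
      (show h ≫ (𝟙 X)⟦(1 : ℤ)⟧' = (c ≫ d) ≫ h by
        rw [CategoryTheory.Functor.map_id, Category.comp_id, Category.assoc, ← hd₂, ← hc₂]))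
    hT hT (IsIso.id _) (IsIso.id _)
  let c' := c - c ≫ q ≫ biprod.inl ≫ g'
  have hgd : biprod.inl ≫ g' ≫ d = 0 := by rw [hd₁]; simp
  have hgq : biprod.inl ≫ g' ≫ q = 𝟙 P := by rw [← hq]; simp
  have hc'd : c' ≫ d = c ≫ d := by simp [c', Preadditive.sub_comp, hgd]
  have hc'q : c' ≫ q = 0 := by simp [c', Preadditive.sub_comp, hgq]
  let ψ : Z' ⟶ P ⊞ Z := biprod.lift q d
  let φ : P ⊞ Z ⟶ Z' := biprod.desc (biprod.inl ≫ g') (inv (c ≫ d) ≫ c')
  have h1 : φ ≫ ψ = 𝟙 _ := by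
    refine biprod.hom_ext' _ _ (biprod.hom_ext _ _ ?_ ?_) (biprod.hom_ext _ _ ?_ ?_) <;>
      simp [φ, ψ, Category.assoc, hgd, hgq, hc'd, hc'q]
  haveI : Mono ψ := Preadditive.mono_of_cancel_zero _ fun {W} a ha => by
    have haq : a ≫ q = 0 := by simpa [ψ] using ha =≫ biprod.fst
    have had : a ≫ d = 0 := by simpa [ψ] using ha =≫ biprod.snd
    obtain ⟨b, rfl⟩ : ∃ b : W ⟶ P ⊞ Y, a = b ≫ g' :=
      Triangle.coyoneda_exact₃ _ hT' a (show a ≫ h' = 0 by rw [hd₂, reassoc_of% had, zero_comp])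
    rw [Category.assoc, ← hq] at haq
    rw [Category.assoc, hd₁] at had
    obtain ⟨e, he⟩ : ∃ e : W ⟶ X, b ≫ biprod.snd = e ≫ u :=
      Triangle.coyoneda_exact₂ _ hT (b ≫ biprod.snd) ((Category.assoc _ _ _).trans had)
    rw [show b = e ≫ u ≫ biprod.inr from biprod.hom_ext _ _ (by simpa using haq) (by simpa using he)]
    have h0 : (u ≫ biprod.inr) ≫ g' = 0 := comp_distTriang_mor_zero₁₂ _ hT'
    simpa [Category.assoc] using e ≫= h0
  exact ⟨⟨ψ, φ, (cancel_mono ψ).1 (by simp [h1]), h1⟩⟩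

end Tri

variable {X : Scheme.{u}}

/-- Locally strictly perfect in degrees at least `m`. -/
def LocSPGE (m : ℤ) (K : DCoh.D X) : Prop :=
  ∀ x : X, ∃ (U : Scheme.{u}) (j : U ⟶ X) (_ : IsOpenImmersion j), x ∈ Set.range j.base ∧
    ∃ P : CochainComplex U.Modules ℤ, DCoh.IsStrictlyPerfect P ∧ (∀ i, i < m → IsZero (P.X i)) ∧
      Nonempty (DerivedCategory.Q.obj P ≅ (rho j).obj K)

lemma LocSPGE.mono {m m' : ℤ} {K : DCoh.D X} (h : LocSPGE m K) (hm : m' ≤ m) : LocSPGE m' K :=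
  fun x => by
    obtain ⟨U, j, _, hx, P, hP, hz, e⟩ := h x
    exact ⟨U, j, inferInstance, hx, P, hP, fun i hi => hz i (by omega), e⟩

/-- A perfect object on a quasi-compact scheme is uniformly bounded below. -/
lemma exists_locSPGE [CompactSpace X] {K : DCoh.D X} (h : LocSP K) : ∃ m, LocSPGE m K := by
  choose U j hj hx P hP he using h
  choose a b hab using fun x => (hP x).1
  obtain ⟨t, ht⟩ := isCompact_univ.elim_finite_subcover (fun x => Set.range (j x).base)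
    (fun x => haveI := hj x; (j x).isOpenEmbedding.isOpen_range)
    (fun x _ => Set.mem_iUnion.2 ⟨x, hx x⟩)
  obtain ⟨m, hm⟩ := (t.image a).bddBelow
  refine ⟨m, fun y => ?_⟩
  obtain ⟨x, hxt, hy⟩ := Set.mem_iUnion₂.1 (ht (Set.mem_univ y))
  exact ⟨U x, j x, hj x, hy, P x, hP x, fun i hi => hab x i (Or.inl
    (lt_of_lt_of_le hi (hm (Finset.mem_coe.2 (Finset.mem_image_of_mem a hxt))))), he x⟩

/-- The cone of a map from degrees `≥ n` to degrees `≥ n - 1` lives in degrees `≥ n - 1`. -/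
lemma locSPGE_obj₃ (T : Triangle (DCoh.D X)) (hT : T ∈ distTriang _) {n : ℤ}
    (h₁ : LocSPGE n T.obj₁) (h₂ : LocSPGE (n - 1) T.obj₂) : LocSPGE (n - 1) T.obj₃ := fun x => by
  obtain ⟨U₁, j₁, _, hx₁, P₁, hP₁, hz₁, ⟨e₁⟩⟩ := h₁ x
  obtain ⟨U₂, j₂, _, hx₂, P₂, hP₂, hz₂, ⟨e₂⟩⟩ := h₂ x
  obtain ⟨W, k, _, i₁, i₂, _, _, ⟨w, rfl⟩, f₁, f₂⟩ := exists_common j₁ j₂ hx₁ hx₂
  let c₁ : DerivedCategory.Q.obj ((rCx i₁).obj P₁) ≅ (rho k).obj T.obj₁ :=
    ((rhoQ i₁).app P₁).symm ≪≫ (rho i₁).mapIso e₁ ≪≫ rhoComp i₁ j₁ k f₁ _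
  let c₂ : DerivedCategory.Q.obj ((rCx i₂).obj P₂) ≅ (rho k).obj T.obj₂ :=
    ((rhoQ i₂).app P₂).symm ≪≫ (rho i₂).mapIso e₂ ≪≫ rhoComp i₂ j₂ k f₂ _
  have hQ₁ := isStrictlyPerfect_restrict i₁ hP₁
  obtain ⟨V, β, hw, hβ⟩ :=
    exists_chain_rep hQ₁ (c₁.hom ≫ (rho k).map T.mor₁ ≫ c₂.inv) w
  let T' := (rho V.ι).mapTriangle.obj ((rho k).mapTriangle.obj T)
  have hT' : T' ∈ distinguishedTriangles :=
    (rho V.ι).map_distinguished _ ((rho k).map_distinguished T hT)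
  let S := DerivedCategory.Q.mapTriangle.obj (CochainComplex.mappingCone.triangle β)
  have hS : S ∈ distinguishedTriangles :=
    (DerivedCategory.mem_distTriang_iff _).2 ⟨_, _, β, ⟨Iso.refl _⟩⟩
  let e : S ≅ T' := isoTriangleOfIso₁₂ S T' hS hT'
    (((rhoQ V.ι).app _).symm ≪≫ (rho V.ι).mapIso c₁)
    (((rhoQ V.ι).app _).symm ≪≫ (rho V.ι).mapIso c₂) (by
      change DerivedCategory.Q.map β ≫ (rhoQ V.ι).inv.app _ ≫ (rho V.ι).map c₂.hom =
        ((rhoQ V.ι).inv.app _ ≫ (rho V.ι).map c₁.hom) ≫ (rho V.ι).map ((rho k).map T.mor₁)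
      have h' := (rhoQ V.ι).inv.app _ ≫= (hβ =≫ (rho V.ι).map c₂.hom)
      simp only [Functor.map_comp, Category.assoc] at h'
      rw [← Functor.map_comp_assoc] at h'
      simp only [Category.assoc]
      rw [← Functor.map_comp (rho V.ι) c₁.hom]
      refine Eq.trans ?_ (Eq.trans h'.symm ?_)
      · simp [rhoQ]
      · simp [← Functor.map_comp])
  refine ⟨_, V.ι ≫ k, inferInstance, ⟨⟨w, hw⟩, rfl⟩, CochainComplex.mappingCone β,
    isStrictlyPerfect_cone β (isStrictlyPerfect_restrict V.ι hQ₁)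
      (isStrictlyPerfect_restrict V.ι (isStrictlyPerfect_restrict i₂ hP₂)), fun i hi => ?_,
    ⟨Triangle.π₃.mapIso e ≪≫ rhoComp V.ι k _ rfl T.obj₃⟩⟩
  exact ((biprod_isZero_iff _ _).2 ⟨
    (Scheme.Modules.restrictFunctor V.ι).map_isZero
      ((Scheme.Modules.restrictFunctor i₁).map_isZero (hz₁ (i + 1) (by omega))),
    (Scheme.Modules.restrictFunctor V.ι).map_isZero
      ((Scheme.Modules.restrictFunctor i₂).map_isZero (hz₂ i hi))⟩).of_iso
    (HomologicalComplex.homotopyCofiber.XIsoBiprod β i (i + 1) rfl)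

/-- An object locally perfect in degrees `≥ m` without cohomology above `m` is a vector bundle there. -/
theorem exists_finLocFree_of_locSPGE {m : ℤ} {C : DCoh.D X} (h : LocSPGE m C)
    (hz : ∀ i, m < i → IsZero (DCoh.HD C i)) :
    ∃ F : X.Modules, FlatMod.IsFinLocFree F ∧ Nonempty (C ≅ (DCoh.inD X F)⟦-m⟧) := by
  have hlow : ∀ i, i < m → IsZero (DCoh.HD C i) := fun i hi => isZero_of_stalk _ fun x => by
    obtain ⟨U, j, _, ⟨u', rfl⟩, P, -, hPz, ⟨e⟩⟩ := h x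
    refine isZero_stalk_of_restrict j u' ((DerSch.stalkFunctor U u').map_isZero ?_)
    exact (ShortComplex.isZero_homology_of_isZero_X₂ (P.sc i) (hPz i hi)).of_iso
      ((hdRhoIso j C i).symm ≪≫ (DerivedCategory.homologyFunctor U.Modules i).mapIso e.symm ≪≫
        (DerivedCategory.homologyFunctorFactors U.Modules i).app P)
  haveI : C.IsGE m := (DerivedCategory.isGE_iff _ _).2 hlow
  haveI : C.IsLE m := (DerivedCategory.isLE_iff _ _).2 hz
  obtain ⟨F, ⟨eF⟩⟩ := DerivedCategory.exists_iso_singleFunctor_obj_of_isGE_of_isLE C m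
  let e0 : C ≅ (DCoh.inD X F)⟦-m⟧ :=
    eF ≪≫ (((DerivedCategory.singleFunctors X.Modules).shiftIso (-m) m 0 (by omega)).app F).symm
  refine ⟨F, isFinLocFree_of_restrict fun x => ?_, ⟨e0⟩⟩
  obtain ⟨U, j, _, hx, P, hP, hPz, ⟨e⟩⟩ := h x
  obtain ⟨a, b, hab⟩ := hP.1
  obtain ⟨P', hP', hz', hlow', ⟨e'⟩⟩ := exists_cutoff m (max b m - m).toNat P hP
    (fun i hi => hab i (Or.inr (by omega))) (fun i hi => by
      exact ((Scheme.Modules.restrictFunctor j).map_isZero (hz i hi)).of_iso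
        (((DerivedCategory.homologyFunctorFactors U.Modules i).app P).symm ≪≫
          (DerivedCategory.homologyFunctor U.Modules i).mapIso e ≪≫ hdRhoIso j C i))
  haveI : IsIso (P'.homologyι m) :=
    P'.isIso_homologyι m (m + 1) (by simp) ((hz' (m + 1) (by omega)).eq_of_tgt _ _)
  haveI : IsIso (P'.pOpcycles m) :=
    P'.isIso_pOpcycles (m - 1) m (by simp) ((hlow' m le_rfl hPz (m - 1) (by omega)).eq_of_src _ _)
  let eX : P'.X m ≅ F.restrict j :=
    asIso (P'.pOpcycles m) ≪≫ (asIso (P'.homologyι m)).symm ≪≫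
      ((DerivedCategory.homologyFunctorFactors U.Modules m).app P').symm ≪≫
      (DerivedCategory.homologyFunctor U.Modules m).mapIso (e' ≪≫ e) ≪≫ hdRhoIso j C m ≪≫
      (Scheme.Modules.restrictFunctor j).mapIso
        ((DerivedCategory.homologyFunctor X.Modules m).mapIso e0 ≪≫
          hdShift _ (-m) m 0 (by omega) ≪≫ hdSingleIso F)
  refine ⟨j.opensRange, hx, H23.PullPush.isFinLocFree_of_iso
    ((Scheme.Modules.restrictFunctor (rangeHom j)).mapIso eX ≪≫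
      restrict₂Iso (rangeHom j) j j.opensRange.ι (rangeHom_fac j) F)
    (H23.PullPush.isFinLocFree_of_iso
      ((Scheme.Modules.restrictFunctorIsoPullback (rangeHom j)).app _).symm
      (isFinLocFree_pullback (rangeHom j) (hP'.2 m)))⟩

variable {A : CommRingCat.{u}} [PreservesFiniteLimits (tilde.functor A)] {U : (Spec A).Opens}

/-- Thomason: a perfect object receives a map from an extended perfect complex with cone a shifted
vector bundle. -/
theorem exists_approx_locFree (hU : IsCompact (U : Set (Spec A))) {P : DCoh.D (U : Scheme.{u})}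
    (hP : DCoh.IsPerfect P) :
    ∃ (R : DerivedCategory (ModuleCat.{u} A)) (r : ℤ) (F : (U : Scheme.{u}).Modules)
      (s : (toU U).obj R ⟶ P) (g : P ⟶ (DCoh.inD (U : Scheme.{u}) F)⟦-r⟧)
      (h : (DCoh.inD (U : Scheme.{u}) F)⟦-r⟧ ⟶ ((toU U).obj R)⟦(1 : ℤ)⟧),
      RPerf R ∧ FlatMod.IsFinLocFree F ∧ Triangle.mk s g h ∈ distTriang _ := by
  haveI : CompactSpace (U : Scheme.{u}) := isCompact_iff_compactSpace.1 hU
  haveI := HasBinaryBiproducts.of_hasBinaryProducts (C := DCoh.D (U : Scheme.{u}))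
  obtain ⟨n, hn⟩ := exists_locSPGE ((isPerfect_iff P).1 hP)
  obtain ⟨bP, hbP⟩ := exists_isLE_of_pseudoCoherent
    ((isPseudoCoherentD_iff _ _).2 (((isPerfect_iff P).1 hP).locPC 0))
  let k : ℕ := (bP - n).toNat + 1
  obtain ⟨G, hG, ⟨e⟩⟩ := exists_extension_odd hU hP k
  obtain ⟨K, a, b, hKz, hKf, ⟨eK⟩⟩ := hG
  let H := fun i : ℤ => DerivedCategory.homologyFunctor (U : Scheme.{u}).Modules i
  let R := DerivedCategory.Q.obj (K.stupidTrunc (ComplexShape.embeddingUpIntGE n))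
  have hRX : ∀ i, (i < n ∨ b < i → IsZero ((K.stupidTrunc (ComplexShape.embeddingUpIntGE n)).X i)) ∧
      Module.Finite A ((K.stupidTrunc (ComplexShape.embeddingUpIntGE n)).X i) ∧
      Module.Projective A ((K.stupidTrunc (ComplexShape.embeddingUpIntGE n)).X i) := fun i => by
    by_cases hi : i < n
    · have hz := isZero_stupidTrunc_of_lt K n i hi
      haveI := ModuleCat.subsingleton_of_isZero hz
      exact ⟨fun _ => hz, inferInstance, inferInstance⟩
    · haveI := isIso_sigmaGEι_f K n i (by omega)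
      let ei := asIso ((sigmaGEι K n).f i)
      haveI := (hKf i).1
      haveI := (hKf i).2
      exact ⟨fun h => (hKz i (Or.inr (by omega))).of_iso ei,
        Module.Finite.equiv ei.toLinearEquiv.symm, Module.Projective.of_equiv ei.toLinearEquiv.symm⟩
  let u : (toU U).obj R ⟶ (toU U).obj (DerivedCategory.Q.obj K) :=
    (toU U).map (DerivedCategory.Q.map (sigmaGEι K n))
  let v : (toU U).obj (DerivedCategory.Q.obj K) ⟶ P :=
    (toU U).map eK.hom ≫ e.hom ≫ biprod.fst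
  obtain ⟨C, g, h, hT⟩ := distinguished_cocone_triangle (u ≫ v)
  let T₀ := (toU U).mapTriangle.obj (DerivedCategory.triangleOfSES (sigmaSES_shortExact K n))
  have hT₀ : T₀ ∈ distTriang _ :=
    (toU U).map_distinguished _ (DerivedCategory.triangleOfSES_distinguished _)
  have hX₃ : ∀ i, n ≤ i → IsZero ((H i).obj T₀.obj₃) := fun i hi => by
    haveI := isStrictlyLE_sigmaSES_X₃ K n
    have hz := DerivedCategory.isZero_of_isLE
      (DerivedCategory.Q.obj (sigmaSES K n).X₃) (n - 1) i (by omega)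
    exact ((Scheme.Modules.restrictFunctor U.ι).map_isZero
      (((tilde.functor A).map_isZero hz).of_iso ((mapDCHomologyIso (tilde.functor A) i).app _))).of_iso
      (hdRestrictIso U.ι _ i)
  have hu : ∀ i, n ≤ i → Epi ((H i).map u) ∧ Mono ((H (i + 1)).map u) := fun i hi =>
    ⟨(DerivedCategory.HomologySequence.exact₂ T₀ hT₀ i).epi_f ((hX₃ i hi).eq_of_tgt _ _),
      (DerivedCategory.HomologySequence.exact₁ T₀ hT₀ i (i + 1) rfl).mono_g ((hX₃ i hi).eq_of_src _ _)⟩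
  have hv : ∀ i, n ≤ i → IsIso ((H i).map v) := fun i hi => by
    haveI := hbP
    have hz : IsZero ((H i).obj (P⟦(2 * k + 1 : ℤ)⟧)) :=
      (DerivedCategory.isZero_of_isLE P bP _ (by omega)).of_iso (hdShift P _ i _ rfl)
    haveI : IsIso ((H i).map (biprod.fst : P ⊞ P⟦(2 * k + 1 : ℤ)⟧ ⟶ P)) := by
      refine ⟨(H i).map biprod.inl, ?_, ?_⟩
      · rw [← Functor.map_comp, eq_sub_of_add_eq biprod.total, Functor.map_sub,
          CategoryTheory.Functor.map_id, Functor.map_comp, hz.eq_of_tgt ((H i).map biprod.snd) 0,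
          zero_comp, sub_zero]
      · rw [← Functor.map_comp, biprod.inl_fst, CategoryTheory.Functor.map_id]
    simp only [v, Functor.map_comp]
    infer_instance
  have hC : ∀ i, n - 1 < i → IsZero (DCoh.HD C i) := fun i hi => by
    obtain ⟨h1, h2⟩ := hu i (by omega)
    haveI := hv i (by omega)
    haveI := hv (i + 1) (by omega)
    haveI : Epi ((H i).map (u ≫ v)) := by rw [Functor.map_comp]; infer_instance
    haveI : Mono ((H (i + 1)).map (u ≫ v)) := by rw [Functor.map_comp]; infer_instance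
    refine (DerivedCategory.HomologySequence.exact₃ _ hT i (i + 1) rfl).isZero_X₂ ?_ ?_
    · apply (cancel_epi ((H i).map (u ≫ v))).1
      exact (((H i).map_comp (u ≫ v) g).symm.trans (by
        rw [show (u ≫ v) ≫ g = 0 from comp_distTriang_mor_zero₁₂ _ hT, Functor.map_zero])).trans
          comp_zero.symm
    · apply (cancel_mono ((H (i + 1)).map (u ≫ v))).1
      exact (DerivedCategory.HomologySequence.δ_comp _ hT i (i + 1) rfl).trans zero_comp.symm
  let PR := ((Scheme.Modules.restrictFunctor U.ι).mapHomologicalComplex (ComplexShape.up ℤ)).obj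
    (((tilde.functor A).mapHomologicalComplex (ComplexShape.up ℤ)).obj
      (K.stupidTrunc (ComplexShape.embeddingUpIntGE n)))
  have hPR : DCoh.IsStrictlyPerfect PR :=
    isStrictlyPerfect_restrict U.ι ⟨⟨n, b, fun i hi => (tilde.functor A).map_isZero ((hRX i).1 hi)⟩,
      fun i => (Groth.Agent.S12451.result _).2 (hRX i).2⟩
  have h₁ : LocSPGE n ((toU U).obj R) := fun x =>
    ⟨_, 𝟙 _, inferInstance, ⟨x, rfl⟩, PR, hPR,
      fun i hi => (Scheme.Modules.restrictFunctor U.ι).map_isZero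
        ((tilde.functor A).map_isZero ((hRX i).1 (Or.inl hi))),
      ⟨((Scheme.Modules.restrictFunctor U.ι).mapDerivedCategoryFactors.app _).symm ≪≫
        (DCoh.restrictD U.ι).mapIso (toDTildeIso _).symm ≪≫
        ((restrictDId (U : Scheme.{u})).app _).symm⟩⟩
  obtain ⟨F, hF, ⟨eC⟩⟩ := exists_finLocFree_of_locSPGE
    (locSPGE_obj₃ _ hT h₁ (hn.mono (by omega))) hC
  refine ⟨R, n - 1, F, u ≫ v, g ≫ eC.hom, eC.inv ≫ h,
    ⟨_, n, b, fun i hi => (hRX i).1 hi, fun i => (hRX i).2, ⟨Iso.refl _⟩⟩, hF,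
    isomorphic_distinguished _ hT _ (Triangle.isoMk _ _ (Iso.refl _) (Iso.refl _) eC.symm ?_ ?_ ?_)⟩
  · exact (Category.comp_id _).trans (Category.id_comp _).symm
  · exact ((Category.assoc _ _ _).trans ((congrArg (g ≫ ·) eC.hom_inv_id).trans
      (Category.comp_id _))).trans (Category.id_comp _).symm
  · exact (congrArg ((eC.inv ≫ h) ≫ ·) (CategoryTheory.Functor.map_id _ _)).trans (Category.comp_id _)

/-- Thomason: a perfect object plus some shifted vector bundle extends. -/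
theorem exists_extension_locFree (hU : IsCompact (U : Set (Spec A))) {E : DCoh.D (U : Scheme.{u})}
    [∀ P Q : DCoh.D (U : Scheme.{u}), HasBinaryBiproduct P Q] (hE : DCoh.IsPerfect E) :
    ∃ (r : ℤ) (F : (U : Scheme.{u}).Modules) (G : DerivedCategory (ModuleCat.{u} A)),
      FlatMod.IsFinLocFree F ∧ RPerf G ∧
      Nonempty ((toU U).obj G ≅ E ⊞ (DCoh.inD (U : Scheme.{u}) F)⟦-r⟧) := by
  obtain ⟨G₀, hG₀, ⟨e₀⟩⟩ := exists_extension_odd hU hE 0
  have hE₁ : DCoh.IsPerfect (E⟦(1 : ℤ)⟧) := (isPerfect_iff _).2 (((isPerfect_iff E).1 hE).shift 1)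
  obtain ⟨R, r, F, s, g, h, hR, hF, hT⟩ := exists_approx_locFree hU hE₁
  let i₁ : E⟦(1 : ℤ)⟧ ≅ E⟦(2 * (0 : ℕ) + 1 : ℤ)⟧ := eqToIso (by simp)
  let f : (toU U).obj R ⟶ (toU U).obj G₀ :=
    (s ≫ i₁.hom) ≫ (biprod.inr : E⟦(2 * (0 : ℕ) + 1 : ℤ)⟧ ⟶ E ⊞ E⟦(2 * (0 : ℕ) + 1 : ℤ)⟧) ≫ e₀.inv
  obtain ⟨R₁, β, γ, hR₁, hβ, hc, -⟩ := exists_lift hU hR (isQCohD_tildeD A G₀) f
  obtain ⟨γ₀, rfl⟩ := (tildeD_map_bijective R₁ G₀).2 γ
  obtain ⟨G, g₂, h₂, hG⟩ := distinguished_cocone_triangle γ₀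
  let f' := (s : (toU U).obj R ⟶ E⟦(1 : ℤ)⟧) ≫
    (biprod.inr : E⟦(1 : ℤ)⟧ ⟶ E ⊞ E⟦(1 : ℤ)⟧)
  obtain ⟨Z, g', h', hZ⟩ := distinguished_cocone_triangle f'
  obtain ⟨eZ⟩ := nonempty_cone_inr s g h hT g' h' hZ
  let e₁ : (toU U).obj G₀ ≅ E ⊞ E⟦(1 : ℤ)⟧ := e₀ ≪≫ biprod.mapIso (Iso.refl _) i₁.symm
  let eT := isoTriangleOfIso₁₂ _ _ ((toU U).map_distinguished _ hG) hZ (@asIso _ _ _ _ _ hβ)
    e₁ (by
      have h0 : f ≫ e₁.hom = f' := by simp [f, f', e₁]
      exact ((congrArg (· ≫ e₁.hom) hc.symm).trans (Category.assoc _ _ _)).trans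
        (congrArg ((toU U).map β ≫ ·) h0))
  exact ⟨r, F, G, hF, rperf_obj₃ _ hG hR₁ hG₀, ⟨Triangle.π₃.mapIso eT ≪≫ eZ⟩⟩

/-- Thomason: on an affine scheme a perfect object on a quasi-compact open plus some shifted vector bundle
extends. -/
theorem exists_extension_locFree_affine (X : Scheme.{u}) [IsAffine X] (U : X.Opens)
    (hU : IsCompact (U : Set X)) (E : DCoh.D (U : Scheme.{u})) (hE : DCoh.IsPerfect E)
    [∀ P Q : DCoh.D (U : Scheme.{u}), HasBinaryBiproduct P Q] :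
    ∃ (r : ℤ) (F : (U : Scheme.{u}).Modules) (G : DCoh.D X), FlatMod.IsFinLocFree F ∧ DCoh.IsPerfect G ∧
      Nonempty ((DCoh.restrictD U.ι).obj G ≅ (DCoh.inD (U : Scheme.{u}) F)⟦-r⟧ ⊞ E) := by
  let A : CommRingCat.{u} := Γ(X, ⊤)
  haveI : PreservesFiniteLimits (tilde.functor A) := QCoh.tilde_preservesFiniteLimits (R := A)
  let eS : Spec A ≅ X := X.isoSpec.symm
  let U' : (Spec A).Opens := eS.hom ⁻¹ᵁ U
  let eU : (U' : Scheme.{u}) ≅ (U : Scheme.{u}) := asIso (eS.hom ∣_ U)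
  let Φ := restrictDEquiv eS
  let Ψ := restrictDEquiv eU
  let sq : DCoh.restrictD eS.hom ⋙ DCoh.restrictD U'.ι ≅ DCoh.restrictD U.ι ⋙ DCoh.restrictD eU.hom :=
    restrictDSq U'.ι eS.hom eU.hom U.ι (morphismRestrict_ι eS.hom U).symm
  have hU' : IsCompact (U' : Set (Spec A)) := eS.hom.homeomorph.isCompact_preimage.2 hU
  haveI := HasBinaryBiproducts.of_hasBinaryProducts (C := DCoh.D (U' : Scheme.{u}))
  obtain ⟨r, F', G', hF', hG', ⟨eG⟩⟩ :=
    exists_extension_locFree hU' (isPerfect_restrictD eU.hom hE)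
  let G := Φ.inverse.obj ((DCoh.tildeD A).obj G')
  let ε : (DCoh.restrictD eS.hom).obj G ≅ (DCoh.tildeD A).obj G' := Φ.counitIso.app _
  let F := (Scheme.Modules.restrictFunctor eU.inv).obj F'
  refine ⟨r, F, G, H23.PullPush.isFinLocFree_of_iso
      ((Scheme.Modules.restrictFunctorIsoPullback eU.inv).app _).symm (isFinLocFree_pullback eU.inv hF'),
    isPerfect_restrictD eS.inv ((perfect_tildeD_iff G').2 hG'), ⟨?_⟩⟩
  haveI : (DCoh.restrictD eU.hom).Full := inferInstanceAs Ψ.functor.Full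
  haveI : (DCoh.restrictD eU.hom).Faithful := inferInstanceAs Ψ.functor.Faithful
  haveI : PreservesBinaryBiproduct ((DCoh.inD (U : Scheme.{u}) F)⟦-r⟧) E (DCoh.restrictD eU.hom) :=
    preservesBinaryBiproduct_of_preservesBiproduct _ _ _
  let eF : (DCoh.inD (U' : Scheme.{u}) F')⟦-r⟧ ≅
      (DCoh.restrictD eU.hom).obj ((DCoh.inD (U : Scheme.{u}) F)⟦-r⟧) :=
    (shiftFunctor _ (-r)).mapIso ((DerivedCategory.singleFunctor (U' : Scheme.{u}).Modules 0).mapIso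
      ((Scheme.Modules.restrictFunctorId.app F').symm ≪≫
        (restrict₂Iso eU.hom eU.inv (𝟙 _) eU.hom_inv_id F').symm) ≪≫
      (((Scheme.Modules.restrictFunctor eU.hom).mapDerivedCategorySingleFunctor 0).app F).symm) ≪≫
    (((DCoh.restrictD eU.hom).commShiftIso (-r)).app _).symm
  exact (DCoh.restrictD eU.hom).preimageIso ((sq.app G).symm ≪≫ (DCoh.restrictD U'.ι).mapIso ε ≪≫
    eG ≪≫ biprod.braiding _ _ ≪≫ biprod.mapIso eF (Iso.refl _) ≪≫
    ((DCoh.restrictD eU.hom).mapBiprod _ E).symm)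

end Groth.Agent.PerfD40
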