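import Groth.Agent.PerfD40.TorsionKill
import Groth.Agent.PerfD40.FreeExtend
import Groth.Agent.PerfD40.IsoScheme
import Groth.Agent.PerfD40.KoszulAffine

/-!
# Thomason's extension of perfect objects over a quasi-compact open of an affine scheme
-/

set_option linter.style.haveILetI false

universe u

open CategoryTheory CategoryTheory.Limits AlgebraicGeometry Pretriangulated

attribute [local instance] HasDerivedCategory.standard

namespace Groth.Agent.PerfD40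

open Groth.Agent.KFlatLib

section Tri

variable {C : Type*} [Category C] [Preadditive C] [HasZeroObject C] [HasShift C ℤ]
  [∀ n : ℤ, (shiftFunctor C n).Additive] [Pretriangulated C]

/-- The cone of the complementary idempotent of a retract is the retract plus its shift. -/
theorem nonempty_cone_retract {P X Y : C} (ρ : Retract P X) (g : X ⟶ Y) (h : Y ⟶ X⟦(1 : ℤ)⟧)
    (hT : Triangle.mk (𝟙 X - ρ.r ≫ ρ.i) g h ∈ distTriang C) [HasBinaryBiproduct P (P⟦(1 : ℤ)⟧)] :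
    Nonempty (Y ≅ P ⊞ P⟦(1 : ℤ)⟧) := by
  let c := 𝟙 X - ρ.r ≫ ρ.i
  have hcg : c ≫ g = 0 := comp_distTriang_mor_zero₁₂ _ hT
  have hgh : g ≫ h = 0 := comp_distTriang_mor_zero₂₃ _ hT
  have hhc : h ≫ c⟦(1 : ℤ)⟧' = 0 := comp_distTriang_mor_zero₃₁ _ hT
  have hg : g = ρ.r ≫ ρ.i ≫ g := by
    have : g - ρ.r ≫ ρ.i ≫ g = 0 := by
      rw [← hcg]; simp [c, Preadditive.sub_comp]
    exact sub_eq_zero.1 this
  obtain ⟨q, hq⟩ : ∃ q : Y ⟶ P, ρ.r = g ≫ q := Triangle.yoneda_exact₂ _ hT ρ.r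
    (show c ≫ ρ.r = 0 by simp [c, Preadditive.sub_comp])
  have hgq : ρ.i ≫ g ≫ q = 𝟙 P := by rw [← hq, ρ.retract]
  have hic : ρ.i⟦(1 : ℤ)⟧' ≫ c⟦(1 : ℤ)⟧' = 0 := by
    rw [← Functor.map_comp,
      show ρ.i ≫ c = 0 by simp [c, Preadditive.comp_sub], Functor.map_zero]
  obtain ⟨s, hs⟩ : ∃ s : P⟦(1 : ℤ)⟧ ⟶ Y, ρ.i⟦(1 : ℤ)⟧' = s ≫ h :=
    Triangle.coyoneda_exact₁ _ hT (ρ.i⟦(1 : ℤ)⟧') hic
  let s' := s - (s ≫ q) ≫ ρ.i ≫ g
  have hs'h : s' ≫ h = ρ.i⟦(1 : ℤ)⟧' := by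
    simp [s', Preadditive.sub_comp, Category.assoc, hgh, ← hs]
  have hs'q : s' ≫ q = 0 := by
    simp [s', Preadditive.sub_comp, Category.assoc, hgq]
  have hr : ρ.i⟦(1 : ℤ)⟧' ≫ ρ.r⟦(1 : ℤ)⟧' = 𝟙 _ := by
    rw [← Functor.map_comp, ρ.retract, CategoryTheory.Functor.map_id]
  let a := 𝟙 Y - q ≫ ρ.i ≫ g - (h ≫ ρ.r⟦(1 : ℤ)⟧') ≫ s'
  have hah : a ≫ h = 0 := by
    rw [← hhc]
    simp [a, c, Preadditive.sub_comp, Preadditive.comp_sub, Category.assoc, hgh, hs'h]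
  have haq : a ≫ q = 0 := by
    simp [a, Preadditive.sub_comp, Category.assoc, hgq, hs'q]
  obtain ⟨b, hb⟩ : ∃ b : Y ⟶ X, a = b ≫ g := Triangle.coyoneda_exact₃ _ hT a hah
  have ha : a = 0 := by
    have h1 : a = (b ≫ ρ.r) ≫ ρ.i ≫ g := by rw [hb, Category.assoc, ← hg]
    have h2 : b ≫ ρ.r = a ≫ q := by rw [hb, Category.assoc, hq]
    rw [h1, h2, haq, zero_comp]
  refine ⟨⟨biprod.lift q (h ≫ ρ.r⟦(1 : ℤ)⟧'), biprod.desc (ρ.i ≫ g) s', ?_, ?_⟩⟩
  · rw [biprod.lift_desc]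
    have : 𝟙 Y - (q ≫ ρ.i ≫ g + (h ≫ ρ.r⟦(1 : ℤ)⟧') ≫ s') = 0 := by rw [← ha]; simp [a]; abel
    exact (sub_eq_zero.1 this).symm
  · refine biprod.hom_ext' _ _ (biprod.hom_ext _ _ ?_ ?_) (biprod.hom_ext _ _ ?_ ?_) <;>
      simp [Category.assoc, hgq, hs'q, reassoc_of% hgh, reassoc_of% hs'h, hr, hgh]

end Tri

variable {A : CommRingCat.{u}} [PreservesFiniteLimits (tilde.functor A)]

/-- Quasi-compact opens of an affine scheme are complements of zero sets of finite sequences. -/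
theorem exists_eq_outOpen (U : (Spec A).Opens) (hU : IsCompact (U : Set (Spec A))) :
    ∃ l : List A, U = outOpen l := by
  obtain ⟨t, ht⟩ := PrimeSpectrum.isCompact_isOpen_iff.1 ⟨hU, U.isOpen⟩
  refine ⟨t.toList, TopologicalSpace.Opens.ext ?_⟩
  ext x
  rw [← ht]
  refine Iff.trans ?_ (mem_outOpen_iff _ x).symm
  exact (Set.not_subset (s := (t : Set A)) (t := (x.asIdeal : Set A))).trans
    ⟨fun ⟨f, h1, h2⟩ => ⟨f, Finset.mem_toList.2 h1, h2⟩,
      fun ⟨f, h1, h2⟩ => ⟨f, Finset.mem_toList.1 h1, h2⟩⟩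

variable {U : (Spec A).Opens}

/-- Maps from a restricted perfect complex lift after modifying the source away from the open. -/
theorem exists_lift (hU : IsCompact (U : Set (Spec A))) {R : DerivedCategory (ModuleCat.{u} A)}
    (hR : RPerf R) {E : DCoh.D (Spec A)} (hE : DCoh.IsQCohD E)
    (α : (toU U).obj R ⟶ (DCoh.restrictD U.ι).obj E) :
    ∃ (R₁ : DerivedCategory (ModuleCat.{u} A)) (β : R₁ ⟶ R) (γ : (DCoh.tildeD A).obj R₁ ⟶ E),
      RPerf R₁ ∧ IsIso ((toU U).map β) ∧ (toU U).map β ≫ α = (DCoh.restrictD U.ι).map γ ∧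
      ∀ g, IsTorsD g R → IsTorsD g R₁ := by
  obtain ⟨l, rfl⟩ := exists_eq_outOpen U hU
  haveI := hasRpush_scheme (outOpen l).ι
  let adj := restrictRpushAdj (outOpen l).ι
  obtain ⟨N, ι, δ, hT, hN, -⟩ := exists_unit_fibre l adj E hE
  let a := adj.homEquiv _ _ α
  let eS := ((DCoh.tildeD A).commShiftIso (1 : ℤ)).app N
  obtain ⟨θ, hθ⟩ := (tildeD_map_bijective R (N⟦(1 : ℤ)⟧)).2 (a ≫ δ ≫ eS.inv)
  obtain ⟨R', i, φ', hR', hi, htl, htR⟩ := exists_supported_factor l R _ hR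
    (fun f hf => (hN f hf).shift 1) θ
  obtain ⟨R₁, β, d, hβ⟩ := distinguished_cocone_triangle₁ i
  have hz : IsZero ((toU (outOpen l)).obj R') :=
    isZero_restrictD_of_support (outOpen l) _ _ ((isTorsD_iff_support l R').1 htl) fun _ hx h => h hx
  have h0 : ((DCoh.tildeD A).map β ≫ a) ≫ δ = 0 := by
    refine (cancel_mono eS.inv).1 ?_
    rw [zero_comp, Category.assoc, Category.assoc, ← hθ, ← hi, ← Functor.map_comp, ← Category.assoc,
      show β ≫ i = 0 from comp_distTriang_mor_zero₁₂ _ hβ, zero_comp, Functor.map_zero]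
  obtain ⟨γ, hγ⟩ : ∃ γ : (DCoh.tildeD A).obj R₁ ⟶ E,
      (DCoh.tildeD A).map β ≫ a = γ ≫ adj.unit.app E :=
    Triangle.coyoneda_exact₂ _ (rot_of_distTriang _ hT) _ h0
  refine ⟨R₁, β, γ, rperf_obj₁ _ hβ hR hR',
    (Triangle.isZero₃_iff_isIso₁ _ ((toU (outOpen l)).map_distinguished _ hβ)).1 hz, ?_,
    fun g hg => IsTorsD.of_triangle _ (inv_rot_of_distTriang _ hβ) ((htR g hg).shift (-1)) hg⟩
  apply (adj.homEquiv _ _).injective
  rw [Functor.comp_map, adj.homEquiv_naturality_left, adj.homEquiv_unit (f := (DCoh.restrictD _).map γ)]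
  exact hγ.trans (adj.unit.naturality γ)

/-- A perfect object on an open supported in a closed set with quasi-compact complement is a retract of
the restriction of a perfect complex supported in that set. -/
theorem exists_retract_supported (hU : IsCompact (U : Set (Spec A))) (lT : List A)
    {P : DCoh.D (U : Scheme.{u})} (hP : DCoh.IsPerfect P)
    (hPT : IsZero ((DCoh.restrictD (U.ι ⁻¹ᵁ outOpen lT).ι).obj P)) :
    ∃ R : DerivedCategory (ModuleCat.{u} A), RPerf R ∧ (∀ f ∈ lT, IsTorsD f R) ∧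
      Nonempty (Retract P ((toU U).obj R)) := by
  obtain ⟨R, hR, ⟨ρ⟩⟩ := exists_retract_free hU hP
  haveI : CompactSpace (U : Scheme.{u}) := isCompact_iff_compactSpace.1 hU
  haveI : QuasiSeparatedSpace (U : Scheme.{u}) := .of_isOpenEmbedding U.ι.isOpenEmbedding
  haveI : HasInjectiveResolutions (U : Scheme.{u}).Modules := hasInjectiveResolutions_modules
  haveI := hasRpush_scheme U.ι
  haveI := hasRpush_scheme (U.ι ∣_ outOpen lT)
  let adj := restrictRpushAdj U.ι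
  obtain ⟨N, ⟨eN⟩⟩ := exists_tildeD_iso (isQCohD_rpush U.ι (isQCohD_of_isPerfect hP))
  have hz : IsZero ((DCoh.restrictD (outOpen lT).ι).obj ((DCoh.Rpush U.ι).obj P)) := by
    haveI : (DCoh.Rpush (U.ι ∣_ outOpen lT)).Additive :=
      (exists_rightDerived_triangle (Scheme.Modules.pushforward (U.ι ∣_ outOpen lT)) _
        (contractible_distinguished ((DCoh.restrictD (U.ι ⁻¹ᵁ outOpen lT).ι).obj P))).1
    exact (Functor.map_isZero (DCoh.Rpush (U.ι ∣_ outOpen lT)) hPT).of_iso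
      ((nonempty_rpush_restrictD_iso U.ι (outOpen lT)).some.app P)
  have hN : ∀ f ∈ lT, IsTorsD f N := (isTorsD_iff_support lT N).2 fun i =>
    support_subset_of_isZero_restrictD _ _ (hz.of_iso ((DCoh.restrictD _).mapIso eN)) i
  obtain ⟨θ, hθ⟩ := (tildeD_map_bijective R N).2 (adj.homEquiv _ _ ρ.r ≫ eN.inv)
  obtain ⟨R', i, φ', hR', hi, htT, -⟩ := exists_supported_factor lT R N hR hN θ
  refine ⟨R', hR', htT, ⟨⟨ρ.i ≫ (toU U).map i,
    (adj.homEquiv _ _).symm ((DCoh.tildeD A).map φ' ≫ eN.hom), ?_⟩⟩⟩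
  rw [Category.assoc, Functor.comp_map, ← adj.homEquiv_naturality_left_symm, ← Category.assoc,
    ← Functor.map_comp, hi, hθ, Category.assoc, Iso.inv_hom_id, Category.comp_id,
    Equiv.symm_apply_apply, ρ.retract]

/-- Thomason: a perfect object on a quasi-compact open, plus its shift, extends with support. -/
theorem exists_extension (hU : IsCompact (U : Set (Spec A))) (lT : List A)
    {P : DCoh.D (U : Scheme.{u})} [HasBinaryBiproduct P (P⟦(1 : ℤ)⟧)] (hP : DCoh.IsPerfect P)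
    (hPT : IsZero ((DCoh.restrictD (U.ι ⁻¹ᵁ outOpen lT).ι).obj P)) :
    ∃ G : DerivedCategory (ModuleCat.{u} A), RPerf G ∧ (∀ f ∈ lT, IsTorsD f G) ∧
      Nonempty ((toU U).obj G ≅ P ⊞ P⟦(1 : ℤ)⟧) := by
  obtain ⟨R, hR, htR, ⟨ρ⟩⟩ := exists_retract_supported hU lT hP hPT
  obtain ⟨R₁, β, γ, hR₁, hβ, hc, hrot⟩ := exists_lift hU hR (isQCohD_tildeD A R) (𝟙 _ - ρ.r ≫ ρ.i)
  obtain ⟨γ₀, rfl⟩ := (tildeD_map_bijective R₁ R).2 γ
  obtain ⟨G, g, h, hT⟩ := distinguished_cocone_triangle γ₀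
  refine ⟨G, rperf_obj₃ _ hT hR₁ hR, fun f hf => IsTorsD.of_triangle _ (rot_of_distTriang _ hT)
    (htR f hf) ((hrot f (htR f hf)).shift 1), ?_⟩
  obtain ⟨Y, g', h', hY⟩ := distinguished_cocone_triangle (𝟙 ((toU U).obj R) - ρ.r ≫ ρ.i)
  obtain ⟨e⟩ := nonempty_cone_retract ρ g' h' hY
  haveI := hβ
  let eT := isoTriangleOfIso₁₂ _ _ ((toU U).map_distinguished _ hT) hY (@asIso _ _ _ _ _ hβ)
    (Iso.refl _) ((Category.comp_id _).trans hc.symm)
  exact ⟨Triangle.π₃.mapIso eT ≪≫ e⟩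

end Groth.Agent.PerfD40
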