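import Groth.Agent.PerfD40.Thomason

/-!
# Thomason's extension theorems on affine schemes
-/

set_option linter.style.haveILetI false

universe u

open CategoryTheory CategoryTheory.Limits AlgebraicGeometry Pretriangulated

attribute [local instance] HasDerivedCategory.standard

namespace Groth.Agent.PerfD40

open Groth.Agent.KFlatLib

/-- The two restrictions along a commutative square of open immersions agree. -/
noncomputable def restrictDSq {W U V X : Scheme.{u}} (i₁ : W ⟶ U) (j₁ : U ⟶ X) (i₂ : W ⟶ V)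
    (j₂ : V ⟶ X) [IsOpenImmersion i₁] [IsOpenImmersion j₁] [IsOpenImmersion i₂] [IsOpenImmersion j₂]
    (h : i₁ ≫ j₁ = i₂ ≫ j₂) :
    DCoh.restrictD j₁ ⋙ DCoh.restrictD i₁ ≅ DCoh.restrictD j₂ ⋙ DCoh.restrictD i₂ :=
  restrictDComp i₁ j₁ (i₁ ≫ j₁) rfl ≪≫ (restrictDComp i₂ j₂ (i₁ ≫ j₁) h.symm).symm

/-- Restriction along an immersion landing in an open where an object vanishes is zero. -/
lemma isZero_restrictD_of_factor {Y X : Scheme.{u}} (j : Y ⟶ X) [IsOpenImmersion j] (O : X.Opens)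
    (hr : ∀ y : Y, j.base y ∈ O) (K : DCoh.D X) (h : IsZero ((DCoh.restrictD O.ι).obj K)) :
    IsZero ((DCoh.restrictD j).obj K) := by
  have hsub : Set.range j.base ⊆ Set.range O.ι.base := by
    rintro _ ⟨y, rfl⟩
    rw [Scheme.Opens.range_ι]
    exact hr y
  let k := IsOpenImmersion.lift O.ι j hsub
  have hk : k ≫ O.ι = j := IsOpenImmersion.lift_fac _ _ _
  haveI : IsOpenImmersion k := IsOpenImmersion.of_comp k O.ι
  exact (Functor.map_isZero (DCoh.restrictD k) h).of_iso ((restrictDComp k O.ι j hk).symm.app K)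

/-- Perfectness is stable under restriction. -/
lemma isPerfect_restrictD {Y X : Scheme.{u}} (j : Y ⟶ X) [IsOpenImmersion j] {K : DCoh.D X}
    (h : DCoh.IsPerfect K) : DCoh.IsPerfect ((DCoh.restrictD j).obj K) :=
  (isPerfect_iff _).2 (((isPerfect_iff K).1 h).restrict' j)

/-- Perfectness is stable under isomorphism. -/
lemma isPerfect_of_iso' {X : Scheme.{u}} {K L : DCoh.D X} (e : K ≅ L) (h : DCoh.IsPerfect K) :
    DCoh.IsPerfect L :=
  (isPerfect_iff _).2 (((isPerfect_iff K).1 h).of_iso e)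

section Affine

variable (X : Scheme.{u}) [IsAffine X] (U : X.Opens)

/-- Thomason's lifting lemma on an affine scheme. -/
theorem exists_lift_affine (hU : IsCompact (U : Set X)) (E E' : DCoh.D X) (hE : DCoh.IsPerfect E)
    (hE' : DCoh.IsQCohD E') (α : (DCoh.restrictD U.ι).obj E ⟶ (DCoh.restrictD U.ι).obj E') :
    ∃ (E₁ : DCoh.D X) (β : E₁ ⟶ E) (γ : E₁ ⟶ E'), DCoh.IsPerfect E₁ ∧
      IsIso ((DCoh.restrictD U.ι).map β) ∧
      (DCoh.restrictD U.ι).map β ≫ α = (DCoh.restrictD U.ι).map γ := by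
  let A : CommRingCat.{u} := Γ(X, ⊤)
  haveI : PreservesFiniteLimits (tilde.functor A) := QCoh.tilde_preservesFiniteLimits (R := A)
  let eS : Spec A ≅ X := X.isoSpec.symm
  let U' : (Spec A).Opens := eS.hom ⁻¹ᵁ U
  let eU : (U' : Scheme.{u}) ≅ (U : Scheme.{u}) := asIso (eS.hom ∣_ U)
  let Φ := restrictDEquiv eS
  let Ψ := restrictDEquiv eU
  let sq : DCoh.restrictD eS.hom ⋙ DCoh.restrictD U'.ι ≅ DCoh.restrictD U.ι ⋙ DCoh.restrictD eU.hom :=
    restrictDSq U'.ι eS.hom eU.hom U.ι (morphismRestrict_ι eS.hom U).symm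
  have hU' : IsCompact (U' : Set (Spec A)) := eS.hom.homeomorph.isCompact_preimage.2 hU
  obtain ⟨M, ⟨eM⟩⟩ := exists_tildeD_iso (isQCohD_of_isPerfect (isPerfect_restrictD eS.hom hE))
  have hM : RPerf M := (perfect_tildeD_iff M).1 (isPerfect_of_iso' eM.symm (isPerfect_restrictD eS.hom hE))
  obtain ⟨R₁, β, γ, hR₁, hβ, hcomp, -⟩ := exists_lift hU' hM (isQCohD_restrictD eS.hom hE')
    ((DCoh.restrictD U'.ι).map eM.hom ≫ sq.hom.app E ≫ (DCoh.restrictD eU.hom).map α ≫ sq.inv.app E')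
  let E₁ := Φ.inverse.obj ((DCoh.tildeD A).obj R₁)
  let ε : (DCoh.restrictD eS.hom).obj E₁ ≅ (DCoh.tildeD A).obj R₁ := Φ.counitIso.app _
  haveI : (DCoh.restrictD eS.hom).Full := inferInstanceAs Φ.functor.Full
  haveI : (DCoh.restrictD eS.hom).Faithful := inferInstanceAs Φ.functor.Faithful
  haveI : (DCoh.restrictD eU.hom).Full := inferInstanceAs Ψ.functor.Full
  haveI : (DCoh.restrictD eU.hom).Faithful := inferInstanceAs Ψ.functor.Faithful
  obtain ⟨βX, hβX⟩ := (DCoh.restrictD eS.hom).map_surjective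
    (ε.hom ≫ (DCoh.tildeD A).map β ≫ eM.hom)
  obtain ⟨γX, hγX⟩ := (DCoh.restrictD eS.hom).map_surjective (ε.hom ≫ γ)
  have key : ∀ {K L : DCoh.D X} (f : K ⟶ L), (DCoh.restrictD eU.hom).map ((DCoh.restrictD U.ι).map f) =
      sq.inv.app K ≫ (DCoh.restrictD U'.ι).map ((DCoh.restrictD eS.hom).map f) ≫ sq.hom.app L :=
    fun {K L} f => by
      exact ((Iso.inv_hom_id_app_assoc sq K _).symm.trans
        (congrArg (sq.inv.app K ≫ ·) (sq.hom.naturality f).symm))
  refine ⟨E₁, βX, γX, isPerfect_restrictD eS.inv ((perfect_tildeD_iff R₁).2 hR₁), ?_, ?_⟩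
  · haveI : IsIso ((DCoh.restrictD eU.hom).map ((DCoh.restrictD U.ι).map βX)) := by
      haveI : IsIso ((DCoh.restrictD U'.ι).map ((DCoh.tildeD A).map β)) := hβ
      rw [key, hβX, Functor.map_comp, Functor.map_comp]
      infer_instance
    exact isIso_of_fully_faithful (DCoh.restrictD eU.hom) _
  · apply (DCoh.restrictD eU.hom).map_injective
    rw [Functor.map_comp, key, key, hβX, hγX, Functor.map_comp, Functor.map_comp, Functor.map_comp,
      ← hcomp]
    simp only [Category.assoc, Functor.comp_map]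
    rw [Iso.inv_hom_id_app]
    erw [Category.comp_id]

/-- Thomason's extension theorem on an affine scheme, with support. -/
theorem exists_extension_affine (hU : IsCompact (U : Set X)) (V : X.Opens) (hV : IsCompact (V : Set X))
    (F : DCoh.D (U : Scheme.{u})) [HasBinaryBiproduct F (F⟦(1 : ℤ)⟧)] (hF : DCoh.IsPerfect F)
    (hFV : IsZero ((DCoh.restrictD (U.ι ⁻¹ᵁ V).ι).obj F)) :
    ∃ G : DCoh.D X, DCoh.IsPerfect G ∧ IsZero ((DCoh.restrictD V.ι).obj G) ∧
      Nonempty ((DCoh.restrictD U.ι).obj G ≅ F ⊞ F⟦(1 : ℤ)⟧) := by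
  let A : CommRingCat.{u} := Γ(X, ⊤)
  haveI : PreservesFiniteLimits (tilde.functor A) := QCoh.tilde_preservesFiniteLimits (R := A)
  let eS : Spec A ≅ X := X.isoSpec.symm
  let U' : (Spec A).Opens := eS.hom ⁻¹ᵁ U
  let eU : (U' : Scheme.{u}) ≅ (U : Scheme.{u}) := asIso (eS.hom ∣_ U)
  let Φ := restrictDEquiv eS
  let Ψ := restrictDEquiv eU
  let sq : DCoh.restrictD eS.hom ⋙ DCoh.restrictD U'.ι ≅ DCoh.restrictD U.ι ⋙ DCoh.restrictD eU.hom :=
    restrictDSq U'.ι eS.hom eU.hom U.ι (morphismRestrict_ι eS.hom U).symm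
  have hU' : IsCompact (U' : Set (Spec A)) := eS.hom.homeomorph.isCompact_preimage.2 hU
  obtain ⟨lT, hlT⟩ := exists_eq_outOpen (eS.hom ⁻¹ᵁ V) (eS.hom.homeomorph.isCompact_preimage.2 hV)
  let F' := (DCoh.restrictD eU.hom).obj F
  have hF' : IsZero ((DCoh.restrictD (U'.ι ⁻¹ᵁ outOpen lT).ι).obj F') :=
    (isZero_restrictD_of_factor ((U'.ι ⁻¹ᵁ outOpen lT).ι ≫ eU.hom) (U.ι ⁻¹ᵁ V) (fun y => by
      have h1 : eS.hom.base (U'.ι.base ((U'.ι ⁻¹ᵁ outOpen lT).ι.base y)) ∈ V := by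
        have h2 : U'.ι.base ((U'.ι ⁻¹ᵁ outOpen lT).ι.base y) ∈ outOpen lT := y.2
        exact (SetLike.ext_iff.1 hlT _).2 h2
      change U.ι.base ((eS.hom ∣_ U).base ((U'.ι ⁻¹ᵁ outOpen lT).ι.base y)) ∈ V
      rw [← Scheme.Hom.comp_apply, morphismRestrict_ι]
      exact h1) F hFV).of_iso ((restrictDComp _ eU.hom _ rfl).app F)
  haveI : HasBinaryBiproduct F' (F'⟦(1 : ℤ)⟧) := by
    haveI := HasBinaryBiproducts.of_hasBinaryProducts (C := DCoh.D (U' : Scheme.{u}))
    infer_instance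
  obtain ⟨G', hG', htG, ⟨eG⟩⟩ := exists_extension hU' lT (isPerfect_restrictD eU.hom hF) hF'
  let G := Φ.inverse.obj ((DCoh.tildeD A).obj G')
  let ε : (DCoh.restrictD eS.hom).obj G ≅ (DCoh.tildeD A).obj G' := Φ.counitIso.app _
  refine ⟨G, isPerfect_restrictD eS.inv ((perfect_tildeD_iff G').2 hG'), ?_, ⟨?_⟩⟩
  · have hz : IsZero ((DCoh.restrictD (outOpen lT).ι).obj ((DCoh.tildeD A).obj G')) :=
      isZero_restrictD_of_support (outOpen lT) _ _ ((isTorsD_iff_support lT G').1 htG) fun _ hx h => h hx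
    refine (isZero_restrictD_of_factor (V.ι ≫ eS.inv) (outOpen lT) (fun y => ?_) _ hz).of_iso
      ((restrictDComp (V.ι ≫ eS.inv) eS.hom V.ι (by simp)).symm.app G ≪≫
        (DCoh.restrictD (V.ι ≫ eS.inv)).mapIso ε)
    rw [← hlT]
    change eS.hom.base (eS.inv.base (V.ι.base y)) ∈ V
    rw [← Scheme.Hom.comp_apply, Iso.inv_hom_id]
    exact y.2
  · haveI : (DCoh.restrictD eU.hom).Full := inferInstanceAs Ψ.functor.Full
    haveI : (DCoh.restrictD eU.hom).Faithful := inferInstanceAs Ψ.functor.Faithful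
    haveI : PreservesBinaryBiproduct F (F⟦(1 : ℤ)⟧) (DCoh.restrictD eU.hom) :=
      preservesBinaryBiproduct_of_preservesBiproduct _ _ _
    exact (DCoh.restrictD eU.hom).preimageIso ((sq.app G).symm ≪≫ (DCoh.restrictD U'.ι).mapIso ε ≪≫
      eG ≪≫ biprod.mapIso (Iso.refl _) (((DCoh.restrictD eU.hom).commShiftIso (1 : ℤ)).app F).symm ≪≫
      ((DCoh.restrictD eU.hom).mapBiprod F (F⟦(1 : ℤ)⟧)).symm)

end Affine

end Groth.Agent.PerfD40
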