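import Groth.Agent.KFlatLib.Scheme.CoEvalPerfect
import Groth.Agent.KFlatLib.Scheme.Derived
import Groth.Agent.KFlatLib.Scheme.Amplitude
import Groth.Agent.KFlatLib.Ring.ProjPair
import Groth.Agent.KFlatLib.Ring.TenExact
import Groth.Agent.KFlatLib.Ring.HasRHom
import Groth.Agent.KFlatLib.Ring.ResLBase
import Groth.Prelude.Def_DerSch

/-!
# Tensor products with pulled back modules, for complexes of relative tor amplitude `[a, b]`
-/

set_option linter.style.haveILetI false
set_option backward.isDefEq.respectTransparency false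

universe u

open CategoryTheory CategoryTheory.Limits AlgebraicGeometry MonoidalCategory

attribute [local instance] HasDerivedCategory.standard

namespace Groth.Agent.PerfD40

open Groth.Agent.KFlatLib

/-- A total tensor complex vanishes in degree `i` when the first factor is concentrated in degree `0`
and the second vanishes in degree `i`. -/
lemma isZero_tensor_X {R : Type u} [CommRing R] (L T : DRing.Cx R) (hL : ∀ p, p ≠ 0 → IsZero (L.X p))
    (i : ℤ) (hT : IsZero (T.X i)) :
    IsZero ((((curriedTensor (ModuleCat.{u} R)).map₂CochainComplex.obj L).obj T).X i) := by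
  rw [IsZero.iff_id_eq_zero]
  refine HomologicalComplex.mapBifunctor.hom_ext fun p q h => ?_
  change p + q = i at h
  refine IsZero.eq_of_src ?_ _ _
  by_cases hp : p = 0
  · obtain rfl : q = i := by omega
    exact ((curriedTensor (ModuleCat.{u} R)).obj (L.X p)).map_isZero hT
  · exact ((curriedTensor (ModuleCat.{u} R)).flip.obj (T.X q)).map_isZero (hL p hp)

/-- A K-flat resolution of a module has no homology against an object of tor amplitude `[a, b]`
outside `[a, b]`. -/
lemma isZero_homology_tensor_of_torAmplitude {R : Type u} [CommRing R] {P N G : DRing.Cx R} (a b : ℤ)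
    (hP : KFlat (curriedTensor (ModuleCat.{u} R)) P) (s : P ⟶ N) [QuasiIso s]
    (hN : ∀ p, p ≠ 0 → IsZero (N.X p)) (hG : DRing.HasTorAmplitudeIn R a b (DRing.toD G))
    (i : ℤ) (hi : i < a ∨ b < i) :
    IsZero ((((curriedTensor (ModuleCat.{u} R)).map₂CochainComplex.obj P).obj G).homology i) := by
  obtain ⟨T, hT, hflat, ⟨e⟩⟩ := hG
  haveI := hasLTen R
  haveI := isIso_ε (A := R) hP G
  haveI := isIso_ε_right (A := R) (kFlat_of_termwiseFlat hflat fun j hj => hT j (Or.inr hj)) N
  haveI : IsIso (DerivedCategory.Q.map s) :=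
    (DerivedCategory.isIso_Q_map_iff_quasiIso _ s).2 inferInstance
  let m : ((DerivedCategory.Q.obj P, DRing.toD G) : Dual.D R × Dual.D R) ≅
      (DerivedCategory.Q.obj N, DRing.toD T) := Iso.prod (asIso (DerivedCategory.Q.map s)) e.symm
  let j : DerivedCategory.Q.obj (((curriedTensor (ModuleCat.{u} R)).map₂CochainComplex.obj P).obj G) ≅
      DerivedCategory.Q.obj (((curriedTensor (ModuleCat.{u} R)).map₂CochainComplex.obj N).obj T) :=
    (asIso ((DTen.ε R).app (P, G))).symm ≪≫ (DTen.LTen₂ R).mapIso m ≪≫ asIso ((DTen.ε R).app (N, T))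
  refine IsZero.of_iso ?_ (((DerivedCategory.homologyFunctorFactors _ i).app _).symm ≪≫
    (DerivedCategory.homologyFunctor _ i).mapIso j ≪≫ (DerivedCategory.homologyFunctorFactors _ i).app _)
  exact ShortComplex.isZero_homology_of_isZero_X₂ _ (isZero_tensor_X N T hN i (hT i hi))

variable {X Y : Scheme.{u}} (f : X ⟶ Y)

/-- A complex of tor amplitude `[a, b]` over the base has, against pulled back resolutions of
modules, cohomology in `[a, b]` only. -/
theorem isZero_homology_tensor_pullCx {F : CochainComplex X.Modules ℤ} {a b : ℤ}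
    (hF : DerSch.HasTorAmplitude f a b F) {P N : CochainComplex Y.Modules ℤ} (hP : DCoh.IsKFlat P)
    (s : P ⟶ N) [QuasiIso s] (hN : ∀ p, p ≠ 0 → IsZero (N.X p)) (i : ℤ) (hi : i < a ∨ b < i) :
    IsZero (((DCoh.tensorCx.obj F).obj ((pullCx f).obj P)).homology i) := by
  refine isZero_of_stalk _ fun x => ?_
  let A := Y.presheaf.stalk (f.base x)
  let φ := (f.stalkMap x).hom
  haveI : (DerSch.stalkFunctor X x).PreservesHomology :=
    Functor.preservesHomology_of_map_exact _ fun T hT => (exact_iff_stalk T).1 hT x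
  haveI : (DerSch.stalkFunctor Y (f.base x)).PreservesHomology :=
    Functor.preservesHomology_of_map_exact _ fun T hT => (exact_iff_stalk T).1 hT (f.base x)
  haveI : QuasiIso ((stalkCx (f.base x)).map s) := inferInstance
  let Fx := (stalkCx x).obj F
  let Ps := (stalkCx (f.base x)).obj P
  let e₁ : (stalkCx x).obj ((DCoh.tensorCx.obj F).obj ((pullCx f).obj P)) ≅
      ((curriedTensor (ModuleCat.{u} (X.presheaf.stalk x))).map₂CochainComplex.obj
        ((DTen.extCx φ).obj Ps)).obj Fx :=
    (stalkCx x).mapIso (braidCx F ((pullCx f).obj P)) ≪≫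
      (stalkTensorCxIso x ((pullCx f).obj P) F).symm ≪≫
      ((curriedTensor (ModuleCat.{u} (X.presheaf.stalk x))).map₂CochainComplex.mapIso
        (stalkPullCxIso f x P)).app Fx
  let u := ((DTen.unitCx φ).app Ps ⊗ₘ 𝟙 ((DTen.resCx φ).obj Fx)) ≫
    DTen.resTenCx φ ((DTen.extCx φ).obj Ps) Fx
  haveI : IsIso u := isIso_unit_resTenCx φ Ps Fx
  have hx := isZero_homology_tensor_of_torAmplitude (R := A) a b
    ((kFlat_iff_stalk P).1 hP (f.base x)) ((stalkCx (f.base x)).map s)
    (fun p hp => (DerSch.stalkFunctor Y (f.base x)).map_isZero (hN p hp))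
    (G := (DTen.resCx φ).obj Fx) ((hF x)) i hi
  have h₂ : IsZero (((DTen.resCx φ).obj ((stalkCx x).obj
      ((DCoh.tensorCx.obj F).obj ((pullCx f).obj P)))).homology i) :=
    hx.of_iso ((HomologicalComplex.homologyFunctor _ _ i).mapIso
      ((DTen.resCx φ).mapIso e₁ ≪≫ (asIso u).symm))
  have h₃ : IsZero ((ModuleCat.restrictScalars φ).obj
      ((DerSch.stalkFunctor X x).obj (((DCoh.tensorCx.obj F).obj ((pullCx f).obj P)).homology i))) :=
    h₂.of_iso ((ModuleCat.restrictScalars φ).mapIso
        ((((DCoh.tensorCx.obj F).obj ((pullCx f).obj P)).sc i).mapHomologyIso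
          (DerSch.stalkFunctor X x)).symm ≪≫
      ((((stalkCx x).obj ((DCoh.tensorCx.obj F).obj ((pullCx f).obj P))).sc i).mapHomologyIso
        (ModuleCat.restrictScalars φ)).symm)
  haveI := ModuleCat.subsingleton_of_isZero h₃
  exact @ModuleCat.isZero_of_subsingleton _ _ _ (this : Subsingleton _)

end Groth.Agent.PerfD40
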