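import Groth.Agent.PerfD40.KoszulTors
import Groth.Agent.PerfD40.HomBoundAffine
import Groth.Agent.H9Misc.DRingDesc

/-!
# Maps from perfect complexes into torsion objects factor through torsion perfect complexes
-/

set_option linter.style.haveILetI false

universe u

open CategoryTheory CategoryTheory.Limits Pretriangulated

attribute [local instance] HasDerivedCategory.standard

namespace Groth.Agent.PerfD40

open Groth.Agent.KFlatLib AlgebraicGeometry

variable {A : CommRingCat.{u}}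

lemma IsTorsD.of_iso {f : A} {N N' : DerivedCategory (ModuleCat.{u} A)} (e : N ≅ N')
    (h : IsTorsD f N) : IsTorsD f N' := fun i x => by
  let eH := ((DerivedCategory.homologyFunctor (ModuleCat.{u} A) i).mapIso e).toLinearEquiv
  obtain ⟨k, hk⟩ := h i (eH.symm x)
  exact ⟨k, eH.symm.injective (by rw [map_smul, hk, map_zero])⟩

section Perf

variable [PreservesFiniteLimits (tilde.functor A)]

lemma locSP_tildeD_iff (M : DerivedCategory (ModuleCat.{u} A)) :
    LocSP ((DCoh.tildeD A).obj M) ↔ RPerf M :=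
  (isPerfect_iff _).symm.trans (perfect_tildeD_iff M)

lemma RPerf.of_iso {M M' : DerivedCategory (ModuleCat.{u} A)} (e : M ≅ M') (h : RPerf M) : RPerf M' := by
  obtain ⟨E, a, b, hz, hf, ⟨eE⟩⟩ := h
  exact ⟨E, a, b, hz, hf, ⟨eE ≪≫ e⟩⟩

lemma rperf_obj₃ (T : Triangle (DerivedCategory (ModuleCat.{u} A))) (hT : T ∈ distTriang _)
    (h₁ : RPerf T.obj₁) (h₂ : RPerf T.obj₂) : RPerf T.obj₃ :=
  (locSP_tildeD_iff _).1 (locSP_obj₃ _ ((DCoh.tildeD A).map_distinguished _ hT)
    ((locSP_tildeD_iff _).2 h₁) ((locSP_tildeD_iff _).2 h₂))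

lemma rperf_obj₁ (T : Triangle (DerivedCategory (ModuleCat.{u} A))) (hT : T ∈ distTriang _)
    (h₂ : RPerf T.obj₂) (h₃ : RPerf T.obj₃) : RPerf T.obj₁ :=
  (locSP_tildeD_iff _).1 ((locSP_two_of_three _ ((DCoh.tildeD A).map_distinguished _ hT)).2.2
    ((locSP_tildeD_iff _).2 h₂) ((locSP_tildeD_iff _).2 h₃))

end Perf

/-- Maps out of a finite projective module in one degree into a torsion object are killed by a power. -/
lemma exists_pow_smul_single (f : A) (i : ℤ) (M : ModuleCat.{u} A) [Module.Finite A M]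
    [Module.Projective A M] (N : DerivedCategory (ModuleCat.{u} A)) (hN : IsTorsD f N)
    (φ : (DerivedCategory.singleFunctor (ModuleCat.{u} A) i).obj M ⟶ N) :
    ∃ k : ℕ, f ^ k • φ = 0 := by
  haveI : Projective M := (IsProjective.iff_projective M).1 inferInstance
  obtain ⟨G, hG⟩ := (inferInstance : Module.Finite A M)
  let y := psiC i M N φ
  choose k hk using fun g : M => hN i (y.hom g)
  let K := G.sup k
  refine ⟨K, (bijective_psiC_of_projective i N).1 ?_⟩
  have hs : f ^ K • φ = (DerivedCategory.singleFunctor (ModuleCat.{u} A) i).map (f ^ K • 𝟙 M) ≫ φ := by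
    rw [Functor.map_smul, CategoryTheory.Functor.map_id, Linear.smul_comp, Category.id_comp]
  rw [hs, psiC_single_map, Linear.smul_comp, Category.id_comp,
    show psiC i M N 0 = 0 by simp [psiC]]
  refine ModuleCat.hom_ext (LinearMap.ext_on hG fun g hg => ?_)
  change f ^ (G.sup k) • y.hom g = 0
  rw [← Nat.sub_add_cancel (Finset.le_sup (f := k) hg), pow_add, mul_smul, hk, smul_zero]

/-- Maps out of a perfect complex into a torsion object are killed by a power. -/
theorem exists_pow_smul_rperf (f : A) (R : DerivedCategory (ModuleCat.{u} A))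
    (hR : RPerf R) (N : DerivedCategory (ModuleCat.{u} A)) (hN : IsTorsD f N) (φ : R ⟶ N) :
    ∃ k : ℕ, f ^ k • φ = 0 := by
  obtain ⟨E, a, b, hz, hf, ⟨e⟩⟩ := hR
  let P : DerivedCategory (ModuleCat.{u} A) → Prop := fun X =>
    ∀ N, IsTorsD f N → ∀ φ : X ⟶ N, ∃ k : ℕ, f ^ k • φ = 0
  have hiso : ∀ {X Y : DerivedCategory (ModuleCat.{u} A)}, (X ≅ Y) → P X → P Y := fun {X Y} e h N hN φ => by
    obtain ⟨k, hk⟩ := h N hN (e.hom ≫ φ)
    exact ⟨k, (cancel_epi e.hom).1 (by rw [comp_zero, Linear.comp_smul, hk])⟩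
  have hext : ∀ T : Triangle (DerivedCategory (ModuleCat.{u} A)), T ∈ distTriang _ →
      P T.obj₁ → P T.obj₃ → P T.obj₂ := fun T hT h₁ h₃ N hN φ => by
    obtain ⟨k, hk⟩ := h₁ N hN (T.mor₁ ≫ φ)
    obtain ⟨ψ, hψ⟩ := Triangle.yoneda_exact₂ T hT (f ^ k • φ) ((Linear.comp_smul ..).trans hk)
    obtain ⟨k', hk'⟩ := h₃ N hN ψ
    exact ⟨k' + k, by rw [pow_add, mul_smul, hψ, ← Linear.comp_smul, hk', comp_zero]⟩
  have hbase : ∀ K : CochainComplex (ModuleCat.{u} A) ℤ, (∀ i, IsZero (K.X i)) →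
      P (DerivedCategory.Q.obj K) := fun K h N _ φ =>
    ⟨0, (DerivedCategory.Q.map_isZero ((IsZero.iff_id_eq_zero _).2
      (HomologicalComplex.hom_ext _ _ fun i => (h i).eq_of_src _ _))).eq_of_src _ _⟩
  obtain ⟨k, hk⟩ : ∃ k : ℕ, f ^ k • (e.hom ≫ φ) = 0 := by
    refine H9Misc.DRingDesc.of_terms P hiso hext a ((b + 1 - a).toNat) b (by omega) E
      (fun i hi => hz i (Or.inr hi)) (fun i _ _ => ?_) (fun K' h1 h2 => hbase K' fun i => ?_) N hN _
    · haveI := (hf i).1; haveI := (hf i).2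
      exact fun N hN φ => exists_pow_smul_single f i _ N hN φ
    · by_cases h : a ≤ i
      · exact h1 i h
      · exact h2 i (hz i (Or.inl (by omega)))
  exact ⟨k, (cancel_epi e.hom).1 (by rw [comp_zero, Linear.comp_smul, hk])⟩

variable [PreservesFiniteLimits (tilde.functor A)]

/-- The cone of a power of an element is torsion for it. -/
lemma isTorsD_cone_smul (f : A) {X C : DerivedCategory (ModuleCat.{u} A)} (k : ℕ) (u₂ : X ⟶ C)
    (u₃ : C ⟶ X⟦(1 : ℤ)⟧) (hT : Triangle.mk (f ^ k • 𝟙 X) u₂ u₃ ∈ distTriang _) :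
    IsTorsD f C := fun i x => by
  let K := DerivedCategory.Q.objPreimage X
  let eK : DerivedCategory.Q.obj K ≅ X := DerivedCategory.Q.objObjPreimageIso X
  have hmap : ∀ (j : ℤ) (y : (DerivedCategory.homologyFunctor (ModuleCat.{u} A) j).obj X),
      (DerivedCategory.homologyFunctor (ModuleCat.{u} A) j).map (f ^ k • 𝟙 X) y = f ^ k • y := by
    intro j y
    let H := DerivedCategory.homologyFunctor (ModuleCat.{u} A) j
    have hc : f ^ k • 𝟙 X = eK.inv ≫ DerivedCategory.Q.map (f ^ k • 𝟙 K) ≫ eK.hom := by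
      rw [Functor.map_smul, CategoryTheory.Functor.map_id, Linear.smul_comp, Category.id_comp,
        Linear.comp_smul, Iso.inv_hom_id]
    rw [hc, Functor.map_comp, Functor.map_comp, ConcreteCategory.comp_apply, ConcreteCategory.comp_apply]
    erw [homology_map_Q_smul]
    exact (map_smul (H.map eK.hom).hom _ _).trans (congrArg (f ^ k • ·)
      (ConcreteCategory.congr_hom ((H.mapIso eK).inv_hom_id) y))
  let H := DerivedCategory.homologyFunctor (ModuleCat.{u} A) i
  let T : Triangle (DerivedCategory (ModuleCat.{u} A)) := Triangle.mk (f ^ k • 𝟙 X) u₂ u₃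
  let d := DerivedCategory.HomologySequence.δ T i (i + 1) rfl
  have hd : d (f ^ k • x) = 0 := by
    have hc := ConcreteCategory.congr_hom
      (DerivedCategory.HomologySequence.δ_comp T hT i (i + 1) rfl) x
    exact (map_smul d.hom _ x).trans ((hmap (i + 1) (d x)).symm.trans hc)
  obtain ⟨y, hy⟩ := (ShortComplex.moduleCat_exact_iff _).1
    (DerivedCategory.HomologySequence.exact₃ T hT i (i + 1) rfl) (f ^ k • x) hd
  refine ⟨k + k, ?_⟩
  rw [pow_add, mul_smul, ← hy]
  refine (map_smul (H.map u₂).hom _ y).symm.trans ((congrArg (H.map u₂).hom (hmap i y).symm).trans ?_)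
  exact (ConcreteCategory.congr_hom (H.map_comp (f ^ k • 𝟙 X) u₂) y).symm.trans (by
    rw [show (f ^ k • 𝟙 X) ≫ u₂ = 0 from comp_distTriang_mor_zero₁₂ T hT, Functor.map_zero]; rfl)

/-- A map from a perfect complex into a torsion object factors through a torsion perfect complex, which
is also torsion for whatever the source is. -/
theorem exists_supported_factor : ∀ (l : List A) (R N : DerivedCategory (ModuleCat.{u} A)),
    RPerf R → (∀ f ∈ l, IsTorsD f N) → ∀ φ : R ⟶ N,
    ∃ (R' : DerivedCategory (ModuleCat.{u} A)) (i : R ⟶ R') (φ' : R' ⟶ N), RPerf R' ∧ i ≫ φ' = φ ∧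
      (∀ f ∈ l, IsTorsD f R') ∧ ∀ g, IsTorsD g R → IsTorsD g R' := by
  intro l
  induction l with
  | nil => exact fun R N hR _ φ => ⟨R, 𝟙 R, φ, hR, Category.id_comp _, by simp, fun _ h => h⟩
  | cons f l ih =>
    intro R N hR hN φ
    obtain ⟨R₁, i₁, φ₁, hR₁, h₁, ht₁, hp₁⟩ := ih R N hR (fun g hg => hN g (List.mem_cons_of_mem _ hg)) φ
    obtain ⟨k, hk⟩ := exists_pow_smul_rperf f R₁ hR₁ N (hN f List.mem_cons_self) φ₁
    obtain ⟨C, p, δ, hT⟩ := distinguished_cocone_triangle (f ^ k • 𝟙 R₁)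
    obtain ⟨φ₂, hφ₂⟩ := Triangle.yoneda_exact₂ _ hT φ₁
      ((Linear.smul_comp ..).trans ((congrArg (f ^ k • ·) (Category.id_comp φ₁)).trans hk))
    have hrot : ∀ g, IsTorsD g R₁ → IsTorsD g C := fun g hg =>
      IsTorsD.of_triangle _ (rot_of_distTriang _ hT) hg (hg.shift 1)
    refine ⟨C, i₁ ≫ p, φ₂, rperf_obj₃ _ hT hR₁ hR₁, ?_, fun g hg => ?_, fun g hg => hrot g (hp₁ g hg)⟩
    · exact (Category.assoc _ _ _).trans ((congrArg (i₁ ≫ ·) hφ₂.symm).trans h₁)
    · rcases List.mem_cons.1 hg with rfl | hg'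
      · exact isTorsD_cone_smul g k _ _ hT
      · exact hrot g (ht₁ g hg')

end Groth.Agent.PerfD40
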